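import Cfsg.Agent.Lib.TwelveCent.Nine.Moves
import Cfsg.Agent.Lib.TwoFourSThree.Embed

/-!
The large alternating subgroup contains the centralisers of its involutions and hence is everything.
-/

set_option autoImplicit false
set_option linter.style.haveILetI false
set_option linter.unusedSectionVars false
set_option maxRecDepth 100000

namespace CfsgLib.TwelveCent

open Equiv CfsgLib.Invol

/-- every 2-subgroup of the model centraliser has a conjugate in the Sylow subgroup -/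
theorem into_S12 {Q : Subgroup P12} (hQX : Q ≤ X12) (hQ : IsPGroup 2 Q) :
    ∃ r ∈ X12, ∀ q ∈ Q, r * q * r⁻¹ ∈ S12 := by
  haveI := Fact.mk Nat.prime_two
  have hcardT : Nat.card (S12.subgroupOf X12) = 512 := by
    rw [Nat.card_congr (Subgroup.subgroupOfEquivOfLe S12_le).toEquiv, card_S12]
  obtain ⟨P, hP⟩ := (IsPGroup.of_card (n := 9) (p := 2) (by rw [hcardT]; norm_num) :
    IsPGroup 2 (S12.subgroupOf X12)).exists_le_sylow
  have hle : Nat.card (P : Subgroup X12) ≤ 512 := by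
    obtain ⟨k, hk⟩ := IsPGroup.iff_card.1 P.isPGroup'
    have hd := Subgroup.card_subgroup_dvd_card (P : Subgroup X12)
    rw [card_X12, hk] at hd
    have hk9 : k ≤ 9 := by
      by_contra hne
      have : 2 ^ 10 ∣ 23040 := (pow_dvd_pow 2 (by omega : 10 ≤ k)).trans hd
      omega
    rw [hk]
    exact (Nat.pow_le_pow_right (by norm_num) hk9).trans (by norm_num)
  have hPT : S12.subgroupOf X12 = (P : Subgroup X12) := Subgroup.eq_of_le_of_card_ge hP (hcardT.symm ▸ hle)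
  obtain ⟨P', hP'⟩ := (hQ.comap_of_injective X12.subtype X12.subtype_injective).exists_le_sylow
  obtain ⟨r, hr⟩ := MulAction.exists_smul_eq X12 P' P
  refine ⟨r, r.2, fun q hq => ?_⟩
  have hmem : r * ⟨q, hQX hq⟩ * r⁻¹ ∈ (P : Subgroup X12) := by
    rw [← hr]
    exact ⟨⟨q, hQX hq⟩, hP' hq, rfl⟩
  rw [← hPT] at hmem
  exact hmem

theorem invol_zpowers {x : P12} (h : x * x = 1) : IsPGroup 2 (Subgroup.zpowers x) := by
  rintro ⟨_, k, rfl⟩
  refine ⟨1, Subtype.ext ?_⟩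
  show (x ^ k) ^ (2 ^ 1) = 1
  rw [pow_one, pow_two, ← (Commute.refl x).mul_zpow, h, one_zpow]

/-- the configuration excluded in the centraliser of a double pair -/
theorem no_pair {x : P12} (hx : x ∈ X12) (h2 : x * x = 1) (hc : x * av 8 = av 8 * x) (h8 : mv x = 8)
    (h8' : mv (x * av 48) = 8)
    (hs : (mv (av 8 * x) = 12 ∧ mv (av 8 * x * av 48) = 8) ∨ (mv (av 8 * x) = 4 ∧ mv (av 8 * x * av 48) = 12)) : False := by
  obtain ⟨r, hr, hrS⟩ := into_S12 ((Subgroup.zpowers_le).2 hx) (invol_zpowers h2)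
  obtain ⟨y, hy, k, hk, e⟩ := hrS x (Subgroup.mem_zpowers x)
  have t := List.all_eq_true.1 (List.all_eq_true.1 tabC y (List.mem_range.2 hy)) k (List.mem_range.2 hk)
  rw [e] at t
  set g := r * x * r⁻¹ with hg
  have hg2 : g * g = 1 := conj_sq h2 r
  rw [chkCs, mv_conj, h8, same_iff.2 hg2, beq_self_eq_true] at t
  simp only [Bool.and_self, Bool.not_true, Bool.false_or, List.all_eq_true, Bool.or_eq_true, beq_iff_eq] at t
  have hf := flips8
  simp only [Bool.and_eq_true, same_iff] at hf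
  have ralp : r * alp * r⁻¹ = alp := by rw [(mem_X12.1 hr).2, mul_inv_cancel_right]
  have hra : ∀ i, r (alp i) = alp (r i) := fun i => DFunLike.congr_fun (mem_X12.1 hr).2 i
  have a01 : alp 0 = 1 ∧ alp 2 = 3 := by decide +kernel
  have hu : r * av 8 * r⁻¹ = flip2 (r 0) (r 2) := by
    rw [hf.1.1.1, show r * (swap 0 1 * swap 2 3) * r⁻¹ = (r * swap 0 1 * r⁻¹) * (r * swap 2 3 * r⁻¹) by group,
      ← swap_apply_apply, ← swap_apply_apply, flip2, ← hra, ← hra, a01.1, a01.2]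
  have hw : r * av 48 * r⁻¹ = alp * flip2 (r 0) (r 2) := by
    rw [← hf.2, show r * (alp * av 8) * r⁻¹ = (r * alp * r⁻¹) * (r * av 8 * r⁻¹) by group, hu, ralp]
  have hne : r 2 ≠ r 0 ∧ r 2 ≠ alp (r 0) := by
    constructor
    · exact fun e => absurd (r.injective e) (by decide)
    · rw [← hra, a01.1]; exact fun e => absurd (r.injective e) (by decide)
  obtain ⟨hd, hn⟩ := flip2_norm (r 0) (r 2) hne.1 hne.2
  have h0 := (r 0).2
  have h2' := (r 2).2
  have key := ((t (min ((r 0).1 / 2) ((r 2).1 / 2)) (List.mem_range.2 (by omega)))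
    (max ((r 0).1 / 2) ((r 2).1 / 2)) (List.mem_range.2 (by omega))).resolve_left
    (by simp only [Bool.not_eq_true', Bool.not_eq_false, Nat.blt_eq]; omega)
  rw [← same_iff.1 hn] at key
  rw [← hu, chkC] at key
  have e1 : g * (r * av 8 * r⁻¹) = r * av 8 * r⁻¹ * g := by rw [hg]; exact conj_comm hc r
  have e2 : mv (g * (alp * (r * av 8 * r⁻¹))) = 8 := by
    rw [hu, ← hw, hg, show r * x * r⁻¹ * (r * av 48 * r⁻¹) = r * (x * av 48) * r⁻¹ by group, mv_conj, h8']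
  have e3 : mv (r * av 8 * r⁻¹ * g) = mv (av 8 * x) := by
    rw [hg, show r * av 8 * r⁻¹ * (r * x * r⁻¹) = r * (av 8 * x) * r⁻¹ by group, mv_conj]
  have e4 : mv (r * av 8 * r⁻¹ * g * (alp * (r * av 8 * r⁻¹))) = mv (av 8 * x * av 48) := by
    rw [hu, ← hw, ← hu, hg, show r * av 8 * r⁻¹ * (r * x * r⁻¹) * (r * av 48 * r⁻¹) = r * (av 8 * x * av 48) * r⁻¹ by group,
      mv_conj]
  rw [same_iff.2 e1, e2, e3, e4] at key
  rcases hs with ⟨a, b⟩ | ⟨a, b⟩ <;> simp [a, b] at key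

variable {G : Type*} [Group G] {φ : X12 →* G}

/-- an element of the model centraliser in the large group -/
noncomputable def upx (d : Bool) (x : P12) (hx : x ∈ X12) : M13 d := ⟨up12 x, up12_M13 (mem_X12.1 hx).1⟩

/-- the large subgroup -/
structure Big (φ : X12 →* G) (d : Bool) (Ψ : M13 d →* G) : Prop where
  nine : Nine φ
  inj : Function.Injective Ψ
  emb : ∀ x (hx : x ∈ X12), Ψ (upx d x hx) = em φ x
  kc : ∀ g ∈ Kc φ, g ∈ Ψ.range
  into : ∀ z ∈ Kc φ, z * z = 1 → ∃ k ∈ Kc φ, ∃ t < 64, k * z * k⁻¹ = a φ t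

theorem Lifted.big [Finite G] {d : Bool} {ψ : M9 d →* G} (L : Lifted φ d ψ) : ∃ Ψ : M13 d →* G, Big φ d Ψ := by
  obtain ⟨Ψ, hinj, hsmall, hemb⟩ := L.exists_big
  refine ⟨Ψ, L.nine, hinj, hemb, fun g hg => ?_, fun z hz hz2 => ?_⟩
  · obtain ⟨m, v, hv, rfl⟩ := L.decomp g hg
    exact mul_mem ⟨_, hsmall m⟩ ⟨_, hemb _ (av_mem (lt4 v hv))⟩
  · obtain ⟨m, v, hv, rfl⟩ := L.decomp z hz
    have hv' := lt4 v hv
    have hc : ψ m * a φ v = a φ v * ψ m := Kc_comm φ (L.mem m) hv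
    have hm2 : m * m = 1 := L.inj (by
      rw [map_mul, map_one]
      calc ψ m * ψ m = ψ m * (ψ m * a φ v) * a φ v := by
            rw [mul_assoc (ψ m), mul_assoc (ψ m), a_sq hv', mul_one]
        _ = ψ m * (a φ v * ψ m) * a φ v := by rw [← hc]
        _ = ψ m * a φ v * (ψ m * a φ v) := by group
        _ = 1 := hz2)
    rcases eq_or_ne m 1 with rfl | h1
    · exact ⟨1, one_mem _, v, hv', by simp⟩
    obtain ⟨π, hπ, x, hx, e⟩ := M9_invol m.2 (congrArg Subtype.val hm2) fun e => h1 (Subtype.ext e)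
    have hx' : x < 64 ∧ x &&& 36 = 0 := (show ∀ y ∈ [8, 24], y < 64 ∧ y &&& 36 = 0 by decide) x hx
    refine ⟨ψ ⟨π, hπ⟩, L.mem _, x ^^^ v, xor_lt hx'.1 hv', ?_⟩
    have hk : ψ ⟨π, hπ⟩ * ψ m * (ψ ⟨π, hπ⟩)⁻¹ = a φ x := by
      rw [← L.pe_apply hπ, ← L.pe_apply m.2, ← L.pe_conj hπ m.2, e, L.pe_ab hx'.1 hx'.2]
    rw [← a_mul hx'.1 hv', ← hk, show ψ ⟨π, hπ⟩ * (ψ m * a φ v) * (ψ ⟨π, hπ⟩)⁻¹ =
      ψ ⟨π, hπ⟩ * ψ m * (ψ ⟨π, hπ⟩)⁻¹ * (ψ ⟨π, hπ⟩ * a φ v * (ψ ⟨π, hπ⟩)⁻¹) by group,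
      Kc_comm φ (L.mem ⟨π, hπ⟩) hv, mul_inv_cancel_right]

namespace Big

variable [Finite G] {d : Bool} {Ψ : M13 d →* G} (B : Big φ d Ψ)
include B

theorem em_mem {x : P12} (hx : x ∈ X12) : em φ x ∈ Ψ.range := ⟨_, B.emb x hx⟩

theorem a_mem' {x : ℕ} (hx : x < 64) : a φ x ∈ Ψ.range := B.em_mem (av_mem hx)

theorem wt_conj {x y : ℕ} (hx : x < 64) (hy : y < 64) (h : IsConj (a φ x) (a φ y)) : wt x = wt y :=
  B.nine.wt_of_isConj hx hy h

/-- involutions of the subgroup are conjugate in it to one of three -/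
theorem classes {m : M13 d} (h2 : m * m = 1) (h1 : m ≠ 1) :
    ∃ h ∈ Ψ.range, ∃ x ∈ [8, 24, 56], x < 64 ∧ h * Ψ m * h⁻¹ = a φ x ∧ mv m.1 = 4 * wt x := by
  obtain ⟨π, hπ, x, hx, e⟩ := M13_invol m.2 (congrArg Subtype.val h2) fun e => h1 (Subtype.ext e)
  have hx' : x < 64 := (show ∀ y ∈ [8, 24, 56], y < 64 by decide) x hx
  refine ⟨Ψ ⟨π, hπ⟩, ⟨_, rfl⟩, x, hx, hx', ?_, ?_⟩
  · rw [← map_inv, ← map_mul, ← map_mul, a, ← B.emb _ (av_mem hx')]
    exact congrArg Ψ (Subtype.ext e)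
  · rw [← mv_conj m.1 π, e, mv_up12, mv_av hx']

/-- the class of an element by the number of letters it moves -/
theorem wt_of {m : M13 d} {x : ℕ} (hx : x < 64) (h : IsConj (Ψ m) (a φ x)) : mv m.1 = 4 * wt x := by
  obtain ⟨g, hg⟩ := isConj_iff.1 h
  have h2 : m * m = 1 := B.inj (by
    rw [map_mul, map_one, show Ψ m = g⁻¹ * a φ x * g by rw [← hg]; group,
      show g⁻¹ * a φ x * g * (g⁻¹ * a φ x * g) = g⁻¹ * (a φ x * a φ x) * g by group, a_sq hx]
    group)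
  rcases eq_or_ne m 1 with rfl | h1
  · have hx0 : x = 0 := B.nine.std.a_inj hx (by norm_num) (by
      rw [← hg, map_one, a_zero]; group)
    subst hx0
    exact (show mv (1 : P13) = 4 * wt 0 by decide +kernel)
  · obtain ⟨k, -, y, -, hy, e, hm⟩ := B.classes h2 h1
    rw [hm, B.wt_conj hy hx ((isConj_iff.2 ⟨k, e⟩).symm.trans h)]

theorem mv_x {x : P12} (hx : x ∈ X12) {y : ℕ} (hy : y < 64) (h : IsConj (em φ x) (a φ y)) : mv x = 4 * wt y := by
  rw [← mv_up12 x]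
  exact B.wt_of (m := upx d x hx) hy (by rwa [B.emb x hx])

/-- the classes of involutions of the subgroup are those of the group -/
theorem conj_in {x0 : ℕ} (hx0 : x0 < 64) (hne : x0 ≠ 0) {h : G} (hh : h ∈ Ψ.range) (hc : IsConj (a φ x0) h) :
    ∃ k ∈ Ψ.range, k * a φ x0 * k⁻¹ = h := by
  have key : ∀ m : M13 d, IsConj (a φ x0) (Ψ m) → ∃ k ∈ Ψ.range, ∃ x ∈ [8, 24, 56], wt x = wt x0 ∧ k * Ψ m * k⁻¹ = a φ x := by
    intro m hm
    obtain ⟨g, hg⟩ := isConj_iff.1 hm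
    have h2 : m * m = 1 := B.inj (by rw [map_mul, map_one, ← hg]; exact conj_sq (a_sq hx0) g)
    have h1 : m ≠ 1 := fun e => hne (B.nine.std.a_inj hx0 (by norm_num) (by
      rw [e, map_one] at hg
      rw [a_zero, show a φ x0 = g⁻¹ * (g * a φ x0 * g⁻¹) * g by group, hg]; group))
    obtain ⟨k, hk, x, hx, hx', e, -⟩ := B.classes h2 h1
    exact ⟨k, hk, x, hx, B.wt_conj hx' hx0 ((isConj_iff.2 ⟨k, e⟩).symm.trans hm.symm), e⟩
  obtain ⟨m, rfl⟩ := hh
  obtain ⟨k, hk, x, hx, hwx, e⟩ := key m hc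
  obtain ⟨k', hk', x', hx', hwx', e'⟩ := key (upx d (av x0) (av_mem hx0)) (by rw [B.emb]; exact IsConj.refl _)
  rw [B.emb] at e'
  have tab : ∀ p ∈ [8, 24, 56], ∀ q ∈ [8, 24, 56], wt p = wt q → p = q := by decide +kernel
  obtain rfl := tab x hx x' hx' (hwx.trans hwx'.symm)
  refine ⟨k⁻¹ * k', mul_mem (inv_mem hk) hk', ?_⟩
  change k⁻¹ * k' * em φ (av x0) * (k⁻¹ * k')⁻¹ = Ψ m
  rw [show k⁻¹ * k' * em φ (av x0) * (k⁻¹ * k')⁻¹ = k⁻¹ * (k' * em φ (av x0) * k'⁻¹) * k by group, e', ← e]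
  group

/-- centralisers follow the classes -/
theorem cent_class {x0 : ℕ} (hx0 : x0 < 64) (hne : x0 ≠ 0) (hc : ∀ g, g * a φ x0 = a φ x0 * g → g ∈ Ψ.range)
    {h : G} (hh : h ∈ Ψ.range) (hconj : IsConj (a φ x0) h) {g : G} (hg : g * h = h * g) : g ∈ Ψ.range := by
  obtain ⟨k, hk, rfl⟩ := B.conj_in hx0 hne hh hconj
  have h1 : k⁻¹ * g * k ∈ Ψ.range := hc _ (by
    calc k⁻¹ * g * k * a φ x0 = k⁻¹ * (g * (k * a φ x0 * k⁻¹)) * k := by group
      _ = a φ x0 * (k⁻¹ * g * k) := by rw [hg]; group)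
  simpa [mul_assoc] using mul_mem (mul_mem hk h1) (inv_mem hk)

/-- an element carrying a class element into the subgroup lies there -/
theorem mem_of_class {x0 : ℕ} (hx0 : x0 < 64) (hne : x0 ≠ 0) (hc : ∀ g, g * a φ x0 = a φ x0 * g → g ∈ Ψ.range)
    {g : G} (hg : g * a φ x0 * g⁻¹ ∈ Ψ.range) : g ∈ Ψ.range := by
  obtain ⟨k, hk, e⟩ := B.conj_in hx0 hne hg (isConj_iff.2 ⟨g, rfl⟩)
  exact mem_of_conj hc ⟨k, hk, e⟩

theorem cent_alp {g : G} (hg : g * a φ 56 = a φ 56 * g) : g ∈ Ψ.range := by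
  rw [a_alp] at hg
  obtain ⟨x, hx, rfl⟩ := B.nine.std.cent g hg
  exact B.em_mem hx

theorem cent_of_alp {h : G} (hh : h ∈ Ψ.range) (hc : IsConj (a φ 56) h) {g : G} (hg : g * h = h * g) : g ∈ Ψ.range :=
  B.cent_class (by norm_num) (by norm_num) (fun _ => B.cent_alp) hh hc hg

theorem conj56 {x : ℕ} (hx : x < 64) (h : wt x = 3) : IsConj (a φ 56) (a φ x) := by
  rw [a_alp]; exact (B.nine.conj_alp hx).2 h

/-- the centraliser of the first four-group -/
theorem cent_VA {g : G} (h1 : g * a φ 1 = a φ 1 * g) (h8 : g * a φ 8 = a φ 8 * g) :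
    g ∈ Ψ.range ∧ (g * g = 1 → ∃ k, k * a φ 1 = a φ 1 * k ∧ k * a φ 8 = a φ 8 * k ∧ ∃ t < 64, k * g * k⁻¹ = a φ t) := by
  have tab : g4 3 (g4 2 1) = 4 ∧ g4 3 (g4 2 8) = 32 ∧ g4 2 (g4 3 4) = 1 ∧ g4 2 (g4 3 32) = 8 ∧
      same (g4P 2 * g4P 3 * (g4P 3 * g4P 2)) 1 = true := by decide +kernel
  obtain ⟨t1, t8, t4, t32, tinv⟩ := tab
  have hA := (acts_g4 (φ := φ) (i := 3) (by norm_num)).mul (acts_g4 (φ := φ) (i := 2) (by norm_num))
  have hB := (acts_g4 (φ := φ) (i := 2) (by norm_num)).mul (acts_g4 (φ := φ) (i := 3) (by norm_num))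
  set e := em φ (g4P 3) * em φ (g4P 2) with he
  set f := em φ (g4P 2) * em φ (g4P 3) with hf
  have hfe : f * e = 1 := by
    rw [he, hf, ← em_mul φ (g4P_mem 2) (g4P_mem 3), ← em_mul φ (g4P_mem 3) (g4P_mem 2),
      ← em_mul φ (mul_mem (g4P_mem 2) (g4P_mem 3)) (mul_mem (g4P_mem 3) (g4P_mem 2)), same_iff.1 tinv, em_one]
  have hfe' : f = e⁻¹ := eq_inv_of_mul_eq_one_left hfe
  have eH : e ∈ Ψ.range := mul_mem (B.em_mem (g4P_mem 3)) (B.em_mem (g4P_mem 2))
  have e1 : e * a φ 1 * e⁻¹ = a φ 4 := (hA 1 (by norm_num)).2.trans (by rw [Function.comp_apply, t1])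
  have e8 : e * a φ 8 * e⁻¹ = a φ 32 := (hA 8 (by norm_num)).2.trans (by rw [Function.comp_apply, t8])
  have hK : e * g * e⁻¹ ∈ Kc φ := (mem_Kc φ).2 ⟨by rw [← e1]; exact conj_comm h1 e, by rw [← e8]; exact conj_comm h8 e⟩
  refine ⟨?_, fun hg2 => ?_⟩
  · simpa [mul_assoc] using mul_mem (mul_mem (inv_mem eH) (B.kc _ hK)) eH
  · obtain ⟨k, hk, t, ht, ek⟩ := B.into _ hK (conj_sq hg2 e)
    obtain ⟨hk4, hk32⟩ := (mem_Kc φ).1 hk
    have f1 : e⁻¹ * a φ 4 * (e⁻¹)⁻¹ = a φ 1 := by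
      rw [← hfe']; exact (hB 4 (by norm_num)).2.trans (by rw [Function.comp_apply, t4])
    have f8 : e⁻¹ * a φ 32 * (e⁻¹)⁻¹ = a φ 8 := by
      rw [← hfe']; exact (hB 32 (by norm_num)).2.trans (by rw [Function.comp_apply, t32])
    refine ⟨e⁻¹ * k * (e⁻¹)⁻¹, by rw [← f1]; exact conj_comm hk4 _, by rw [← f8]; exact conj_comm hk32 _,
      _, (hB t ht).1, ?_⟩
    rw [← (hB t ht).2, ← ek, hfe']
    group

/-- two pairs in different quads are not fused in the centraliser of the first -/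
theorem no_fuse {k0 : G} (hk8 : k0 * a φ 8 = a φ 8 * k0) (hk1 : k0 * a φ 1 * k0⁻¹ = em φ eA) : False := by
  have tX : same (eA * alp) (alp * eA) = true ∧ mv eA = 4 ∧ mv (av 8) = 4 ∧ mv (av 8 * eA) = 4 := by decide +kernel
  obtain ⟨tA, m1, m8, m18⟩ := tX
  have eAX : eA ∈ X12 := g4P_mem 0
  set β := k0⁻¹ * a φ 56 * k0 with hβ
  have hxα : a φ 56 * em φ eA = em φ eA * a φ 56 := by
    rw [a_alp, ← em_mul φ alp_mem eAX, ← em_mul φ eAX alp_mem, same_iff.1 tA]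
  have b1 : β * a φ 1 = a φ 1 * β := by
    rw [show a φ 1 = k0⁻¹ * em φ eA * k0 by rw [← hk1]; group, hβ]
    simpa only [inv_inv] using conj_comm hxα k0⁻¹
  have b8 : β * a φ 8 = a φ 8 * β := by
    rw [show a φ 8 = k0⁻¹ * a φ 8 * k0 by rw [mul_assoc, ← hk8, inv_mul_cancel_left], hβ]
    simpa only [inv_inv] using conj_comm (a_comm (φ := φ) (show 56 < 64 by norm_num) (show 8 < 64 by norm_num)) k0⁻¹
  have b2 : β * β = 1 := by simpa only [inv_inv, hβ] using conj_sq (a_sq (φ := φ) (show 56 < 64 by norm_num)) k0⁻¹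
  obtain ⟨h, hh1, hh8, t, ht, eh⟩ := (B.cent_VA b1 b8).2 b2
  set g0 := k0 * h⁻¹ with hg0
  have hinv : ∀ {z : G}, h * z = z * h → h⁻¹ * z * h = z := fun {z} e => by
    rw [mul_assoc, ← e, inv_mul_cancel_left]
  have g8 : g0 * a φ 8 * g0⁻¹ = a φ 8 := by
    rw [hg0, show k0 * h⁻¹ * a φ 8 * (k0 * h⁻¹)⁻¹ = k0 * (h⁻¹ * a φ 8 * h) * k0⁻¹ by group, hinv hh8, hk8,
      mul_inv_cancel_right]
  have g1 : g0 * a φ 1 * g0⁻¹ = em φ eA := by
    rw [hg0, show k0 * h⁻¹ * a φ 1 * (k0 * h⁻¹)⁻¹ = k0 * (h⁻¹ * a φ 1 * h) * k0⁻¹ by group, hinv hh1, hk1]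
  have gt : g0 * a φ t * g0⁻¹ = a φ 56 := by rw [← eh, hg0, hβ]; group
  have hcen : ∀ s : Fin 64, ∃ x ∈ X12, em φ x = g0 * a φ s.1 * g0⁻¹ := fun s =>
    B.nine.std.cent _ (by rw [← a_alp, ← gt]; exact conj_comm (a_comm s.2 ht) g0)
  choose xs hxs exs using hcen
  have xmul : ∀ s r : Fin 64, xs s * xs r = xs ⟨s.1 ^^^ r.1, xor_lt s.2 r.2⟩ := fun s r =>
    B.nine.std.em_inj (mul_mem (hxs s) (hxs r)) (hxs _) (by
      rw [em_mul φ (hxs s) (hxs r), exs, exs, exs, ← a_mul s.2 r.2]; group)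
  have xinj : Function.Injective xs := fun s r e => Fin.ext (B.nine.std.a_inj s.2 r.2 (by
    have := congrArg (em φ) e
    rw [exs, exs] at this
    exact mul_left_cancel (mul_right_cancel this)))
  have x0 : xs ⟨0, by norm_num⟩ = 1 := B.nine.std.em_inj (hxs _) (one_mem _) (by rw [exs, em_one, a_zero]; group)
  let Q : Subgroup P12 :=
    { carrier := Set.range xs
      one_mem' := ⟨_, x0⟩
      mul_mem' := by rintro _ _ ⟨s, rfl⟩ ⟨r, rfl⟩; exact ⟨_, (xmul s r).symm⟩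
      inv_mem' := by
        rintro _ ⟨s, rfl⟩
        refine ⟨s, eq_inv_of_mul_eq_one_left ?_⟩
        rw [xmul, ← x0]
        exact congrArg xs (Fin.ext (Nat.xor_self _)) }
  have hQ : IsPGroup 2 Q := by
    rintro ⟨_, s, rfl⟩
    refine ⟨1, Subtype.ext ?_⟩
    show (xs s) ^ (2 ^ 1) = 1
    rw [pow_one, pow_two, xmul, ← x0]
    exact congrArg xs (Fin.ext (Nat.xor_self _))
  obtain ⟨r, hr, hrS⟩ := into_S12 (Q := Q) (by rintro _ ⟨s, rfl⟩; exact hxs s) hQ
  have hinj : Function.Injective fun q : P12 => r * q * r⁻¹ := fun p q e => mul_left_cancel (mul_right_cancel e)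
  have hsub := unique_sixty_four ((fun q => r * q * r⁻¹) '' (Q : Set P12))
    (by rintro _ ⟨q, hq, rfl⟩; exact hrS q hq)
    (by
      rw [Set.ncard_image_of_injective _ hinj]
      show (Set.range xs).ncard = 64
      rw [← Set.image_univ, Set.ncard_image_of_injective _ xinj, Set.ncard_univ, Nat.card_fin])
    (by rintro _ ⟨p, hp, rfl⟩ _ ⟨q, hq, rfl⟩; exact ⟨p * q, mul_mem hp hq, by group⟩)
    (by
      rintro _ ⟨p, ⟨i, rfl⟩, rfl⟩ _ ⟨q, ⟨j, rfl⟩, rfl⟩
      refine conj_comm ?_ r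
      rw [xmul, xmul]
      exact congrArg xs (Fin.ext (Nat.xor_comm _ _)))
  obtain ⟨y, hy, ey⟩ := hsub ⟨av 8, ⟨⟨8, by norm_num⟩, B.nine.std.em_inj (hxs _) (av_mem (by norm_num))
    ((exs _).trans g8)⟩, rfl⟩
  obtain ⟨z, hz, ez⟩ := hsub ⟨eA, ⟨⟨1, by norm_num⟩, B.nine.std.em_inj (hxs _) eAX ((exs _).trans g1)⟩, rfl⟩
  have t' := List.all_eq_true.1 tabQ y (List.mem_range.2 hy)
  rw [ey, mv_conj, m8, beq_self_eq_true, Bool.not_true, Bool.false_or] at t'
  have t'' := List.all_eq_true.1 t' z (List.mem_range.2 hz)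
  rw [ez, mv_conj, m1, show r * av 8 * r⁻¹ * (r * eA * r⁻¹) = r * (av 8 * eA) * r⁻¹ by group, mv_conj, m18,
    beq_self_eq_true, Bool.not_true, Bool.false_or] at t''
  have h2 := beq_iff_eq.1 (List.all_eq_true.1 t'' (r 2) (List.mem_finRange _))
  have v2 : av 8 2 = 3 ∧ eA 2 = 2 := by decide +kernel
  simp only [Perm.mul_apply, Perm.coe_inv, Equiv.symm_apply_apply, v2.1, v2.2, beq_self_eq_true, beq_eq_false_iff_ne.2
    (fun e : r 3 = r 2 => absurd (r.injective e) (by decide)), Bool.false_eq_true] at h2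

set_option maxHeartbeats 1000000 in
/-- both kinds of product with a pair lie in the subgroup -/
theorem six {y : G} (hy : y * a φ 8 = a φ 8 * y) (hyc : IsConj (a φ 56) y) (hyu : IsConj (a φ 56) (y * a φ 8)) :
    y ∈ Ψ.range := by
  obtain ⟨gy, hgy⟩ := isConj_iff.1 hyc
  have w56 : wt 56 = 3 ∧ wt 1 = 1 ∧ wt 9 = 1 := by decide +kernel
  have y2 : orderOf y = 2 := hgy ▸ CfsgLib.Invol.conj_orderOf_two (B.nine.std.a_two (by norm_num) (by norm_num)) gy
  have i2 : orderOf (a φ 1) = 2 := B.nine.std.a_two (by norm_num) (by norm_num)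
  set K := Subgroup.centralizer ({a φ 8} : Set G)
  have memK : ∀ {g : G}, g ∈ K ↔ g * a φ 8 = a φ 8 * g := fun {g} => Subgroup.mem_centralizer_singleton_iff
  have hiK : a φ 1 ∈ K := memK.2 (a_comm (by norm_num) (by norm_num))
  have hyK : y ∈ K := memK.2 hy
  have he : Even (orderOf (a φ 1 * y)) := by
    by_contra ho
    obtain ⟨k, hk⟩ := exists_zpow_conj_of_odd i2 y2 (Nat.not_even_iff_odd.1 ho)
    have := B.wt_conj (show 56 < 64 by norm_num) (show 1 < 64 by norm_num) (hyc.trans (isConj_iff.2 ⟨_, hk⟩).symm)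
    omega
  set z := centralInvol (a φ 1) y with hz
  have zc1 : z * a φ 1 = a φ 1 * z := (centralInvol_comm_left i2 y2 he).eq
  have zcy : y * z = z * y := (centralInvol_comm_right i2 y2 he).eq.symm
  have zK : z ∈ K := (Subgroup.closure_le K).2 (by rintro w (rfl | rfl); exacts [hiK, hyK]) (centralInvol_mem_closure _ _)
  have z2 : z * z = 1 := mul_self_of_orderOf_two (orderOf_centralInvol _ _ he)
  have zne : z ≠ 1 := centralInvol_ne_one _ _ he
  obtain ⟨zH, hzconj⟩ := B.cent_VA zc1 (memK.1 zK)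
  obtain ⟨k, hk1, hk8, t, ht, ek⟩ := hzconj z2
  have t0 : t ≠ 0 := fun e => zne (by
    rw [e, a_zero] at ek
    rw [show z = k⁻¹ * (k * z * k⁻¹) * k by group, ek]; group)
  have kfix : ∀ {x : G}, k * x = x * k → k * x * k⁻¹ = x := fun {x} e => by rw [e, mul_inv_cancel_right]
  have cz : IsConj z (a φ t) := isConj_iff.2 ⟨k, ek⟩
  have czu : IsConj (z * a φ 8) (a φ (t ^^^ 8)) := isConj_iff.2 ⟨k, by
    rw [← a_mul ht (by norm_num), ← ek, show k * (z * a φ 8) * k⁻¹ = k * z * k⁻¹ * (k * a φ 8 * k⁻¹) by group, kfix hk8]⟩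
  have ciz : IsConj (a φ 1 * z) (a φ (t ^^^ 1)) := isConj_iff.2 ⟨k, by
    rw [← a_mul ht (by norm_num), ← ek, ← zc1, show k * (z * a φ 1) * k⁻¹ = k * z * k⁻¹ * (k * a φ 1 * k⁻¹) by group,
      kfix hk1]⟩
  have cizu : IsConj (a φ 1 * z * a φ 8) (a φ (t ^^^ 9)) := isConj_iff.2 ⟨k, by
    rw [← a_mul ht (by norm_num), ← ek, ← zc1, show (a φ 9 : G) = a φ 1 * a φ 8 by
        rw [a_mul (show 1 < 64 by norm_num) (show 8 < 64 by norm_num)]; rfl,
      show k * (z * a φ 1 * a φ 8) * k⁻¹ = k * z * k⁻¹ * ((k * a φ 1 * k⁻¹) * (k * a φ 8 * k⁻¹)) by group,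
      kfix hk1, kfix hk8]⟩
  have t19 : t ^^^ 1 < 64 ∧ t ^^^ 9 < 64 ∧ t ^^^ 8 < 64 :=
    ⟨xor_lt ht (by norm_num), xor_lt ht (by norm_num), xor_lt ht (by norm_num)⟩
  have ai8 : a φ 1 * a φ 8 = a φ 9 := a_mul (show 1 < 64 by norm_num) (show 8 < 64 by norm_num)
  have hq := exists_quarter i2 y2 he rfl K hiK hyK
  have hswap : ∀ v, v * v = 1 → a φ 1 * v * (a φ 1 * v) = z → v * a φ 1 * v⁻¹ = a φ 1 * z := fun v hv h => by
    rw [inv_eq_of_mul_eq_one_left hv, ← h, show a φ 1 * (a φ 1 * v * (a φ 1 * v)) = a φ 1 * a φ 1 * (v * a φ 1 * v) by group,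
      a_sq (by norm_num), one_mul]
  have tab := List.all_eq_true.1 tabU t (List.mem_range.2 ht)
  have hwts : (wt (t ^^^ 1) = 1 ∧ wt (t ^^^ 9) = 1) ∨ (wt (t ^^^ 1) = 3 ∧ wt (t ^^^ 9) = 3) := by
    rcases hq with ⟨l, hl, el⟩ | ⟨v, hv, v2, ev, -⟩
    · have el' : l * (y * a φ 8) * l⁻¹ = a φ 1 * z * a φ 8 := by
        rw [← hz] at el
        rw [← el, show l * (y * a φ 8) * l⁻¹ = l * y * l⁻¹ * (l * a φ 8 * l⁻¹) by group, memK.1 hl, mul_inv_cancel_right]
      exact .inr ⟨(B.wt_conj (by norm_num) t19.1 (hyc.trans ((isConj_iff.2 ⟨l, el⟩).trans ciz))).symm.trans w56.1,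
        (B.wt_conj (by norm_num) t19.2.1 (hyu.trans ((isConj_iff.2 ⟨l, el'⟩).trans cizu))).symm.trans w56.1⟩
    · have e := hswap v v2 ev
      have e' : v * (a φ 1 * a φ 8) * v⁻¹ = a φ 1 * z * a φ 8 := by
        rw [← e, show v * (a φ 1 * a φ 8) * v⁻¹ = v * a φ 1 * v⁻¹ * (v * a φ 8 * v⁻¹) by group, memK.1 hv,
          mul_inv_cancel_right]
      exact .inl ⟨(B.wt_conj (by norm_num) t19.1 ((isConj_iff.2 ⟨v, e⟩).trans ciz)).symm.trans w56.2.1,
        (B.wt_conj (by norm_num) t19.2.1 (ai8 ▸ ((isConj_iff.2 ⟨v, e'⟩).trans cizu))).symm.trans w56.2.2⟩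
  simp only [Bool.or_eq_true, beq_iff_eq, t0, false_or, Bool.not_eq_true', ← Bool.not_eq_true, Bool.and_eq_true] at tab
  rcases tab with ((h8 | h3) | h3') | hn
  · -- the central element is the pair itself
    subst h8
    have zu : z = a φ 8 := by
      rw [show z = k⁻¹ * (k * z * k⁻¹) * k by group, ek, mul_assoc, ← hk8, inv_mul_cancel_left]
    rcases hq with ⟨l, hl, el⟩ | ⟨v, hvK, v2, ev, hvc⟩
    · exfalso
      rw [← hz, zu, ai8] at el
      have := B.wt_conj (show 56 < 64 by norm_num) (show 9 < 64 by norm_num) (hyc.trans (isConj_iff.2 ⟨l, el⟩))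
      omega
    · exfalso
      have e := hswap v v2 ev
      rw [zu, ai8] at e
      have tA : g4 0 9 = 1 ∧ g4 0 8 = 8 := by decide +kernel
      obtain ⟨-, s9⟩ := acts_g4 (φ := φ) (i := 0) (by norm_num) 9 (by norm_num)
      obtain ⟨-, s8⟩ := acts_g4 (φ := φ) (i := 0) (by norm_num) 8 (by norm_num)
      rw [tA.1] at s9
      rw [tA.2] at s8
      set s := em φ (g4P 0)
      have hsv : s * v ∈ Ψ.range := (B.cent_VA
        (mul_inv_eq_iff_eq_mul.1 (by rw [show s * v * a φ 1 * (s * v)⁻¹ = s * (v * a φ 1 * v⁻¹) * s⁻¹ by group, e, s9]))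
        (mul_inv_eq_iff_eq_mul.1 (by rw [show s * v * a φ 8 * (s * v)⁻¹ = s * (v * a φ 8 * v⁻¹) * s⁻¹ by group, memK.1 hvK,
          mul_inv_cancel_right, s8]))).1
      obtain ⟨m, hm⟩ : v ∈ Ψ.range := (inv_mul_cancel_left s v) ▸ mul_mem (inv_mem (B.em_mem (g4P_mem 0))) hsv
      obtain ⟨hu13, hi13, hA13⟩ := up12_u13
      have hΨu : Ψ (upx d (av 8) (av_mem (by norm_num))) = a φ 8 := B.emb _ _
      have hΨi : Ψ (upx d (av 1) (av_mem (by norm_num))) = a φ 1 := B.emb _ _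
      have mu : (m : P13) * u13 = u13 * m := by
        rw [← hu13]
        have h8 : av 8 ∈ X12 := av_mem (by norm_num)
        refine congrArg Subtype.val (B.inj ?_ : m * upx d (av 8) h8 = upx d (av 8) h8 * m)
        rw [map_mul, map_mul, hΨu, hm]; exact memK.1 hvK
      have m2 : (m : P13) * m = 1 := congrArg Subtype.val (B.inj (by rw [map_mul, map_one, hm, v2]) : m * m = 1)
      have hmu : ∀ {x : ℕ}, x < 64 → IsConj (v * a φ 8) (a φ x) → mv ((m : P13) * u13) = 4 * wt x := fun {x} hx h => by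
        rw [← hu13]
        exact B.wt_of (m := m * upx d (av 8) (av_mem (by norm_num))) hx (by rwa [map_mul, hΨu, hm])
      have hni : (m : P13) * i13 ≠ i13 * m := fun h => by
        have : v * a φ 1 = a φ 1 * v := by
          rw [← hm, ← hΨi, ← map_mul, ← map_mul]
          exact congrArg Ψ (Subtype.ext (by rw [← hi13] at h; exact h))
        rw [this, mul_inv_cancel_right] at e
        exact absurd (B.nine.std.a_inj (by norm_num) (by norm_num) e) (by norm_num)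
      rcases hvc with ⟨l, hl, el⟩ | ⟨l, hl, el⟩
      · have el' : l * (a φ 1 * a φ 8) * l⁻¹ = v * a φ 8 := by
          rw [← el, show l * (a φ 1 * a φ 8) * l⁻¹ = l * a φ 1 * l⁻¹ * (l * a φ 8 * l⁻¹) by group, memK.1 hl,
            mul_inv_cancel_right]
        have c4 : mv (m : P13) = 4 := by
          rw [B.wt_of (show 1 < 64 by norm_num) (hm ▸ (isConj_iff.2 ⟨l, el⟩).symm), w56.2.1]
        have c4' : mv ((m : P13) * u13) = 4 := by
          rw [hmu (show 9 < 64 by norm_num) (ai8 ▸ (isConj_iff.2 ⟨l, el'⟩).symm), w56.2.2]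
        obtain ⟨σ, hσ, hσu, hσv⟩ := pair_form m.2 m2 mu c4 c4' hni
        refine B.no_fuse (k0 := Ψ ⟨σ, hσ⟩ * l) ?_ ?_
        · have : Ψ ⟨σ, hσ⟩ * a φ 8 = a φ 8 * Ψ ⟨σ, hσ⟩ := by
            rw [← hΨu, ← map_mul, ← map_mul]
            exact congrArg Ψ (Subtype.ext (by rw [← hu13] at hσu; exact hσu))
          rw [mul_assoc, memK.1 hl, ← mul_assoc, this, mul_assoc]
        · rw [show Ψ ⟨σ, hσ⟩ * l * a φ 1 * (Ψ ⟨σ, hσ⟩ * l)⁻¹ = Ψ ⟨σ, hσ⟩ * (l * a φ 1 * l⁻¹) * (Ψ ⟨σ, hσ⟩)⁻¹ by group,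
            el, ← hm, ← map_inv, ← map_mul, ← map_mul, ← B.emb eA (g4P_mem 0)]
          exact congrArg Ψ (Subtype.ext (hσv.trans hA13.symm))
      · have el' : l * (y * a φ 8) * l⁻¹ = v * a φ 8 := by
          rw [← el, show l * (y * a φ 8) * l⁻¹ = l * y * l⁻¹ * (l * a φ 8 * l⁻¹) by group, memK.1 hl, mul_inv_cancel_right]
        refine hni (six_comm m2 mu ?_ ?_)
        · rw [B.wt_of (show 56 < 64 by norm_num) (hm ▸ (hyc.trans (isConj_iff.2 ⟨l, el⟩)).symm), w56.1]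
        · rw [hmu (show 56 < 64 by norm_num) (hyu.trans (isConj_iff.2 ⟨l, el'⟩)).symm, w56.1]
  · exact B.cent_of_alp zH ((B.conj56 ht h3).trans cz.symm) zcy
  · refine B.cent_of_alp (mul_mem zH (B.a_mem' (show 8 < 64 by norm_num)))
      ((B.conj56 t19.2.2 h3').trans czu.symm) ?_
    rw [← mul_assoc, zcy, mul_assoc, hy, ← mul_assoc]
  · exact absurd hwts hn

/-- the centraliser of a pair -/
theorem cent_one {g : G} (hg : g * a φ 8 = a φ 8 * g) : g ∈ Ψ.range := by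
  have tw : wt 49 = 3 ∧ wt 57 = 3 := by decide +kernel
  refine B.mem_of_class (x0 := 49) (by norm_num) (by norm_num) (fun k hk => B.cent_of_alp (B.a_mem' (by norm_num))
    (B.conj56 (by norm_num) tw.1) hk) (B.six ?_ ?_ ?_)
  · have := conj_comm (a_comm (φ := φ) (show 49 < 64 by norm_num) (show 8 < 64 by norm_num)) g
    rwa [show g * a φ 8 * g⁻¹ = a φ 8 by rw [hg, mul_inv_cancel_right]] at this
  · exact (B.conj56 (by norm_num) tw.1).trans (isConj_iff.2 ⟨g, rfl⟩)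
  · refine (B.conj56 (show 57 < 64 by norm_num) tw.2).trans (isConj_iff.2 ⟨g, ?_⟩)
    rw [show (a φ 57 : G) = a φ 49 * a φ 8 by rw [a_mul (show 49 < 64 by norm_num) (show 8 < 64 by norm_num)]; rfl,
      show g * (a φ 49 * a φ 8) * g⁻¹ = g * a φ 49 * g⁻¹ * (g * a φ 8 * g⁻¹) by group, hg, mul_inv_cancel_right]

set_option maxHeartbeats 1000000 in
/-- both kinds of product with a double pair lie in the subgroup -/
theorem eight {y : G} (hy : y * a φ 48 = a φ 48 * y) (hyc : IsConj (a φ 56) y) (hyw : IsConj (a φ 44) (y * a φ 48)) :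
    y ∈ Ψ.range := by
  obtain ⟨gy, hgy⟩ := isConj_iff.1 hyc
  have w : wt 56 = 3 ∧ wt 8 = 1 ∧ wt 44 = 2 := by decide +kernel
  have y2 : orderOf y = 2 := hgy ▸ CfsgLib.Invol.conj_orderOf_two (B.nine.std.a_two (by norm_num) (by norm_num)) gy
  have u2 : orderOf (a φ 8) = 2 := B.nine.std.a_two (by norm_num) (by norm_num)
  set K := Subgroup.centralizer ({a φ 48} : Set G)
  have memK : ∀ {g : G}, g ∈ K ↔ g * a φ 48 = a φ 48 * g := fun {g} => Subgroup.mem_centralizer_singleton_iff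
  have huK : a φ 8 ∈ K := memK.2 (a_comm (by norm_num) (by norm_num))
  have hyK : y ∈ K := memK.2 hy
  have he : Even (orderOf (a φ 8 * y)) := by
    by_contra ho
    obtain ⟨k, hk⟩ := exists_zpow_conj_of_odd u2 y2 (Nat.not_even_iff_odd.1 ho)
    have := B.wt_conj (show 56 < 64 by norm_num) (show 8 < 64 by norm_num) (hyc.trans (isConj_iff.2 ⟨_, hk⟩).symm)
    omega
  set z := centralInvol (a φ 8) y with hz
  have zc8 : z * a φ 8 = a φ 8 * z := (centralInvol_comm_left u2 y2 he).eq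
  have zcy : y * z = z * y := (centralInvol_comm_right u2 y2 he).eq.symm
  have zK : z ∈ K := (Subgroup.closure_le K).2 (by rintro w (rfl | rfl); exacts [huK, hyK]) (centralInvol_mem_closure _ _)
  have z2 : z * z = 1 := mul_self_of_orderOf_two (orderOf_centralInvol _ _ he)
  have zne : z ≠ 1 := centralInvol_ne_one _ _ he
  have au : a φ 8 * a φ 48 = a φ 56 := a_mul (show 8 < 64 by norm_num) (show 48 < 64 by norm_num)
  obtain ⟨x, hx, hxz⟩ := B.nine.std.cent z (by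
    rw [← a_alp, ← au, ← mul_assoc, zc8, mul_assoc, memK.1 zK, ← mul_assoc])
  have xX8 : av 8 ∈ X12 := av_mem (by norm_num)
  have xX48 : av 48 ∈ X12 := av_mem (by norm_num)
  have e48 : z * a φ 48 = em φ (x * av 48) := by rw [em_mul φ hx xX48, hxz]; rfl
  have hq := exists_quarter u2 y2 he rfl K huK hyK
  have hswap : ∀ v, v * v = 1 → a φ 8 * v * (a φ 8 * v) = z → v * a φ 8 * v⁻¹ = a φ 8 * z := fun v hv h => by
    rw [inv_eq_of_mul_eq_one_left hv, ← h, show a φ 8 * (a φ 8 * v * (a φ 8 * v)) = a φ 8 * a φ 8 * (v * a φ 8 * v) by group,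
      a_sq (by norm_num), one_mul]
  have hsig : (IsConj (a φ 8 * z) (a φ 56) ∧ IsConj (a φ 8 * z * a φ 48) (a φ 44)) ∨
      (IsConj (a φ 8 * z) (a φ 8) ∧ IsConj (a φ 8 * z * a φ 48) (a φ 56)) := by
    rcases hq with ⟨l, hl, el⟩ | ⟨v, hv, v2, ev, -⟩
    · rw [← hz] at el
      refine .inl ⟨(hyc.trans (isConj_iff.2 ⟨l, el⟩)).symm, (hyw.trans (isConj_iff.2 ⟨l, ?_⟩)).symm⟩
      rw [← el, show l * (y * a φ 48) * l⁻¹ = l * y * l⁻¹ * (l * a φ 48 * l⁻¹) by group, memK.1 hl, mul_inv_cancel_right]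
    · have e := hswap v v2 ev
      refine .inr ⟨(isConj_iff.2 ⟨v, e⟩).symm, ?_⟩
      rw [← au]
      refine (isConj_iff.2 ⟨v, ?_⟩).symm
      rw [← e, show v * (a φ 8 * a φ 48) * v⁻¹ = v * a φ 8 * v⁻¹ * (v * a φ 48 * v⁻¹) by group, memK.1 hv,
        mul_inv_cancel_right]
  -- not the double pair itself
  have zne' : z * a φ 48 ≠ 1 := fun h => by
    have hzw : z = a φ 48 := by rw [eq_inv_of_mul_eq_one_left h, inv_eq_of_mul_eq_one_left (a_sq (by norm_num))]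
    rw [hzw] at hsig
    rcases hsig with ⟨-, h'⟩ | ⟨h', -⟩
    · rw [mul_assoc, a_sq (by norm_num), mul_one] at h'
      have := B.wt_conj (show 8 < 64 by norm_num) (show 44 < 64 by norm_num) h'
      omega
    · rw [au] at h'
      have := B.wt_conj (show 56 < 64 by norm_num) (show 8 < 64 by norm_num) h'
      omega
  have x2 : x * x = 1 := B.nine.std.em_inj (mul_mem hx hx) (one_mem _) (by rw [em_mul φ hx hx, hxz, z2, em_one])
  have xw2 : x * av 48 * (x * av 48) = 1 := B.nine.std.em_inj (mul_mem (mul_mem hx xX48) (mul_mem hx xX48)) (one_mem _) (by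
    rw [em_mul φ (mul_mem hx xX48) (mul_mem hx xX48), ← e48, em_one, show z * a φ 48 * (z * a φ 48) =
      z * (a φ 48 * z) * a φ 48 by group, ← memK.1 zK, show z * (z * a φ 48) * a φ 48 = z * z * (a φ 48 * a φ 48) by group,
      z2, a_sq (by norm_num), one_mul])
  have hclass : ∀ {p : P12}, p ∈ X12 → p * p = 1 → em φ p ≠ 1 → y * em φ p = em φ p * y → mv p ≠ 8 → y ∈ Ψ.range := by
    intro p hp p2 pne pc hmv
    have hm2 : upx d p hp * upx d p hp = 1 := Subtype.ext (by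
      show up12 p * up12 p = 1
      rw [← map_mul, p2, map_one])
    obtain ⟨h, -, x', hx', hx64, e, hm⟩ := B.classes hm2 fun h => pne (by rw [← B.emb p hp, h, map_one])
    rw [B.emb p hp] at e
    rw [show ((upx d p hp : M13 d) : P13) = up12 p from rfl, mv_up12] at hm
    have hc : IsConj (a φ x') (em φ p) := (isConj_iff.2 ⟨h, e⟩).symm
    have w24 : wt 24 = 2 := by decide +kernel
    simp only [List.mem_cons, List.not_mem_nil, or_false] at hx'
    rcases hx' with rfl | rfl | rfl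
    · exact B.cent_class (by norm_num) (by norm_num) (fun _ => B.cent_one) (B.em_mem hp) hc pc
    · exact absurd (by rw [hm, w24]) hmv
    · exact B.cent_of_alp (B.em_mem hp) hc pc
  by_cases h8 : mv x = 8
  swap
  · exact hclass hx x2 (hxz ▸ zne) (hxz ▸ zcy) h8
  by_cases h8' : mv (x * av 48) = 8
  swap
  · refine hclass (mul_mem hx xX48) xw2 (e48 ▸ zne') ?_ h8'
    rw [← e48, ← mul_assoc, zcy, mul_assoc, hy, ← mul_assoc]
  exfalso
  have xc : x * av 8 = av 8 * x := B.nine.std.em_inj (mul_mem hx xX8) (mul_mem xX8 hx) (by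
    rw [em_mul φ hx xX8, em_mul φ xX8 hx, hxz]; exact zc8)
  refine no_pair hx x2 xc h8 h8' ?_
  have c1 : ∀ {n : ℕ}, n < 64 → IsConj (a φ 8 * z) (a φ n) → mv (av 8 * x) = 4 * wt n := fun {n} hn h =>
    B.mv_x (mul_mem xX8 hx) hn (by rwa [em_mul φ xX8 hx, hxz])
  have c2 : ∀ {n : ℕ}, n < 64 → IsConj (a φ 8 * z * a φ 48) (a φ n) → mv (av 8 * x * av 48) = 4 * wt n :=
    fun {n} hn h => B.mv_x (mul_mem (mul_mem xX8 hx) xX48) hn (by
      rwa [em_mul φ (mul_mem xX8 hx) xX48, em_mul φ xX8 hx, hxz])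
  rcases hsig with ⟨h, h'⟩ | ⟨h, h'⟩
  · exact .inl ⟨by rw [c1 (by norm_num) h, w.1], by rw [c2 (by norm_num) h', w.2.2]⟩
  · exact .inr ⟨by rw [c1 (by norm_num) h, w.2.1], by rw [c2 (by norm_num) h', w.1]⟩

/-- the centraliser of a double pair -/
theorem cent_two {g : G} (hg : g * a φ 48 = a φ 48 * g) : g ∈ Ψ.range := by
  have tw : wt 28 = 3 := by decide +kernel
  refine B.mem_of_class (x0 := 28) (by norm_num) (by norm_num) (fun k hk => B.cent_of_alp (B.a_mem' (by norm_num))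
    (B.conj56 (by norm_num) tw) hk) (B.eight ?_ ?_ ?_)
  · have := conj_comm (a_comm (φ := φ) (show 28 < 64 by norm_num) (show 48 < 64 by norm_num)) g
    rwa [show g * a φ 48 * g⁻¹ = a φ 48 by rw [hg, mul_inv_cancel_right]] at this
  · exact (B.conj56 (by norm_num) tw).trans (isConj_iff.2 ⟨g, rfl⟩)
  · refine isConj_iff.2 ⟨g, ?_⟩
    rw [show (a φ 44 : G) = a φ 28 * a φ 48 by rw [a_mul (show 28 < 64 by norm_num) (show 48 < 64 by norm_num)]; rfl,
      show g * (a φ 28 * a φ 48) * g⁻¹ = g * a φ 28 * g⁻¹ * (g * a φ 48 * g⁻¹) by group, hg, mul_inv_cancel_right]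

theorem cent_any {h : G} (hh : h ∈ Ψ.range) (h2 : orderOf h = 2) {g : G} (hg : g * h = h * g) : g ∈ Ψ.range := by
  obtain ⟨m, rfl⟩ := hh
  have hm2 : m * m = 1 := B.inj (by rw [map_mul, map_one]; exact mul_self_of_orderOf_two h2)
  obtain ⟨k, hk, x, hx, hx', e, -⟩ := B.classes hm2 fun e => ne_one_of_orderOf_two h2 (by rw [e, map_one])
  have hc : IsConj (a φ x) (Ψ m) := (isConj_iff.2 ⟨k, e⟩).symm
  simp only [List.mem_cons, List.not_mem_nil, or_false] at hx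
  rcases hx with rfl | rfl | rfl
  · exact B.cent_class (by norm_num) (by norm_num) (fun _ => B.cent_one) ⟨m, rfl⟩ hc hg
  · refine B.cent_class (by norm_num) (by norm_num) (fun k' hk' => ?_) ⟨m, rfl⟩ hc hg
    obtain ⟨n, hn, e'⟩ : ∃ n ∈ Ψ.range, n * a φ 48 * n⁻¹ = a φ 24 := by
      have t : g4 3 (g4 2 48) = 24 := by decide +kernel
      obtain ⟨-, hA⟩ := ((acts_g4 (φ := φ) (i := 3) (by norm_num)).mul (acts_g4 (φ := φ) (i := 2) (by norm_num))) 48 (by norm_num)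
      rw [Function.comp_apply, t] at hA
      exact ⟨_, mul_mem (B.em_mem (g4P_mem 3)) (B.em_mem (g4P_mem 2)), hA⟩
    exact B.cent_class (by norm_num) (by norm_num) (fun _ => B.cent_two) (B.a_mem' (show 24 < 64 by norm_num))
      (isConj_iff.2 ⟨n, e'⟩) hk'
  · exact B.cent_of_alp ⟨m, rfl⟩ hc hg

/-- the subgroup is everything -/
theorem top : Ψ.range = ⊤ := by
  refine (Subgroup.eq_top_iff' _).2 fun g => ?_
  refine B.mem_of_class (x0 := 56) (by norm_num) (by norm_num) (fun _ => B.cent_alp) ?_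
  refine TwoFourSThree.mem_of_cents (a := a φ 8) (B.nine.std.a_two (by norm_num) (by norm_num)) (B.a_mem' (by norm_num))
    (CfsgLib.Invol.conj_orderOf_two (B.nine.std.a_two (by norm_num) (by norm_num)) g)
    (fun w hw h2 k hk => B.cent_any hw h2 hk) fun h => ?_
  have t : wt 8 = 1 ∧ wt 56 = 3 := by decide +kernel
  have := B.wt_conj (show 8 < 64 by norm_num) (show 56 < 64 by norm_num) (h.trans (isConj_iff.2 ⟨g, rfl⟩).symm)
  omega

end Big

theorem M13_true : M13 true = alternatingGroup (Fin 13) :=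
  Subgroup.ext fun g => ⟨fun h => Perm.mem_alternatingGroup.2 h.1, fun h => ⟨Perm.mem_alternatingGroup.1 h, .inl rfl⟩⟩

theorem M13_false : Nonempty (alternatingGroup (Fin 12) ≃* M13 false) := by
  refine ⟨MulEquiv.ofBijective ((up12.comp (alternatingGroup (Fin 12)).subtype).codRestrict (M13 false)
    fun a => up12_M13 (Perm.mem_alternatingGroup.1 a.2)) ⟨fun p q e => ?_, fun ⟨y, hy⟩ => ?_⟩⟩
  · exact Subtype.ext (up12_inj (congrArg Subtype.val e))
  · obtain ⟨r, rfl⟩ := exists_up12 (hy.2.resolve_left (by decide))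
    exact ⟨⟨r, Perm.mem_alternatingGroup.2 ((sign_up12 r).symm.trans hy.1)⟩, rfl⟩

/-- **The group is alternating of degree twelve or thirteen.** -/
theorem Nine.alt_twelve_thirteen [Finite G] (Y : Nine φ) :
    Nonempty (G ≃* alternatingGroup (Fin 12)) ∨ Nonempty (G ≃* alternatingGroup (Fin 13)) := by
  obtain ⟨d, ψ, h1, h2, h3, h4, h5⟩ := Y.exists_lift
  obtain ⟨Ψ, B⟩ := (⟨Y, h1, h2, h3, h4, h5⟩ : Lifted φ d ψ).big
  let e : M13 d ≃* G := MulEquiv.ofBijective Ψ ⟨B.inj, MonoidHom.range_eq_top.1 B.top⟩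
  rcases Bool.eq_false_or_eq_true d with rfl | rfl
  · exact .inr ⟨e.symm.trans (MulEquiv.subgroupCongr M13_true)⟩
  · obtain ⟨f⟩ := M13_false
    exact .inl ⟨e.symm.trans f.symm⟩

end CfsgLib.TwelveCent
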