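import Cfsg.Agent.Lib.TwelveCent.Nine.Lift

/-!
The alternating factor and its image under the exchange of two quads satisfy Carmichael's relations.
-/

set_option autoImplicit false
set_option linter.style.haveILetI false
set_option linter.unusedSectionVars false
set_option maxRecDepth 100000

namespace CfsgLib.TwelveCent

open Equiv

/-- equality of permutations of nine letters as a test -/
def eq9 (g h : P9) : Bool := (List.finRange 9).all fun i => g i == h i

theorem eq9_iff {g h : P9} : eq9 g h = true ↔ g = h := by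
  rw [eq9, List.all_eq_true]
  exact ⟨fun e => Equiv.ext fun i => by simpa using e i (List.mem_finRange i), fun e i _ => by simp [e]⟩

/-- the three-cycle through `0`, `1` and `p` -/
def c9 (p : Fin 9) : P9 := swap 1 0 * swap 0 p

/-- `(06)(17)` -/
def gP : P8 := swap 0 6 * swap 1 7
/-- `(04)(15)` -/
def hP : P8 := swap 0 4 * swap 1 5
/-- `(04)(15)(26)(37)` -/
def qP : P8 := swap 0 4 * swap 1 5 * swap 2 6 * swap 3 7

/-- the cycle on the second quad -/
def d9 : P9 := up89 gP * c9 4 * up89 gP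

/-- the part of a coordinate on the first two quads -/
def ab (x : ℕ) : P8 := uP ^ (x / 8 % 2) * vP ^ (x % 2) * rP ^ (x / 2 % 2) * (sP * uP) ^ (x / 16 % 2)

theorem c9_even : ((List.finRange 9).all fun p => p == 0 || p == 1 || decide (Perm.sign (c9 p) = 1)) = true ∧
    (inT gP && inT hP && inT qP) = true ∧ (∀ p : Fin 9, p ≠ 0 → p ≠ 1 → p ≠ 8 → c9 p 8 = 8) ∧
    same (up8 qP) qAB = true := by decide +kernel

theorem ab_table : ((List.range 64).all fun x => inT (ab x) && same (up8 (ab x) * av ((x &&& 36))) (av x) &&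
    eq9 (c9 2 * up89 (ab x) * (c9 2)⁻¹) (up89 (ab (rot x))) && (rot x &&& 36) == (x &&& 36) &&
    [0, 4, 32, 36].contains (x &&& 36)) = true := by decide +kernel

theorem comm_table : ((List.range 64).all fun x => pC (rot (pC (rot (rot x)))) == x &&
    (!(pC x == x && (rot (rot x) ^^^ rot x ^^^ x) == 0) || [0, 1, 8, 9].contains x)) = true := by decide +kernel

/-- permutations conjugating the exchange, multiplied by an element of the first four-group, into the abelian subgroup -/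
def gl : List P12 :=
  [1, swap 2 4 * swap 3 5 * swap 6 10 * swap 7 11, swap 2 8 * swap 3 9, swap 0 4 * swap 1 5 * swap 2 8 * swap 3 9,
    swap 2 4 * swap 3 5, swap 6 8 * swap 7 9, swap 2 8 * swap 3 9 * swap 6 8 * swap 7 9,
    swap 2 4 * swap 3 5 * swap 6 8 * swap 7 9, swap 0 8 * swap 1 9, swap 0 4 * swap 1 5]

theorem twist_class : ([0, 1, 8, 9].all fun x => (gl ++ gl.flatMap fun g => gl.map (g * ·)).any fun g =>
    inX g && inA (g * (av x * qBC) * g⁻¹) && wt (dA (g * (av x * qBC) * g⁻¹)) == (bif x == 0 then 2 else 3)) = true := by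
  decide +kernel

variable {G : Type*} [Group G] {φ : X12 →* G}

/-- an embedding of the alternating factor -/
structure Lifted (φ : X12 →* G) (d : Bool) (ψ : M9 d →* G) : Prop where
  nine : Nine φ
  inj : Function.Injective ψ
  mem : ∀ m, ψ m ∈ Kc φ
  decomp : ∀ k ∈ Kc φ, ∃ m, ∃ v ∈ [0, 4, 32, 36], k = ψ m * a φ v
  sep : ∀ m, ∀ v ∈ [0, 4, 32, 36], ψ m = a φ v → m = 1
  agree : ∀ g : T8, ψ ⟨up89 g.1, up89_M9 (mem_T8.1 g.2).1⟩ = em φ (up8 g.1)

open scoped _root_.Classical in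
/-- the factor on all permutations -/
noncomputable def pe {d : Bool} (ψ : M9 d →* G) (g : P9) : G := if h : g ∈ M9 d then ψ ⟨g, h⟩ else 1

namespace Lifted

variable [Finite G] {d : Bool} {ψ : M9 d →* G} (L : Lifted φ d ψ)
include L

theorem pe_apply {g : P9} (h : g ∈ M9 d) : pe ψ g = ψ ⟨g, h⟩ := by rw [pe, dif_pos h]

theorem pe_mul {g h : P9} (hg : g ∈ M9 d) (hh : h ∈ M9 d) : pe ψ (g * h) = pe ψ g * pe ψ h := by
  rw [L.pe_apply hg, L.pe_apply hh, L.pe_apply (mul_mem hg hh), ← map_mul]; rfl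

theorem pe_inv {g : P9} (hg : g ∈ M9 d) : pe ψ g⁻¹ = (pe ψ g)⁻¹ := by
  rw [L.pe_apply hg, L.pe_apply (inv_mem hg), ← map_inv]; rfl

theorem pe_one : pe ψ 1 = 1 := by rw [L.pe_apply (one_mem _)]; exact map_one ψ

theorem pe_conj {g h : P9} (hg : g ∈ M9 d) (hh : h ∈ M9 d) :
    pe ψ (g * h * g⁻¹) = pe ψ g * pe ψ h * (pe ψ g)⁻¹ := by
  rw [L.pe_mul (mul_mem hg hh) (inv_mem hg), L.pe_mul hg hh, L.pe_inv hg]

theorem pe_inj {g h : P9} (hg : g ∈ M9 d) (hh : h ∈ M9 d) (e : pe ψ g = pe ψ h) : g = h := by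
  rw [L.pe_apply hg, L.pe_apply hh] at e
  exact congrArg Subtype.val (L.inj e)

theorem pe_comm {g h : P9} (hg : g ∈ M9 d) (hh : h ∈ M9 d) (e : g * h = h * g) :
    pe ψ g * pe ψ h = pe ψ h * pe ψ g := by rw [← L.pe_mul hg hh, e, L.pe_mul hh hg]

theorem pe_up {g : P8} (hg : g ∈ T8) : pe ψ (up89 g) = em φ (up8 g) := by
  rw [L.pe_apply (up89_M9 (mem_T8.1 hg).1)]
  exact L.agree ⟨g, hg⟩

theorem pe_Vc {g : P9} (hg : g ∈ M9 d) {v : ℕ} (hv : v ∈ [0, 4, 32, 36]) : pe ψ g * a φ v = a φ v * pe ψ g := by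
  rw [L.pe_apply hg]; exact Kc_comm φ (L.mem _) hv

theorem c9_mem {p : Fin 9} (h0 : p ≠ 0) (h1 : p ≠ 1) (h8 : d = true ∨ p ≠ 8) : c9 p ∈ M9 d := by
  obtain ⟨he, -, hf, -⟩ := c9_even
  have := List.all_eq_true.1 he p (List.mem_finRange p)
  simp only [Bool.or_eq_true, beq_iff_eq, h0, h1, false_or, decide_eq_true_eq] at this
  exact ⟨this, h8.imp id (hf p h0 h1)⟩

theorem pe_a {x : ℕ} (hx : x < 64) : a φ x = pe ψ (up89 (ab x)) * a φ (x &&& 36) := by
  have t := List.all_eq_true.1 ab_table x (List.mem_range.2 hx)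
  simp only [Bool.and_eq_true, same_iff, List.contains_eq_mem, decide_eq_true_eq] at t
  rw [L.pe_up (inT_iff.1 t.1.1.1.1), a, a, ← em_mul φ (up8_mem (inT_iff.1 t.1.1.1.1)) (av_mem (lt4 _ t.2)), t.1.1.1.2]

/-- the turn by the first cycle -/
theorem acts_c2 : Acts φ (pe ψ (c9 2)) rot := by
  intro x hx
  have t := List.all_eq_true.1 ab_table x (List.mem_range.2 hx)
  simp only [Bool.and_eq_true, same_iff, eq9_iff, beq_iff_eq, List.contains_eq_mem, decide_eq_true_eq] at t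
  have hr : rot x < 64 := by
    have := List.all_eq_true.1 rot_table x (List.mem_range.2 hx)
    simp only [Bool.and_eq_true, Nat.blt_eq] at this
    exact this.1
  refine ⟨hr, ?_⟩
  have hc := L.c9_mem (p := 2) (by decide) (by decide) (.inr (by decide))
  have hu : up89 (ab x) ∈ M9 d := up89_M9 (mem_T8.1 (inT_iff.1 t.1.1.1.1)).1
  have e : pe ψ (up89 (ab (rot x))) = pe ψ (c9 2) * pe ψ (up89 (ab x)) * (pe ψ (c9 2))⁻¹ := by
    rw [← L.pe_conj hc hu, t.1.1.2]
  have C : pe ψ (c9 2) * a φ (x &&& 36) = a φ (x &&& 36) * pe ψ (c9 2) := L.pe_Vc hc t.2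
  rw [L.pe_a hx, L.pe_a hr, t.1.2, e]
  calc pe ψ (c9 2) * (pe ψ (up89 (ab x)) * a φ (x &&& 36)) * (pe ψ (c9 2))⁻¹
      = pe ψ (c9 2) * pe ψ (up89 (ab x)) * (pe ψ (c9 2))⁻¹ * (pe ψ (c9 2) * a φ (x &&& 36)) * (pe ψ (c9 2))⁻¹ := by
        group
    _ = _ := by rw [C]; group

omit L in
theorem qBC_sq : em φ qBC * em φ qBC = 1 := by
  rw [← em_mul φ (show qBC ∈ X12 from g4P_mem 3) (show qBC ∈ X12 from g4P_mem 3),
    show qBC * qBC = 1 from same_iff.1 (by decide +kernel), em_one]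

/-- the exchange centralises the turn of the first quad -/
theorem w_c2 : em φ qBC * pe ψ (c9 2) = pe ψ (c9 2) * em φ qBC := by
  have hc := L.c9_mem (p := 2) (by decide) (by decide) (.inr (by decide))
  set h := pe ψ (c9 2) with hh
  set w := em φ qBC with hw
  have h3 : h * h * h = 1 := by
    rw [hh, ← L.pe_mul hc hc, ← L.pe_mul (mul_mem hc hc) hc, show c9 2 * c9 2 * c9 2 = 1 from eq9_iff.1 (by decide +kernel),
      L.pe_one]
  have hw2 : w * w = 1 := qBC_sq
  have hA : Acts φ h rot := L.acts_c2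
  have hW : Acts φ w pC := acts_g4 (φ := φ) (i := 3) (by norm_num)
  have hi : h⁻¹ = h * h := inv_eq_of_mul_eq_one_left h3
  -- the commutator centralises the abelian subgroup
  obtain ⟨x, hx, ex⟩ := L.nine.std.cent_E64 (g := w * (h * w * (h * h))) fun x hx => by
    obtain ⟨-, e⟩ := (hW.mul ((hA.mul hW).mul (hA.mul hA))) x hx
    have t := List.all_eq_true.1 comm_table x (List.mem_range.2 hx)
    simp only [Bool.and_eq_true, beq_iff_eq] at t
    simp only [Function.comp_apply] at e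
    rw [t.1] at e
    exact mul_inv_eq_iff_eq_mul.1 e
  have hconj : h * w * h⁻¹ = w * a φ x := by
    rw [ex, hi, ← mul_assoc w, hw2, one_mul]
  obtain ⟨hpx, ep⟩ := hW x hx
  rw [inv_eq_of_mul_eq_one_left hw2] at ep
  have hfix : pC x = x := by
    refine L.nine.std.a_inj hpx hx ?_
    rw [← ep]
    have e1 : w * a φ x * (w * a φ x) = 1 := by rw [← hconj, conj_sq hw2]
    calc w * a φ x * w = w * a φ x * (w * a φ x) * (a φ x)⁻¹ := by group
      _ = a φ x := by rw [e1, one_mul, inv_eq_of_mul_eq_one_left (a_sq hx)]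
  obtain ⟨hr1, er1⟩ := hA x hx
  obtain ⟨hr2, er2⟩ := hA _ hr1
  have h0 : rot (rot x) ^^^ rot x ^^^ x = 0 := by
    have step : ∀ y, h * (w * y) * h⁻¹ = w * a φ x * (h * y * h⁻¹) := fun y => by rw [← hconj]; group
    have e : w = w * a φ x * (a φ (rot x) * a φ (rot (rot x))) := by
      calc w = h * (h * (h * w * h⁻¹) * h⁻¹) * h⁻¹ := by
            rw [show h * (h * (h * w * h⁻¹) * h⁻¹) * h⁻¹ = (h * h * h) * w * (h * h * h)⁻¹ by group, h3]; group
        _ = h * (w * a φ x * a φ (rot x)) * h⁻¹ := by rw [hconj, step, er1]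
        _ = _ := by
          rw [mul_assoc w, step, show h * (a φ x * a φ (rot x)) * h⁻¹ = (h * a φ x * h⁻¹) * (h * a φ (rot x) * h⁻¹) by group,
            er1, er2]
    have e2 : a φ x * (a φ (rot x) * a φ (rot (rot x))) = 1 :=
      (mul_left_cancel (a := w) ((mul_one w).trans (e.trans (mul_assoc _ _ _)))).symm
    rw [a_mul hr1 hr2, a_mul hx (xor_lt hr1 hr2), ← a_zero] at e2
    rw [Nat.xor_comm (rot (rot x)), Nat.xor_comm _ x]
    exact L.nine.std.a_inj (xor_lt hx (xor_lt hr1 hr2)) (by norm_num) e2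
  have t := List.all_eq_true.1 comm_table x (List.mem_range.2 hx)
  simp only [Bool.and_eq_true, beq_iff_eq, hfix, h0, List.contains_eq_mem] at t
  -- the class decides
  have cls : ∀ z ∈ [0, 1, 8, 9], ∃ y < 64, IsConj (a φ z * w) (a φ y) ∧ wt y = bif z == 0 then 2 else 3 := by
    intro z hz
    have h := List.all_eq_true.1 twist_class z hz
    obtain ⟨g, -, hg⟩ := List.any_eq_true.1 h
    simp only [Bool.and_eq_true, beq_iff_eq] at hg
    obtain ⟨⟨hgX, hgA⟩, hgw⟩ := hg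
    obtain ⟨y, hy, ey⟩ := inA_iff.1 hgA
    have hz64 : z < 64 := (by decide : ∀ v ∈ [0, 1, 8, 9], v < 64) z hz
    refine ⟨y, hy, isConj_iff.2 ⟨em φ g, ?_⟩, ?_⟩
    · rw [a, a, ey, em_conj φ (inX_iff.1 hgX) (mul_mem (av_mem hz64) (show qBC ∈ X12 from g4P_mem 3)),
        em_mul φ (av_mem hz64) (show qBC ∈ X12 from g4P_mem 3)]
    · rw [← hgw, ← ey, beq_iff_eq.1 (List.all_eq_true.1 dA_table y (List.mem_range.2 hy))]
  have tx : x ∈ [0, 1, 8, 9] := by simpa using t.2
  obtain ⟨y, hy, hc, hwy⟩ := cls x tx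
  obtain ⟨y0, hy0, hc0, hw0⟩ := cls 0 (by simp)
  have hxw : IsConj w (a φ x * w) := isConj_iff.2 ⟨w * h, by
    rw [show w * h * w * (w * h)⁻¹ = w * (h * w * h⁻¹) * w⁻¹ by group, hconj, ← mul_assoc, hw2, one_mul,
      inv_eq_of_mul_eq_one_left hw2]⟩
  rw [a_zero, one_mul] at hc0
  have heq := L.nine.wt_of_isConj hy0 hy (hc0.symm.trans (hxw.trans hc))
  rw [hw0, hwy] at heq
  have hx0 : x = 0 := by
    by_contra hne
    rw [beq_eq_false_iff_ne.2 hne] at heq
    simp at heq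
  rw [hx0, a_zero, mul_one, mul_inv_eq_iff_eq_mul] at hconj
  exact hconj.symm

end Lifted

end CfsgLib.TwelveCent
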