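import Cfsg.Agent.Lib.TwelveCent.Nine.Rel

/-!
The cycles on the second quad and their translates on the third satisfy the relations.
-/

set_option autoImplicit false
set_option linter.style.haveILetI false
set_option linter.unusedSectionVars false
set_option maxRecDepth 100000

namespace CfsgLib.TwelveCent

open Equiv

theorem d9_even : (decide (Perm.sign d9 = 1) && (d9 8 == 8) && eq9 (d9 * up89 vP) (up89 vP * d9) &&
    eq9 (d9 * up89 uP) (up89 uP * d9) && eq9 (c9 4 * c9 4 * c9 4) 1 && eq9 (d9⁻¹ * up89 uP) (up89 uP * d9⁻¹)) = true := by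
  decide +kernel

variable {G : Type*} [Group G] {φ : X12 →* G}

namespace Lifted

variable [Finite G] {d : Bool} {ψ : M9 d →* G} (L : Lifted φ d ψ)
include L

omit L in
theorem qAB_sq : em φ qAB * em φ qAB = 1 := by
  rw [← em_mul φ (show qAB ∈ X12 from g4P_mem 2) (show qAB ∈ X12 from g4P_mem 2),
    show qAB * qAB = 1 from same_iff.1 (by decide +kernel), em_one]

omit L in
theorem d9_mem : d9 ∈ M9 d := by
  have h := d9_even
  simp only [Bool.and_eq_true, decide_eq_true_eq, beq_iff_eq] at h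
  exact ⟨h.1.1.1.1.1, .inr h.1.1.1.1.2⟩

/-- conjugation by the translated cycle preserves the last four-group -/
theorem h_turns {e : P9} (he : e ∈ [d9, d9⁻¹]) {x : ℕ} (hx : x ∈ [4, 32, 36]) :
    ∃ y ∈ [0, 4, 32, 36], em φ qBC * pe ψ e * em φ qBC * a φ x * (em φ qBC * pe ψ e * em φ qBC)⁻¹ = a φ y := by
  have hem : e ∈ M9 d := by
    simp only [List.mem_cons, List.not_mem_nil, or_false] at he
    rcases he with rfl | rfl
    exacts [d9_mem, inv_mem d9_mem]
  have hq := qBC_sq (φ := φ)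
  set w := em φ qBC with hw
  set h := w * pe ψ e * w with hh
  have base : ∀ x ∈ [4, 32], ∃ y ∈ [0, 4, 32, 36], h * a φ x * h⁻¹ = a φ y := by
    intro x hx
    have hx' : x < 64 := (by decide : ∀ u ∈ [4, 32], u < 64) x hx
    obtain ⟨-, ew⟩ := w_a (φ := φ) hx'
    have hpx : pC x ∈ [2, 16] := by simpa using List.all_eq_true.1 into_third.1 x hx
    obtain ⟨g, hg, eg⟩ : ∃ g, g ∈ [rP, sP * uP] ∧ ab (pC x) = g := by
      have hav := ab_values
      simp only [Bool.and_eq_true, eq8_iff] at hav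
      simp only [List.mem_cons, List.not_mem_nil, or_false] at hpx
      rcases hpx with e | e <;> rw [e]
      exacts [⟨rP, by simp, hav.1.1.2⟩, ⟨sP * uP, by simp, hav.1.2⟩]
    have t := List.all_eq_true.1 (List.all_eq_true.1 d9_turns e he) g hg
    obtain ⟨g', hg', eg'⟩ := List.any_eq_true.1 t
    rw [eq9_iff] at eg'
    obtain ⟨z, hz, ez⟩ : ∃ z, z ∈ [2, 16, 18] ∧ ab z = g' := by
      have hav := ab_values
      simp only [Bool.and_eq_true, eq8_iff] at hav
      simp only [List.mem_cons, List.not_mem_nil, or_false] at hg'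
      rcases hg' with rfl | rfl | rfl
      exacts [⟨2, by simp, hav.1.1.2⟩, ⟨16, by simp, hav.1.2⟩, ⟨18, by simp, hav.2⟩]
    obtain ⟨hz', hz0, hz4⟩ := (by decide : ∀ u ∈ [2, 16, 18], u < 64 ∧ u &&& 36 = 0 ∧ pC u ∈ [0, 4, 32, 36]) z hz
    obtain ⟨hp', hp0⟩ := (by decide : ∀ u ∈ [2, 16], u < 64 ∧ u &&& 36 = 0) (pC x) hpx
    refine ⟨pC z, hz4, ?_⟩
    obtain ⟨-, ez'⟩ := w_a (φ := φ) hz'
    rw [← hw] at ew ez'
    rw [← ez', ← L.pe_ab hz' hz0, ez, ← eg', ← eg, L.pe_conj hem (L.ab_mem hp'), L.pe_ab hp' hp0, ← ew, hh,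
      mul_inv_rev, mul_inv_rev, inv_eq_of_mul_eq_one_left hq]
    group
  simp only [List.mem_cons, List.not_mem_nil, or_false] at hx
  rcases hx with rfl | rfl | rfl
  · exact base 4 (by simp)
  · exact base 32 (by simp)
  · obtain ⟨y, hy, ey⟩ := base 4 (by simp)
    obtain ⟨z, hz, ez⟩ := base 32 (by simp)
    have hyz := (by decide : ∀ u ∈ [0, 4, 32, 36], ∀ v ∈ [0, 4, 32, 36], u < 64 ∧ v < 64 ∧ u ^^^ v ∈ [0, 4, 32, 36]) y hy z hz
    refine ⟨_, hyz.2.2, ?_⟩
    rw [show (36 : ℕ) = 4 ^^^ 32 from rfl, ← a_mul (by norm_num) (by norm_num), ← a_mul hyz.1 hyz.2.1, ← ey, ← ez]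
    group

set_option maxHeartbeats 1600000 in
/-- the translated cycle commutes with one more element -/
theorem d9_e : pe ψ d9 * (em φ qBC * pe ψ (up89 gP) * em φ qBC) =
    em φ qBC * pe ψ (up89 gP) * em φ qBC * pe ψ d9 := by
  obtain ⟨-, hgT, -, hsame⟩ := c9_even
  simp only [Bool.and_eq_true] at hgT
  have gT : gP ∈ T8 := inT_iff.1 hgT.1.1
  have qT : qP ∈ T8 := inT_iff.1 hgT.2
  have hq := qBC_sq (φ := φ)
  set w := em φ qBC with hw
  set h := w * pe ψ d9 * w with hh
  have hinv : h⁻¹ = w * pe ψ d9⁻¹ * w := by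
    rw [L.pe_inv d9_mem, hh, mul_inv_rev, mul_inv_rev, inv_eq_of_mul_eq_one_left hq]; group
  have gM : up89 gP ∈ M9 d := up89_M9 (mem_T8.1 gT).1
  set k := h * pe ψ (up89 gP) * h⁻¹ with hk
  have hkK : k ∈ Kc φ := by
    have key : ∀ x ∈ [4, 32], k * a φ x = a φ x * k := by
      intro x hx
      have hx3 : x ∈ [4, 32, 36] := by simp only [List.mem_cons, List.not_mem_nil, or_false] at hx ⊢; omega
      obtain ⟨y, hy, ey⟩ := L.h_turns (e := d9⁻¹) (by simp) hx3
      rw [← hw, ← hinv, inv_inv] at ey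
      have hyc := L.pe_Vc gM hy
      rw [hk, show h * pe ψ (up89 gP) * h⁻¹ * a φ x = h * (pe ψ (up89 gP) * (h⁻¹ * a φ x * h)) * h⁻¹ by group, ey, hyc,
        ← ey]
      group
    exact (mem_Kc φ).2 ⟨key 4 (by simp), key 32 (by simp)⟩
  obtain ⟨⟨m, hm⟩, v, hv, e⟩ := L.decomp k hkK
  rw [show ψ ⟨m, hm⟩ = pe ψ m from (L.pe_apply hm).symm] at e
  have C : Commute (pe ψ m) (a φ v) := L.pe_Vc hm hv
  -- it centralises the central element
  have hav := ab_values
  simp only [Bool.and_eq_true, eq8_iff] at hav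
  obtain ⟨sh, sv, -, -, -⟩ : same (qBC * up8 uP) (up8 uP * qBC) = true ∧ same (qBC * up8 vP) (up8 vP * qBC) = true ∧
      True ∧ True ∧ True := by
    have := swap_facts
    simp only [Bool.and_eq_true] at this
    exact ⟨this.1.1.1.1.1, this.1.1.1.1.2, trivial, trivial, trivial⟩
  have h24 : h * a φ 24 * h⁻¹ = a φ 24 := by
    obtain ⟨-, e24⟩ := w_a (φ := φ) (show 24 < 64 by norm_num)
    rw [into_third.2.2, ← hw] at e24
    have hd8 : pe ψ d9 * a φ 40 = a φ 40 * pe ψ d9 := by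
      have h' := d9_even
      simp only [Bool.and_eq_true, eq9_iff] at h'
      have e8 : pe ψ d9 * a φ 8 = a φ 8 * pe ψ d9 := by
        rw [← L.pe_ab (x := 8) (by norm_num) rfl, hav.1.1.1]
        exact L.pe_comm d9_mem (up89_M9 (mem_T8.1 mem5.2.1).1) h'.1.1.2
      have C8 : Commute (pe ψ d9) (a φ 8) := e8
      have C32 : Commute (pe ψ d9) (a φ 32) := L.pe_Vc d9_mem (by simp)
      rw [show (40 : ℕ) = 8 ^^^ 32 from rfl, ← a_mul (by norm_num) (by norm_num)]
      exact (C8.mul_right C32).eq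
    rw [hinv, L.pe_inv d9_mem, hh, show w * pe ψ d9 * w * a φ 24 * (w * (pe ψ d9)⁻¹ * w) =
      w * (pe ψ d9 * (w * a φ 24 * w)) * (pe ψ d9)⁻¹ * w by group, e24, hd8, mul_assoc w,
      mul_inv_cancel_right, ← e24]
    rw [show w * (w * a φ 24 * w) * w = (w * w) * a φ 24 * (w * w) by group, hq, one_mul, mul_one]
  have hs : up89 sP ∈ M9 d := up89_M9 (mem_T8.1 mem5.1).1
  have h24' : pe ψ (up89 sP) = a φ 24 := by
    rw [L.pe_up mem5.1]
    have ht := up8_table
    simp only [Bool.and_eq_true, same_iff] at ht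
    rw [ht.1.1.1.1.2]; rfl
  have hms : m * up89 sP = up89 sP * m := by
    refine L.pe_inj (mul_mem hm hs) (mul_mem hs hm) ?_
    have hgs : pe ψ (up89 gP) * a φ 24 = a φ 24 * pe ψ (up89 gP) := by
      rw [← h24']
      exact L.pe_comm gM hs (by rw [← map_mul, ← map_mul, (mem_T8.1 gT).2])
    have hks : k * a φ 24 = a φ 24 * k := by
      calc k * a φ 24 = h * pe ψ (up89 gP) * h⁻¹ * (h * a φ 24 * h⁻¹) := by rw [h24]
        _ = h * (pe ψ (up89 gP) * a φ 24) * h⁻¹ := by group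
        _ = (h * a φ 24 * h⁻¹) * k := by rw [hgs, hk]; group
        _ = _ := by rw [h24]
    rw [e] at hks
    have C' : Commute (a φ 24) (a φ v) := a_comm (by norm_num) (lt4 v hv)
    rw [L.pe_mul hm hs, L.pe_mul hs hm, h24']
    rw [mul_assoc, ← C'.eq, ← mul_assoc, ← mul_assoc] at hks
    exact mul_right_cancel hks
  have hm8 : m 8 = 8 := by
    have h8 := DFunLike.congr_fun hms 8
    simp only [Perm.mul_apply, up89_eight] at h8
    exact small_facts.2.2.1 _ h8.symm
  obtain ⟨t, rfl⟩ := exists_up89 hm8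
  have tT : t ∈ T8 := mem_T8.2 ⟨(sign_up89 t).symm.trans hm.1, up89_inj (by rw [map_mul, map_mul, hms])⟩
  -- its type
  obtain ⟨⟨htab, hgP, hc89⟩, -⟩ := And.intro theta_unique trivial
  simp only [Bool.and_eq_true, eq8_iff, Bool.not_eq_true', ← Bool.not_eq_true] at hgP
  obtain ⟨⟨⟨⟨g5, g15⟩, g2⟩, g1⟩, gW⟩ := hgP
  have k2 : k * k = 1 := by
    rw [hk]
    refine conj_sq ?_ h
    rw [← L.pe_mul gM gM, ← map_mul, g2, map_one, L.pe_one]
  have t2 : t * t = 1 ∧ a φ v * a φ v = 1 := by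
    refine ⟨?_, a_sq (lt4 v hv)⟩
    rw [e] at k2
    have : pe ψ (up89 t) * pe ψ (up89 t) = 1 := by
      rw [← k2, C.symm.mul_mul_mul_comm, a_sq (lt4 v hv), mul_one]
    rw [← L.pe_mul hm hm, ← L.pe_one] at this
    exact up89_inj (by rw [map_mul, map_one]; exact L.pe_inj (mul_mem hm hm) (one_mem _) this)
  obtain ⟨kk, hkk, ekk⟩ := gP_conj
  have hk8 : IsConj (a φ 8) k := by
    refine isConj_iff.2 ⟨h * pe ψ (up89 kk), ?_⟩
    have hkm : up89 kk ∈ M9 d := up89_M9 hkk
    have hum : up89 uP ∈ M9 d := up89_M9 (mem_T8.1 mem5.2.1).1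
    rw [← L.pe_ab (x := 8) (by norm_num) rfl, hav.1.1.1,
      show h * pe ψ (up89 kk) * pe ψ (up89 uP) * (h * pe ψ (up89 kk))⁻¹ =
        h * (pe ψ (up89 kk) * pe ψ (up89 uP) * (pe ψ (up89 kk))⁻¹) * h⁻¹ by group,
      ← L.pe_conj hkm hum, hk, ← map_inv, ← map_mul, ← map_mul, ekk, mul_inv_cancel_right]
  have ht1 : t ≠ 1 := by
    intro ht1
    rw [ht1, map_one, L.pe_one, one_mul] at e
    obtain ⟨y, hy, ey⟩ : ∃ y ∈ [0, 4, 32, 36], h⁻¹ * a φ v * h = a φ y := by
      by_cases h0 : v = 0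
      · exact ⟨0, by simp, by rw [h0, a_zero]; group⟩
      · obtain ⟨y, hy, ey⟩ := L.h_turns (e := d9⁻¹) (by simp) (x := v) (by
          simp only [List.mem_cons, List.not_mem_nil, or_false] at hv ⊢; omega)
        rw [← hw, ← hinv, inv_inv] at ey
        exact ⟨y, hy, ey⟩
    have : ψ ⟨up89 gP, gM⟩ = a φ y := by
      rw [← L.pe_apply gM, ← ey, ← e, hk]; group
    exact g1 (up89_inj (by rw [map_one]; exact congrArg Subtype.val (L.sep _ y hy this)))
  have hw8 : wt 8 = 1 := one_cases.2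
  have hcase : v = 0 ∧ isW t = true := by
    have toConj : ∀ {x : ℕ} {g : P8}, x < 64 → x &&& 36 = 0 → ab x = g → (∃ c : P8, Perm.sign c = 1 ∧ c * t * c⁻¹ = g) →
        IsConj k (a φ (x ^^^ v)) := by
      intro x g hx hx0 eg ⟨c, hc, ec⟩
      have hcm : up89 c ∈ M9 d := up89_M9 hc
      refine isConj_iff.2 ⟨pe ψ (up89 c), ?_⟩
      rw [e, show pe ψ (up89 c) * (pe ψ (up89 t) * a φ v) * (pe ψ (up89 c))⁻¹ =
        pe ψ (up89 c) * pe ψ (up89 t) * (a φ v * (pe ψ (up89 c))⁻¹) by group,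
        ← (show Commute (pe ψ (up89 c))⁻¹ (a φ v) from (show Commute (pe ψ (up89 c)) (a φ v) from L.pe_Vc hcm hv).inv_left).eq,
        ← mul_assoc, ← L.pe_conj hcm hm, ← map_inv, ← map_mul, ← map_mul, ec, ← eg, L.pe_ab hx hx0,
        a_mul hx (lt4 v hv)]
    have tc := List.all_eq_true.1 coset_one v hv
    simp only [Bool.and_eq_true, bne_iff_ne, Bool.or_eq_true, beq_iff_eq] at tc
    rcases Bool.eq_false_or_eq_true (free8 t) with hf | hf
    · obtain ⟨c, hc, ec⟩ := free_conj (mem_T8.1 tT).1 t2.1 hf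
      have hs' : ab 24 = sP := eq8_iff.1 (by decide +kernel)
      have := L.nine.wt_of_isConj (by norm_num) (xor_lt (by norm_num) (lt4 v hv))
        (hk8.trans (toConj (x := 24) (by norm_num) rfl hs' ⟨c, hc, ec⟩))
      exact absurd (this.symm.trans hw8) tc.1
    · have hW : isW t = true := by
        simp only [isW, Bool.and_eq_true, eq8_iff, Bool.not_eq_true', ← Bool.not_eq_true]
        exact ⟨⟨t2.1, ht1⟩, by rw [hf]; simp⟩
      refine ⟨?_, hW⟩
      obtain ⟨c, hc, ec⟩ := nfree_conj (mem_T8.1 tT).1 t2.1 ht1 hf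
      have := L.nine.wt_of_isConj (by norm_num) (xor_lt (by norm_num) (lt4 v hv))
        (hk8.trans (toConj (x := 8) (by norm_num) rfl hav.1.1.1 ⟨c, hc, ec⟩))
      exact tc.2.resolve_right fun h => h (this.symm.trans hw8)
  rw [hcase.1, a_zero, mul_one] at e
  -- the relations
  have hc2 : h * pe ψ (up89 c8) * h⁻¹ = pe ψ (up89 c8) := by
    rw [eq9_iff.1 hc89, mul_inv_eq_iff_eq_mul]
    have Cw : Commute w (pe ψ (c9 2)) := L.w_c2
    have Cd : Commute (pe ψ d9) (pe ψ (c9 2)) := by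
      have h' := nine_facts₂
      simp only [Bool.and_eq_true, eq9_iff] at h'
      exact L.pe_comm d9_mem (L.c9_mem (by decide) (by decide) (.inr (by decide))) h'.1.1.1.1.2
    exact ((Cw.mul_left Cd).mul_left Cw).eq
  have hqP : h * pe ψ (up89 qP) * h⁻¹ = pe ψ (up89 qP) := by
    rw [mul_inv_eq_iff_eq_mul]
    have hqM : up89 qP ∈ M9 d := up89_M9 (mem_T8.1 qT).1
    set q := pe ψ (up89 qP) with hqdef
    have eq' : q = em φ qAB := by rw [hqdef, L.pe_up qT, same_iff.1 c9_even.2.2.2]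
    have qq : q * q = 1 := by rw [eq']; exact qAB_sq
    have h' := nine_facts₂
    simp only [Bool.and_eq_true, eq9_iff] at h'
    have hvT : up89 vP ∈ M9 d := up89_M9 (mem_T8.1 mem5.2.2.1).1
    have hc2m := L.c9_mem (p := 2) (by decide) (by decide) (.inr (by decide))
    have hA : q * pe ψ d9 * q = pe ψ (up89 vP * c9 2 * up89 vP) := by
      rw [hqdef, ← L.pe_mul hqM d9_mem, ← L.pe_mul (mul_mem hqM d9_mem) hqM, h'.1.1.2]
    have hCA : Commute w (q * pe ψ d9 * q) := by
      rw [hA, L.pe_mul (mul_mem hvT hc2m) hvT, L.pe_mul hvT hc2m]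
      have C1 : Commute w (pe ψ (up89 vP)) := L.w_up mem5.2.2.1 (same_iff.1 sv)
      exact (C1.mul_right L.w_c2).mul_right C1
    have hwq : w * q * w = q * w * q := by
      rw [hw, eq', ← em_mul φ (show qBC ∈ X12 from g4P_mem 3) (show qAB ∈ X12 from g4P_mem 2),
        ← em_mul φ (mul_mem (show qBC ∈ X12 from g4P_mem 3) (show qAB ∈ X12 from g4P_mem 2)) (show qBC ∈ X12 from g4P_mem 3),
        ← em_mul φ (show qAB ∈ X12 from g4P_mem 2) (show qBC ∈ X12 from g4P_mem 3),
        ← em_mul φ (mul_mem (show qAB ∈ X12 from g4P_mem 2) (show qBC ∈ X12 from g4P_mem 3)) (show qAB ∈ X12 from g4P_mem 2)]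
      have := swap_facts
      simp only [Bool.and_eq_true, same_iff] at this
      rw [this.1.1.1.2]
    calc h * q = w * pe ψ d9 * (w * q * w) * w := by
          rw [hh, show w * pe ψ d9 * (w * q * w) * w = w * pe ψ d9 * w * q * (w * w) by group, hq, mul_one]
      _ = w * q * (q * pe ψ d9 * q * w) * q * w := by
          rw [hwq, show w * q * (q * pe ψ d9 * q * w) * q * w = w * (q * q) * pe ψ d9 * q * w * q * w by group, qq]
          group
      _ = (w * q * w) * (q * pe ψ d9 * q) * q * w := by rw [← hCA.eq]; group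
      _ = q * h := by
          rw [hwq, show q * w * q * (q * pe ψ d9 * q) * q * w = q * w * (q * q) * pe ψ d9 * (q * q) * w by group, qq, hh]
          group
  set hom : P9 → G := fun g => h * pe ψ g * h⁻¹ with hhom
  have hcm : up89 c8 ∈ M9 d := eq9_iff.1 hc89 ▸ L.c9_mem (p := 2) (by decide) (by decide) (.inr (by decide))
  have hqM : up89 qP ∈ M9 d := up89_M9 (mem_T8.1 qT).1
  let cj : M9 d →* G := (MulAut.conj h).toMonoidHom.comp ψ
  have hcj : ∀ {g : P9} (hg : g ∈ M9 d), cj ⟨g, hg⟩ = h * pe ψ g * h⁻¹ := fun {g} hg => by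
    rw [L.pe_apply hg]; rfl
  have eg : cj ⟨up89 gP, gM⟩ = ψ ⟨up89 t, hm⟩ := by rw [hcj, ← hk, e, L.pe_apply hm]
  have ec : cj ⟨up89 c8, hcm⟩ = ψ ⟨up89 c8, hcm⟩ := by rw [hcj, hc2, L.pe_apply hcm]
  have eq : cj ⟨up89 qP, hqM⟩ = ψ ⟨up89 qP, hqM⟩ := by rw [hcj, hqP, L.pe_apply hqM]
  have r5 : (t * c8) ^ 5 = 1 := by
    have h1 : ((⟨up89 t, hm⟩ : M9 d) * ⟨up89 c8, hcm⟩) ^ 5 = 1 := L.inj (by
      rw [map_pow, map_mul, ← eg, ← ec, ← map_mul, ← map_pow, map_one,
        show ((⟨up89 gP, gM⟩ : M9 d) * ⟨up89 c8, hcm⟩) ^ 5 = 1 from Subtype.ext (by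
          rw [SubmonoidClass.coe_pow, Subgroup.coe_mul, OneMemClass.coe_one, ← map_mul, ← map_pow, g5, map_one]), map_one])
    refine up89_inj ?_
    rw [map_pow, map_mul, map_one]
    have h2 := congrArg Subtype.val h1
    rwa [SubmonoidClass.coe_pow, Subgroup.coe_mul, OneMemClass.coe_one] at h2
  have r15 : (t * c8 * qP) ^ 15 = 1 := by
    have h1 : ((⟨up89 t, hm⟩ : M9 d) * ⟨up89 c8, hcm⟩ * ⟨up89 qP, hqM⟩) ^ 15 = 1 := L.inj (by
      rw [map_pow, map_mul, map_mul, ← eg, ← ec, ← eq, ← map_mul, ← map_mul, ← map_pow, map_one,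
        show ((⟨up89 gP, gM⟩ : M9 d) * ⟨up89 c8, hcm⟩ * ⟨up89 qP, hqM⟩) ^ 15 = 1 from Subtype.ext (by
          rw [SubmonoidClass.coe_pow, Subgroup.coe_mul, Subgroup.coe_mul, OneMemClass.coe_one, ← map_mul, ← map_mul,
            ← map_pow, g15, map_one]), map_one])
    refine up89_inj ?_
    rw [map_pow, map_mul, map_mul, map_one]
    have h2 := congrArg Subtype.val h1
    rwa [SubmonoidClass.coe_pow, Subgroup.coe_mul, Subgroup.coe_mul, OneMemClass.coe_one] at h2
  have htg := List.all_eq_true.1 htab t (mem_lT tT)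
  rw [hcase.2, eq8_iff.2 r5, eq8_iff.2 r15] at htg
  simp only [Bool.and_self, Bool.not_true, Bool.false_or, eq8_iff] at htg
  rw [htg, hk, mul_inv_eq_iff_eq_mul, hh] at e
  set D := pe ψ d9
  set g := pe ψ (up89 gP)
  calc D * (w * g * w) = w * (w * D * w * g) * w := by
        rw [show w * (w * D * w * g) * w = (w * w) * D * (w * g * w) by group, hq, one_mul]
    _ = w * (g * (w * D * w)) * w := by rw [e]
    _ = w * g * w * D := by
        rw [show w * (g * (w * D * w)) * w = w * g * w * D * (w * w) by group, hq, mul_one]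

/-- the basic cross relation -/
theorem cross_base : pe ψ (c9 4) * (em φ qBC * pe ψ (c9 4) * em φ qBC) *
    (pe ψ (c9 4) * (em φ qBC * pe ψ (c9 4) * em φ qBC)) = 1 := by
  obtain ⟨-, hgT, -, hsame⟩ := c9_even
  simp only [Bool.and_eq_true] at hgT
  have gT : gP ∈ T8 := inT_iff.1 hgT.1.1
  have hT : hP ∈ T8 := inT_iff.1 hgT.1.2
  have qT : qP ∈ T8 := inT_iff.1 hgT.2
  have gM : up89 gP ∈ M9 d := up89_M9 (mem_T8.1 gT).1
  have hM : up89 hP ∈ M9 d := up89_M9 (mem_T8.1 hT).1
  have hqM : up89 qP ∈ M9 d := up89_M9 (mem_T8.1 qT).1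
  have hq := qBC_sq (φ := φ)
  set w := em φ qBC with hw
  have hwX : qBC ∈ X12 := g4P_mem 3
  have hqX : qAB ∈ X12 := g4P_mem 2
  have hsf := swap_facts
  simp only [Bool.and_eq_true, same_iff] at hsf
  obtain ⟨⟨⟨⟨⟨-, sv⟩, -⟩, sg⟩, sh⟩, sX⟩ := hsf
  have hwX' := inX_iff.1 sX
  set w' := em φ (swap 4 8 * swap 5 9)
  set g := pe ψ (up89 gP) with hgdef
  have hg2 : g * g = 1 := by
    obtain ⟨-, h', -⟩ := theta_unique
    simp only [Bool.and_eq_true, eq8_iff] at h'
    rw [hgdef, ← L.pe_mul gM gM, ← map_mul, h'.1.1.2, map_one, L.pe_one]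
  set x := pe ψ (c9 4) with hx
  set D := pe ψ d9 with hD
  have h' := nine_facts₂
  simp only [Bool.and_eq_true, eq9_iff] at h'
  have hc4 := L.c9_mem (p := 4) (by decide) (by decide) (.inr (by decide))
  have eD : g * x * g = D := by
    rw [hgdef, hx, ← L.pe_mul gM hc4, ← L.pe_mul (mul_mem gM hc4) gM, h'.1.2]
  set e := w * g * w with he
  have hgwg : g * w * g = w' * e := by
    rw [he, hgdef, L.pe_up gT, hw, ← em_mul φ (up8_mem gT) hwX, ← em_mul φ (mul_mem (up8_mem gT) hwX) (up8_mem gT), sg,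
      em_mul φ hwX' (mul_mem (mul_mem hwX (up8_mem gT)) hwX), em_mul φ (mul_mem hwX (up8_mem gT)) hwX,
      em_mul φ hwX (up8_mem gT)]
  have he2 : e * e = 1 := by
    rw [he, show w * g * w * (w * g * w) = w * g * (w * w) * g * w by group, hq, mul_one,
      show w * g * g * w = w * (g * g) * w by group, hg2, mul_one, hq]
  have hgwg' : g * w * g = e * w' := by
    have h1 : (g * w * g) * (g * w * g) = 1 := by
      rw [show g * w * g * (g * w * g) = g * w * (g * g) * w * g by group, hg2, mul_one,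
        show g * w * w * g = g * (w * w) * g by group, hq, mul_one, hg2]
    have hw'2 : w' * w' = 1 := by
      rw [← em_mul φ hwX' hwX', show swap (4 : Fin 12) 8 * swap 5 9 * (swap 4 8 * swap 5 9) = 1 from same_iff.1 (by decide +kernel),
        em_one]
    rw [← inv_eq_of_mul_eq_one_left h1, hgwg, mul_inv_rev, inv_eq_of_mul_eq_one_left he2,
      inv_eq_of_mul_eq_one_left hw'2]
  have hDe : D * e = e * D := L.d9_e
  set q := pe ψ (up89 qP) with hqdef
  have eq' : q = em φ qAB := by rw [hqdef, L.pe_up qT, same_iff.1 hsame]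
  have qq : q * q = 1 := by rw [eq']; exact qAB_sq
  have hvT : up89 vP ∈ M9 d := up89_M9 (mem_T8.1 mem5.2.2.1).1
  have hc2m := L.c9_mem (p := 2) (by decide) (by decide) (.inr (by decide))
  have hA : q * D * q = pe ψ (up89 vP * c9 2 * up89 vP) := by
    rw [hqdef, hD, ← L.pe_mul hqM d9_mem, ← L.pe_mul (mul_mem hqM d9_mem) hqM, h'.1.1.2]
  have hCA : Commute w (q * D * q) := by
    rw [hA, L.pe_mul (mul_mem hvT hc2m) hvT, L.pe_mul hvT hc2m]
    have C1 : Commute w (pe ψ (up89 vP)) := L.w_up mem5.2.2.1 sv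
    exact (C1.mul_right L.w_c2).mul_right C1
  set q' := q * w * q with hq'
  have hq'2 : q' * q' = 1 := by
    rw [hq', show q * w * q * (q * w * q) = q * w * (q * q) * w * q by group, qq, mul_one,
      show q * w * w * q = q * (w * w) * q by group, hq, mul_one, qq]
  have hDq : q' * D * q' = D := by
    rw [hq', show q * w * q * D * (q * w * q) = q * (w * (q * D * q)) * w * q by group, hCA.eq,
      show q * (q * D * q * w) * w * q = (q * q) * D * q * (w * w) * q by group, qq, hq, one_mul, mul_one,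
      mul_assoc, qq, mul_one]
  set hh := pe ψ (up89 hP) with hhdef
  have ew' : w' = q' * hh * q' := by
    rw [hq', eq', hhdef, L.pe_up hT, hw, ← em_mul φ hqX hwX, ← em_mul φ (mul_mem hqX hwX) hqX,
      ← em_mul φ (mul_mem (mul_mem hqX hwX) hqX) (up8_mem hT),
      ← em_mul φ (mul_mem (mul_mem (mul_mem hqX hwX) hqX) (up8_mem hT)) (mul_mem (mul_mem hqX hwX) hqX), sh]
  -- the relation after conjugation
  have key : D * (w' * D * w') * (D * (w' * D * w')) = 1 := by
    rw [ew', show q' * hh * q' * D * (q' * hh * q') = q' * (hh * (q' * D * q') * hh) * q' by group, hDq]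
    conv_lhs => rw [← hDq]
    have hr : D * (hh * D * hh) * (D * (hh * D * hh)) = 1 := by
      rw [hD, hhdef, ← L.pe_mul hM d9_mem, ← L.pe_mul (mul_mem hM d9_mem) hM,
        ← L.pe_mul d9_mem (mul_mem (mul_mem hM d9_mem) hM),
        ← L.pe_mul (mul_mem d9_mem (mul_mem (mul_mem hM d9_mem) hM)) (mul_mem d9_mem (mul_mem (mul_mem hM d9_mem) hM)),
        h'.2, L.pe_one]
    calc q' * D * q' * (q' * (hh * (q' * D * q') * hh) * q') * (q' * D * q' * (q' * (hh * (q' * D * q') * hh) * q'))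
        = q' * D * (q' * q') * (hh * (q' * D * q') * hh) * (q' * q') * D * (q' * q') * (hh * (q' * D * q') * hh) * q' := by
          group
      _ = q' * (D * (hh * D * hh) * (D * (hh * D * hh))) * q' := by rw [hq'2, hDq]; group
      _ = 1 := by rw [hr, mul_one, hq'2]
  have e1 : g * (w * x * w) * g = w' * D * w' := by
    calc g * (w * x * w) * g = g * (w * (g * g) * x * (g * g) * w) * g := by rw [hg2, mul_one, mul_one]
      _ = (g * w * g) * (g * x * g) * (g * w * g) := by group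
      _ = w' * e * D * (e * w') := by
          rw [eD]
          conv_lhs => arg 2; rw [hgwg']
          rw [hgwg]
      _ = _ := by
          rw [show w' * e * D * (e * w') = w' * (e * (D * e)) * w' by group, hDe, ← mul_assoc e e, he2, one_mul]
  calc x * (w * x * w) * (x * (w * x * w))
      = (g * g) * x * (g * g) * (w * x * w) * (g * g) * x * (g * g) * (w * x * w) * (g * g) := by
        rw [hg2]; group
    _ = g * ((g * x * g) * (g * (w * x * w) * g) * ((g * x * g) * (g * (w * x * w) * g))) * g := by group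
    _ = 1 := by rw [eD, e1, key, mul_one, hg2]

/-- all cross relations -/
theorem cross {p q : Fin 9} (hp : 4 ≤ p.1) (hp' : p.1 ≤ 7) (hq : 4 ≤ q.1) (hq' : q.1 ≤ 7) :
    pe ψ (c9 p) * (em φ qBC * pe ψ (c9 q) * em φ qBC) * (pe ψ (c9 p) * (em φ qBC * pe ψ (c9 q) * em φ qBC)) = 1 := by
  set w := em φ qBC with hw
  have hw2 : w * w = 1 := qBC_sq
  have hc4 := L.c9_mem (p := 4) (by decide) (by decide) (.inr (by decide))
  have data : ∀ r : Fin 9, 4 ≤ r.1 → r.1 ≤ 7 → ∃ v, v < 64 ∧ pC v ∈ [0, 4, 32, 36] ∧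
      pe ψ (c9 r) = a φ v * pe ψ (c9 4) * a φ v := by
    intro r h1 h2
    obtain ⟨v, hv, e⟩ := moves_four r h1 h2
    obtain ⟨hv', hv0⟩ := (by decide : ∀ u ∈ [0, 2, 16, 18], u < 64 ∧ u &&& 36 = 0) v hv
    refine ⟨v, hv', by simpa using List.all_eq_true.1 into_third.2.1 v hv, ?_⟩
    rw [← eq9_iff.1 e, L.pe_mul (mul_mem (L.ab_mem hv') hc4) (L.ab_mem hv'), L.pe_mul (L.ab_mem hv') hc4, L.pe_ab hv' hv0]
  obtain ⟨v, hv, hvC, ev⟩ := data p hp hp'
  obtain ⟨u, hu, huC, eu⟩ := data q hq hq'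
  set x := pe ψ (c9 4)
  have conjw : ∀ {z : ℕ}, z < 64 → pC z ∈ [0, 4, 32, 36] → Commute (w * x * w) (a φ z) ∧ Commute x (w * a φ z * w) := by
    intro z hz hzC
    obtain ⟨-, ez⟩ := w_a (φ := φ) hz
    rw [← hw] at ez
    have C : Commute x (a φ (pC z)) := L.pe_Vc hc4 hzC
    refine ⟨?_, by rw [ez]; exact C⟩
    rw [← ez] at C
    show w * x * w * a φ z = a φ z * (w * x * w)
    calc w * x * w * a φ z = w * (x * (w * a φ z * w)) * w := by
          rw [show w * (x * (w * a φ z * w)) * w = w * x * w * a φ z * (w * w) by group, hw2, mul_one]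
      _ = w * ((w * a φ z * w) * x) * w := by rw [C.eq]
      _ = _ := by rw [show w * (w * a φ z * w * x) * w = (w * w) * a φ z * (w * x * w) by group, hw2, one_mul]
  set u' := w * a φ u * w with hu'
  have hu'2 : u' * u' = 1 := by
    rw [hu', show w * a φ u * w * (w * a φ u * w) = w * a φ u * (w * w) * a φ u * w by group, hw2, mul_one,
      show w * a φ u * a φ u * w = w * (a φ u * a φ u) * w by group, a_sq hu, mul_one, hw2]
  have eq1 : w * pe ψ (c9 q) * w = u' * (w * x * w) * u' := by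
    rw [eu, hu', show w * a φ u * w * (w * x * w) * (w * a φ u * w) = w * a φ u * (w * w) * x * (w * w) * a φ u * w by group,
      hw2, mul_one, mul_one]
    group
  obtain ⟨hu1, hu2⟩ := conjw hu huC
  have hux : u' * x * u' = x := by rw [← hu2.eq, mul_assoc, hu'2, mul_one]
  set y := w * pe ψ (c9 q) * w with hy
  have hxy : x * y * (x * y) = 1 := by
    rw [eq1]
    refine Eq.trans (show _ = u' * x * u' * (u' * (w * x * w) * u') * (u' * x * u' * (u' * (w * x * w) * u')) by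
      rw [hux]) ?_
    calc u' * x * u' * (u' * (w * x * w) * u') * (u' * x * u' * (u' * (w * x * w) * u'))
        = u' * x * (u' * u') * (w * x * w) * (u' * u') * x * (u' * u') * (w * x * w) * u' := by group
      _ = u' * (x * (w * x * w) * (x * (w * x * w))) * u' := by rw [hu'2]; group
      _ = 1 := by rw [L.cross_base, mul_one, hu'2]
  have hvy : a φ v * y * a φ v = y := by
    obtain ⟨hC1, -⟩ := conjw hv hvC
    have Cy : Commute y (a φ v) := by
      rw [eq1]
      have Cu : Commute u' (a φ v) := by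
        obtain ⟨hz, ez⟩ := w_a (φ := φ) hu
        rw [hu', hw, ez]; exact a_comm hz hv
      exact (Cu.mul_left hC1).mul_left Cu
    rw [← Cy.eq, mul_assoc, a_sq hv, mul_one]
  rw [ev]
  conv_lhs => rw [← hvy]
  calc a φ v * x * a φ v * (a φ v * y * a φ v) * (a φ v * x * a φ v * (a φ v * y * a φ v))
      = a φ v * x * (a φ v * a φ v) * y * (a φ v * a φ v) * x * (a φ v * a φ v) * y * a φ v := by group
    _ = a φ v * (x * y * (x * y)) * a φ v := by rw [a_sq hv]; group
    _ = 1 := by rw [hxy, mul_one, a_sq hv]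

end Lifted

end CfsgLib.TwelveCent
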