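import Cfsg.Agent.Lib.TwoFourSThree.AltData
import Cfsg.Agent.Lib.TwelveCent.Model

/-!
The centraliser of a fixed-point-free involution among the even permutations of eight letters, as a
part of the centraliser in degree twelve: generators, a subgroup of order 32 and its automorphisms.
-/

set_option autoImplicit false
set_option maxRecDepth 100000

namespace CfsgLib.TwelveCent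

open Equiv CfsgLib.TwoFourSThree.Eight

/-- permutations of eight letters -/
abbrev P8 : Type := Equiv.Perm (Fin 8)

/-- `(01)(23)(45)(67)` -/
def sP : P8 := toP [1, 0, 3, 2, 5, 4, 7, 6]
/-- `(01)(23)` -/
def uP : P8 := toP [1, 0, 3, 2, 4, 5, 6, 7]
/-- `(02)(13)` -/
def vP : P8 := toP [2, 3, 0, 1, 4, 5, 6, 7]
/-- `(46)(57)` -/
def rP : P8 := toP [0, 1, 2, 3, 6, 7, 4, 5]
/-- `(024)(135)` -/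
def cP : P8 := toP [2, 3, 4, 5, 0, 1, 6, 7]

/-- the centraliser -/
def T8 : Subgroup P8 := alternatingGroup (Fin 8) ⊓ Subgroup.centralizer ({sP} : Set P8)

theorem mem_T8 {g : P8} : g ∈ T8 ↔ Perm.sign g = 1 ∧ g * sP = sP * g := by
  rw [T8, Subgroup.mem_inf, Perm.mem_alternatingGroup, Subgroup.mem_centralizer_singleton_iff]

/-- equality as a test -/
def eq8 (g h : P8) : Bool := (List.finRange 8).all fun i => g i == h i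

theorem eq8_iff {g h : P8} : eq8 g h = true ↔ g = h := by
  rw [eq8, List.all_eq_true]
  exact ⟨fun e => Equiv.ext fun i => by simpa using e i (List.mem_finRange i), fun e i _ => by simp [e]⟩

/-- parity by inversions -/
def evenL (l : List (Fin 8)) : Bool :=
  (((List.finRange 8).map fun i => ((List.finRange 8).filter fun j =>
    Nat.blt i.1 j.1 && Nat.blt (l.getD j.1 0).1 (l.getD i.1 0).1).length).sum) % 2 == 0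

/-- the images of the members -/
def rowsT : List (List (Fin 8)) := [
    [0, 1, 2, 3, 4, 5, 6, 7], [0, 1, 2, 3, 5, 4, 7, 6], [0, 1, 2, 3, 6, 7, 4, 5], [0, 1, 2, 3, 7, 6, 5, 4],
    [0, 1, 3, 2, 4, 5, 7, 6], [0, 1, 3, 2, 5, 4, 6, 7], [0, 1, 3, 2, 6, 7, 5, 4], [0, 1, 3, 2, 7, 6, 4, 5],
    [0, 1, 4, 5, 2, 3, 6, 7], [0, 1, 4, 5, 3, 2, 7, 6], [0, 1, 4, 5, 6, 7, 2, 3], [0, 1, 4, 5, 7, 6, 3, 2],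
    [0, 1, 5, 4, 2, 3, 7, 6], [0, 1, 5, 4, 3, 2, 6, 7], [0, 1, 5, 4, 6, 7, 3, 2], [0, 1, 5, 4, 7, 6, 2, 3],
    [0, 1, 6, 7, 2, 3, 4, 5], [0, 1, 6, 7, 3, 2, 5, 4], [0, 1, 6, 7, 4, 5, 2, 3], [0, 1, 6, 7, 5, 4, 3, 2],
    [0, 1, 7, 6, 2, 3, 5, 4], [0, 1, 7, 6, 3, 2, 4, 5], [0, 1, 7, 6, 4, 5, 3, 2], [0, 1, 7, 6, 5, 4, 2, 3],
    [1, 0, 2, 3, 4, 5, 7, 6], [1, 0, 2, 3, 5, 4, 6, 7], [1, 0, 2, 3, 6, 7, 5, 4], [1, 0, 2, 3, 7, 6, 4, 5],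
    [1, 0, 3, 2, 4, 5, 6, 7], [1, 0, 3, 2, 5, 4, 7, 6], [1, 0, 3, 2, 6, 7, 4, 5], [1, 0, 3, 2, 7, 6, 5, 4],
    [1, 0, 4, 5, 2, 3, 7, 6], [1, 0, 4, 5, 3, 2, 6, 7], [1, 0, 4, 5, 6, 7, 3, 2], [1, 0, 4, 5, 7, 6, 2, 3],
    [1, 0, 5, 4, 2, 3, 6, 7], [1, 0, 5, 4, 3, 2, 7, 6], [1, 0, 5, 4, 6, 7, 2, 3], [1, 0, 5, 4, 7, 6, 3, 2],
    [1, 0, 6, 7, 2, 3, 5, 4], [1, 0, 6, 7, 3, 2, 4, 5], [1, 0, 6, 7, 4, 5, 3, 2], [1, 0, 6, 7, 5, 4, 2, 3],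
    [1, 0, 7, 6, 2, 3, 4, 5], [1, 0, 7, 6, 3, 2, 5, 4], [1, 0, 7, 6, 4, 5, 2, 3], [1, 0, 7, 6, 5, 4, 3, 2],
    [2, 3, 0, 1, 4, 5, 6, 7], [2, 3, 0, 1, 5, 4, 7, 6], [2, 3, 0, 1, 6, 7, 4, 5], [2, 3, 0, 1, 7, 6, 5, 4],
    [2, 3, 1, 0, 4, 5, 7, 6], [2, 3, 1, 0, 5, 4, 6, 7], [2, 3, 1, 0, 6, 7, 5, 4], [2, 3, 1, 0, 7, 6, 4, 5],
    [2, 3, 4, 5, 0, 1, 6, 7], [2, 3, 4, 5, 1, 0, 7, 6], [2, 3, 4, 5, 6, 7, 0, 1], [2, 3, 4, 5, 7, 6, 1, 0],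
    [2, 3, 5, 4, 0, 1, 7, 6], [2, 3, 5, 4, 1, 0, 6, 7], [2, 3, 5, 4, 6, 7, 1, 0], [2, 3, 5, 4, 7, 6, 0, 1],
    [2, 3, 6, 7, 0, 1, 4, 5], [2, 3, 6, 7, 1, 0, 5, 4], [2, 3, 6, 7, 4, 5, 0, 1], [2, 3, 6, 7, 5, 4, 1, 0],
    [2, 3, 7, 6, 0, 1, 5, 4], [2, 3, 7, 6, 1, 0, 4, 5], [2, 3, 7, 6, 4, 5, 1, 0], [2, 3, 7, 6, 5, 4, 0, 1],
    [3, 2, 0, 1, 4, 5, 7, 6], [3, 2, 0, 1, 5, 4, 6, 7], [3, 2, 0, 1, 6, 7, 5, 4], [3, 2, 0, 1, 7, 6, 4, 5],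
    [3, 2, 1, 0, 4, 5, 6, 7], [3, 2, 1, 0, 5, 4, 7, 6], [3, 2, 1, 0, 6, 7, 4, 5], [3, 2, 1, 0, 7, 6, 5, 4],
    [3, 2, 4, 5, 0, 1, 7, 6], [3, 2, 4, 5, 1, 0, 6, 7], [3, 2, 4, 5, 6, 7, 1, 0], [3, 2, 4, 5, 7, 6, 0, 1],
    [3, 2, 5, 4, 0, 1, 6, 7], [3, 2, 5, 4, 1, 0, 7, 6], [3, 2, 5, 4, 6, 7, 0, 1], [3, 2, 5, 4, 7, 6, 1, 0],
    [3, 2, 6, 7, 0, 1, 5, 4], [3, 2, 6, 7, 1, 0, 4, 5], [3, 2, 6, 7, 4, 5, 1, 0], [3, 2, 6, 7, 5, 4, 0, 1],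
    [3, 2, 7, 6, 0, 1, 4, 5], [3, 2, 7, 6, 1, 0, 5, 4], [3, 2, 7, 6, 4, 5, 0, 1], [3, 2, 7, 6, 5, 4, 1, 0],
    [4, 5, 0, 1, 2, 3, 6, 7], [4, 5, 0, 1, 3, 2, 7, 6], [4, 5, 0, 1, 6, 7, 2, 3], [4, 5, 0, 1, 7, 6, 3, 2],
    [4, 5, 1, 0, 2, 3, 7, 6], [4, 5, 1, 0, 3, 2, 6, 7], [4, 5, 1, 0, 6, 7, 3, 2], [4, 5, 1, 0, 7, 6, 2, 3],
    [4, 5, 2, 3, 0, 1, 6, 7], [4, 5, 2, 3, 1, 0, 7, 6], [4, 5, 2, 3, 6, 7, 0, 1], [4, 5, 2, 3, 7, 6, 1, 0],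
    [4, 5, 3, 2, 0, 1, 7, 6], [4, 5, 3, 2, 1, 0, 6, 7], [4, 5, 3, 2, 6, 7, 1, 0], [4, 5, 3, 2, 7, 6, 0, 1],
    [4, 5, 6, 7, 0, 1, 2, 3], [4, 5, 6, 7, 1, 0, 3, 2], [4, 5, 6, 7, 2, 3, 0, 1], [4, 5, 6, 7, 3, 2, 1, 0],
    [4, 5, 7, 6, 0, 1, 3, 2], [4, 5, 7, 6, 1, 0, 2, 3], [4, 5, 7, 6, 2, 3, 1, 0], [4, 5, 7, 6, 3, 2, 0, 1],
    [5, 4, 0, 1, 2, 3, 7, 6], [5, 4, 0, 1, 3, 2, 6, 7], [5, 4, 0, 1, 6, 7, 3, 2], [5, 4, 0, 1, 7, 6, 2, 3],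
    [5, 4, 1, 0, 2, 3, 6, 7], [5, 4, 1, 0, 3, 2, 7, 6], [5, 4, 1, 0, 6, 7, 2, 3], [5, 4, 1, 0, 7, 6, 3, 2],
    [5, 4, 2, 3, 0, 1, 7, 6], [5, 4, 2, 3, 1, 0, 6, 7], [5, 4, 2, 3, 6, 7, 1, 0], [5, 4, 2, 3, 7, 6, 0, 1],
    [5, 4, 3, 2, 0, 1, 6, 7], [5, 4, 3, 2, 1, 0, 7, 6], [5, 4, 3, 2, 6, 7, 0, 1], [5, 4, 3, 2, 7, 6, 1, 0],
    [5, 4, 6, 7, 0, 1, 3, 2], [5, 4, 6, 7, 1, 0, 2, 3], [5, 4, 6, 7, 2, 3, 1, 0], [5, 4, 6, 7, 3, 2, 0, 1],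
    [5, 4, 7, 6, 0, 1, 2, 3], [5, 4, 7, 6, 1, 0, 3, 2], [5, 4, 7, 6, 2, 3, 0, 1], [5, 4, 7, 6, 3, 2, 1, 0],
    [6, 7, 0, 1, 2, 3, 4, 5], [6, 7, 0, 1, 3, 2, 5, 4], [6, 7, 0, 1, 4, 5, 2, 3], [6, 7, 0, 1, 5, 4, 3, 2],
    [6, 7, 1, 0, 2, 3, 5, 4], [6, 7, 1, 0, 3, 2, 4, 5], [6, 7, 1, 0, 4, 5, 3, 2], [6, 7, 1, 0, 5, 4, 2, 3],
    [6, 7, 2, 3, 0, 1, 4, 5], [6, 7, 2, 3, 1, 0, 5, 4], [6, 7, 2, 3, 4, 5, 0, 1], [6, 7, 2, 3, 5, 4, 1, 0],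
    [6, 7, 3, 2, 0, 1, 5, 4], [6, 7, 3, 2, 1, 0, 4, 5], [6, 7, 3, 2, 4, 5, 1, 0], [6, 7, 3, 2, 5, 4, 0, 1],
    [6, 7, 4, 5, 0, 1, 2, 3], [6, 7, 4, 5, 1, 0, 3, 2], [6, 7, 4, 5, 2, 3, 0, 1], [6, 7, 4, 5, 3, 2, 1, 0],
    [6, 7, 5, 4, 0, 1, 3, 2], [6, 7, 5, 4, 1, 0, 2, 3], [6, 7, 5, 4, 2, 3, 1, 0], [6, 7, 5, 4, 3, 2, 0, 1],
    [7, 6, 0, 1, 2, 3, 5, 4], [7, 6, 0, 1, 3, 2, 4, 5], [7, 6, 0, 1, 4, 5, 3, 2], [7, 6, 0, 1, 5, 4, 2, 3],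
    [7, 6, 1, 0, 2, 3, 4, 5], [7, 6, 1, 0, 3, 2, 5, 4], [7, 6, 1, 0, 4, 5, 2, 3], [7, 6, 1, 0, 5, 4, 3, 2],
    [7, 6, 2, 3, 0, 1, 5, 4], [7, 6, 2, 3, 1, 0, 4, 5], [7, 6, 2, 3, 4, 5, 1, 0], [7, 6, 2, 3, 5, 4, 0, 1],
    [7, 6, 3, 2, 0, 1, 4, 5], [7, 6, 3, 2, 1, 0, 5, 4], [7, 6, 3, 2, 4, 5, 0, 1], [7, 6, 3, 2, 5, 4, 1, 0],
    [7, 6, 4, 5, 0, 1, 3, 2], [7, 6, 4, 5, 1, 0, 2, 3], [7, 6, 4, 5, 2, 3, 1, 0], [7, 6, 4, 5, 3, 2, 0, 1],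
    [7, 6, 5, 4, 0, 1, 2, 3], [7, 6, 5, 4, 1, 0, 3, 2], [7, 6, 5, 4, 2, 3, 0, 1], [7, 6, 5, 4, 3, 2, 1, 0]]

/-- the images of all permutations commuting with `sP` -/
def rowsC : List (List (Fin 8)) := [
    [0, 1, 2, 3, 4, 5, 6, 7], [0, 1, 2, 3, 4, 5, 7, 6], [0, 1, 2, 3, 5, 4, 6, 7], [0, 1, 2, 3, 5, 4, 7, 6],
    [0, 1, 2, 3, 6, 7, 4, 5], [0, 1, 2, 3, 6, 7, 5, 4], [0, 1, 2, 3, 7, 6, 4, 5], [0, 1, 2, 3, 7, 6, 5, 4],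
    [0, 1, 3, 2, 4, 5, 6, 7], [0, 1, 3, 2, 4, 5, 7, 6], [0, 1, 3, 2, 5, 4, 6, 7], [0, 1, 3, 2, 5, 4, 7, 6],
    [0, 1, 3, 2, 6, 7, 4, 5], [0, 1, 3, 2, 6, 7, 5, 4], [0, 1, 3, 2, 7, 6, 4, 5], [0, 1, 3, 2, 7, 6, 5, 4],
    [0, 1, 4, 5, 2, 3, 6, 7], [0, 1, 4, 5, 2, 3, 7, 6], [0, 1, 4, 5, 3, 2, 6, 7], [0, 1, 4, 5, 3, 2, 7, 6],
    [0, 1, 4, 5, 6, 7, 2, 3], [0, 1, 4, 5, 6, 7, 3, 2], [0, 1, 4, 5, 7, 6, 2, 3], [0, 1, 4, 5, 7, 6, 3, 2],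
    [0, 1, 5, 4, 2, 3, 6, 7], [0, 1, 5, 4, 2, 3, 7, 6], [0, 1, 5, 4, 3, 2, 6, 7], [0, 1, 5, 4, 3, 2, 7, 6],
    [0, 1, 5, 4, 6, 7, 2, 3], [0, 1, 5, 4, 6, 7, 3, 2], [0, 1, 5, 4, 7, 6, 2, 3], [0, 1, 5, 4, 7, 6, 3, 2],
    [0, 1, 6, 7, 2, 3, 4, 5], [0, 1, 6, 7, 2, 3, 5, 4], [0, 1, 6, 7, 3, 2, 4, 5], [0, 1, 6, 7, 3, 2, 5, 4],
    [0, 1, 6, 7, 4, 5, 2, 3], [0, 1, 6, 7, 4, 5, 3, 2], [0, 1, 6, 7, 5, 4, 2, 3], [0, 1, 6, 7, 5, 4, 3, 2],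
    [0, 1, 7, 6, 2, 3, 4, 5], [0, 1, 7, 6, 2, 3, 5, 4], [0, 1, 7, 6, 3, 2, 4, 5], [0, 1, 7, 6, 3, 2, 5, 4],
    [0, 1, 7, 6, 4, 5, 2, 3], [0, 1, 7, 6, 4, 5, 3, 2], [0, 1, 7, 6, 5, 4, 2, 3], [0, 1, 7, 6, 5, 4, 3, 2],
    [1, 0, 2, 3, 4, 5, 6, 7], [1, 0, 2, 3, 4, 5, 7, 6], [1, 0, 2, 3, 5, 4, 6, 7], [1, 0, 2, 3, 5, 4, 7, 6],
    [1, 0, 2, 3, 6, 7, 4, 5], [1, 0, 2, 3, 6, 7, 5, 4], [1, 0, 2, 3, 7, 6, 4, 5], [1, 0, 2, 3, 7, 6, 5, 4],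
    [1, 0, 3, 2, 4, 5, 6, 7], [1, 0, 3, 2, 4, 5, 7, 6], [1, 0, 3, 2, 5, 4, 6, 7], [1, 0, 3, 2, 5, 4, 7, 6],
    [1, 0, 3, 2, 6, 7, 4, 5], [1, 0, 3, 2, 6, 7, 5, 4], [1, 0, 3, 2, 7, 6, 4, 5], [1, 0, 3, 2, 7, 6, 5, 4],
    [1, 0, 4, 5, 2, 3, 6, 7], [1, 0, 4, 5, 2, 3, 7, 6], [1, 0, 4, 5, 3, 2, 6, 7], [1, 0, 4, 5, 3, 2, 7, 6],
    [1, 0, 4, 5, 6, 7, 2, 3], [1, 0, 4, 5, 6, 7, 3, 2], [1, 0, 4, 5, 7, 6, 2, 3], [1, 0, 4, 5, 7, 6, 3, 2],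
    [1, 0, 5, 4, 2, 3, 6, 7], [1, 0, 5, 4, 2, 3, 7, 6], [1, 0, 5, 4, 3, 2, 6, 7], [1, 0, 5, 4, 3, 2, 7, 6],
    [1, 0, 5, 4, 6, 7, 2, 3], [1, 0, 5, 4, 6, 7, 3, 2], [1, 0, 5, 4, 7, 6, 2, 3], [1, 0, 5, 4, 7, 6, 3, 2],
    [1, 0, 6, 7, 2, 3, 4, 5], [1, 0, 6, 7, 2, 3, 5, 4], [1, 0, 6, 7, 3, 2, 4, 5], [1, 0, 6, 7, 3, 2, 5, 4],
    [1, 0, 6, 7, 4, 5, 2, 3], [1, 0, 6, 7, 4, 5, 3, 2], [1, 0, 6, 7, 5, 4, 2, 3], [1, 0, 6, 7, 5, 4, 3, 2],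
    [1, 0, 7, 6, 2, 3, 4, 5], [1, 0, 7, 6, 2, 3, 5, 4], [1, 0, 7, 6, 3, 2, 4, 5], [1, 0, 7, 6, 3, 2, 5, 4],
    [1, 0, 7, 6, 4, 5, 2, 3], [1, 0, 7, 6, 4, 5, 3, 2], [1, 0, 7, 6, 5, 4, 2, 3], [1, 0, 7, 6, 5, 4, 3, 2],
    [2, 3, 0, 1, 4, 5, 6, 7], [2, 3, 0, 1, 4, 5, 7, 6], [2, 3, 0, 1, 5, 4, 6, 7], [2, 3, 0, 1, 5, 4, 7, 6],
    [2, 3, 0, 1, 6, 7, 4, 5], [2, 3, 0, 1, 6, 7, 5, 4], [2, 3, 0, 1, 7, 6, 4, 5], [2, 3, 0, 1, 7, 6, 5, 4],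
    [2, 3, 1, 0, 4, 5, 6, 7], [2, 3, 1, 0, 4, 5, 7, 6], [2, 3, 1, 0, 5, 4, 6, 7], [2, 3, 1, 0, 5, 4, 7, 6],
    [2, 3, 1, 0, 6, 7, 4, 5], [2, 3, 1, 0, 6, 7, 5, 4], [2, 3, 1, 0, 7, 6, 4, 5], [2, 3, 1, 0, 7, 6, 5, 4],
    [2, 3, 4, 5, 0, 1, 6, 7], [2, 3, 4, 5, 0, 1, 7, 6], [2, 3, 4, 5, 1, 0, 6, 7], [2, 3, 4, 5, 1, 0, 7, 6],
    [2, 3, 4, 5, 6, 7, 0, 1], [2, 3, 4, 5, 6, 7, 1, 0], [2, 3, 4, 5, 7, 6, 0, 1], [2, 3, 4, 5, 7, 6, 1, 0],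
    [2, 3, 5, 4, 0, 1, 6, 7], [2, 3, 5, 4, 0, 1, 7, 6], [2, 3, 5, 4, 1, 0, 6, 7], [2, 3, 5, 4, 1, 0, 7, 6],
    [2, 3, 5, 4, 6, 7, 0, 1], [2, 3, 5, 4, 6, 7, 1, 0], [2, 3, 5, 4, 7, 6, 0, 1], [2, 3, 5, 4, 7, 6, 1, 0],
    [2, 3, 6, 7, 0, 1, 4, 5], [2, 3, 6, 7, 0, 1, 5, 4], [2, 3, 6, 7, 1, 0, 4, 5], [2, 3, 6, 7, 1, 0, 5, 4],
    [2, 3, 6, 7, 4, 5, 0, 1], [2, 3, 6, 7, 4, 5, 1, 0], [2, 3, 6, 7, 5, 4, 0, 1], [2, 3, 6, 7, 5, 4, 1, 0],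
    [2, 3, 7, 6, 0, 1, 4, 5], [2, 3, 7, 6, 0, 1, 5, 4], [2, 3, 7, 6, 1, 0, 4, 5], [2, 3, 7, 6, 1, 0, 5, 4],
    [2, 3, 7, 6, 4, 5, 0, 1], [2, 3, 7, 6, 4, 5, 1, 0], [2, 3, 7, 6, 5, 4, 0, 1], [2, 3, 7, 6, 5, 4, 1, 0],
    [3, 2, 0, 1, 4, 5, 6, 7], [3, 2, 0, 1, 4, 5, 7, 6], [3, 2, 0, 1, 5, 4, 6, 7], [3, 2, 0, 1, 5, 4, 7, 6],
    [3, 2, 0, 1, 6, 7, 4, 5], [3, 2, 0, 1, 6, 7, 5, 4], [3, 2, 0, 1, 7, 6, 4, 5], [3, 2, 0, 1, 7, 6, 5, 4],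
    [3, 2, 1, 0, 4, 5, 6, 7], [3, 2, 1, 0, 4, 5, 7, 6], [3, 2, 1, 0, 5, 4, 6, 7], [3, 2, 1, 0, 5, 4, 7, 6],
    [3, 2, 1, 0, 6, 7, 4, 5], [3, 2, 1, 0, 6, 7, 5, 4], [3, 2, 1, 0, 7, 6, 4, 5], [3, 2, 1, 0, 7, 6, 5, 4],
    [3, 2, 4, 5, 0, 1, 6, 7], [3, 2, 4, 5, 0, 1, 7, 6], [3, 2, 4, 5, 1, 0, 6, 7], [3, 2, 4, 5, 1, 0, 7, 6],
    [3, 2, 4, 5, 6, 7, 0, 1], [3, 2, 4, 5, 6, 7, 1, 0], [3, 2, 4, 5, 7, 6, 0, 1], [3, 2, 4, 5, 7, 6, 1, 0],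
    [3, 2, 5, 4, 0, 1, 6, 7], [3, 2, 5, 4, 0, 1, 7, 6], [3, 2, 5, 4, 1, 0, 6, 7], [3, 2, 5, 4, 1, 0, 7, 6],
    [3, 2, 5, 4, 6, 7, 0, 1], [3, 2, 5, 4, 6, 7, 1, 0], [3, 2, 5, 4, 7, 6, 0, 1], [3, 2, 5, 4, 7, 6, 1, 0],
    [3, 2, 6, 7, 0, 1, 4, 5], [3, 2, 6, 7, 0, 1, 5, 4], [3, 2, 6, 7, 1, 0, 4, 5], [3, 2, 6, 7, 1, 0, 5, 4],
    [3, 2, 6, 7, 4, 5, 0, 1], [3, 2, 6, 7, 4, 5, 1, 0], [3, 2, 6, 7, 5, 4, 0, 1], [3, 2, 6, 7, 5, 4, 1, 0],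
    [3, 2, 7, 6, 0, 1, 4, 5], [3, 2, 7, 6, 0, 1, 5, 4], [3, 2, 7, 6, 1, 0, 4, 5], [3, 2, 7, 6, 1, 0, 5, 4],
    [3, 2, 7, 6, 4, 5, 0, 1], [3, 2, 7, 6, 4, 5, 1, 0], [3, 2, 7, 6, 5, 4, 0, 1], [3, 2, 7, 6, 5, 4, 1, 0],
    [4, 5, 0, 1, 2, 3, 6, 7], [4, 5, 0, 1, 2, 3, 7, 6], [4, 5, 0, 1, 3, 2, 6, 7], [4, 5, 0, 1, 3, 2, 7, 6],
    [4, 5, 0, 1, 6, 7, 2, 3], [4, 5, 0, 1, 6, 7, 3, 2], [4, 5, 0, 1, 7, 6, 2, 3], [4, 5, 0, 1, 7, 6, 3, 2],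
    [4, 5, 1, 0, 2, 3, 6, 7], [4, 5, 1, 0, 2, 3, 7, 6], [4, 5, 1, 0, 3, 2, 6, 7], [4, 5, 1, 0, 3, 2, 7, 6],
    [4, 5, 1, 0, 6, 7, 2, 3], [4, 5, 1, 0, 6, 7, 3, 2], [4, 5, 1, 0, 7, 6, 2, 3], [4, 5, 1, 0, 7, 6, 3, 2],
    [4, 5, 2, 3, 0, 1, 6, 7], [4, 5, 2, 3, 0, 1, 7, 6], [4, 5, 2, 3, 1, 0, 6, 7], [4, 5, 2, 3, 1, 0, 7, 6],
    [4, 5, 2, 3, 6, 7, 0, 1], [4, 5, 2, 3, 6, 7, 1, 0], [4, 5, 2, 3, 7, 6, 0, 1], [4, 5, 2, 3, 7, 6, 1, 0],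
    [4, 5, 3, 2, 0, 1, 6, 7], [4, 5, 3, 2, 0, 1, 7, 6], [4, 5, 3, 2, 1, 0, 6, 7], [4, 5, 3, 2, 1, 0, 7, 6],
    [4, 5, 3, 2, 6, 7, 0, 1], [4, 5, 3, 2, 6, 7, 1, 0], [4, 5, 3, 2, 7, 6, 0, 1], [4, 5, 3, 2, 7, 6, 1, 0],
    [4, 5, 6, 7, 0, 1, 2, 3], [4, 5, 6, 7, 0, 1, 3, 2], [4, 5, 6, 7, 1, 0, 2, 3], [4, 5, 6, 7, 1, 0, 3, 2],
    [4, 5, 6, 7, 2, 3, 0, 1], [4, 5, 6, 7, 2, 3, 1, 0], [4, 5, 6, 7, 3, 2, 0, 1], [4, 5, 6, 7, 3, 2, 1, 0],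
    [4, 5, 7, 6, 0, 1, 2, 3], [4, 5, 7, 6, 0, 1, 3, 2], [4, 5, 7, 6, 1, 0, 2, 3], [4, 5, 7, 6, 1, 0, 3, 2],
    [4, 5, 7, 6, 2, 3, 0, 1], [4, 5, 7, 6, 2, 3, 1, 0], [4, 5, 7, 6, 3, 2, 0, 1], [4, 5, 7, 6, 3, 2, 1, 0],
    [5, 4, 0, 1, 2, 3, 6, 7], [5, 4, 0, 1, 2, 3, 7, 6], [5, 4, 0, 1, 3, 2, 6, 7], [5, 4, 0, 1, 3, 2, 7, 6],
    [5, 4, 0, 1, 6, 7, 2, 3], [5, 4, 0, 1, 6, 7, 3, 2], [5, 4, 0, 1, 7, 6, 2, 3], [5, 4, 0, 1, 7, 6, 3, 2],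
    [5, 4, 1, 0, 2, 3, 6, 7], [5, 4, 1, 0, 2, 3, 7, 6], [5, 4, 1, 0, 3, 2, 6, 7], [5, 4, 1, 0, 3, 2, 7, 6],
    [5, 4, 1, 0, 6, 7, 2, 3], [5, 4, 1, 0, 6, 7, 3, 2], [5, 4, 1, 0, 7, 6, 2, 3], [5, 4, 1, 0, 7, 6, 3, 2],
    [5, 4, 2, 3, 0, 1, 6, 7], [5, 4, 2, 3, 0, 1, 7, 6], [5, 4, 2, 3, 1, 0, 6, 7], [5, 4, 2, 3, 1, 0, 7, 6],
    [5, 4, 2, 3, 6, 7, 0, 1], [5, 4, 2, 3, 6, 7, 1, 0], [5, 4, 2, 3, 7, 6, 0, 1], [5, 4, 2, 3, 7, 6, 1, 0],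
    [5, 4, 3, 2, 0, 1, 6, 7], [5, 4, 3, 2, 0, 1, 7, 6], [5, 4, 3, 2, 1, 0, 6, 7], [5, 4, 3, 2, 1, 0, 7, 6],
    [5, 4, 3, 2, 6, 7, 0, 1], [5, 4, 3, 2, 6, 7, 1, 0], [5, 4, 3, 2, 7, 6, 0, 1], [5, 4, 3, 2, 7, 6, 1, 0],
    [5, 4, 6, 7, 0, 1, 2, 3], [5, 4, 6, 7, 0, 1, 3, 2], [5, 4, 6, 7, 1, 0, 2, 3], [5, 4, 6, 7, 1, 0, 3, 2],
    [5, 4, 6, 7, 2, 3, 0, 1], [5, 4, 6, 7, 2, 3, 1, 0], [5, 4, 6, 7, 3, 2, 0, 1], [5, 4, 6, 7, 3, 2, 1, 0],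
    [5, 4, 7, 6, 0, 1, 2, 3], [5, 4, 7, 6, 0, 1, 3, 2], [5, 4, 7, 6, 1, 0, 2, 3], [5, 4, 7, 6, 1, 0, 3, 2],
    [5, 4, 7, 6, 2, 3, 0, 1], [5, 4, 7, 6, 2, 3, 1, 0], [5, 4, 7, 6, 3, 2, 0, 1], [5, 4, 7, 6, 3, 2, 1, 0],
    [6, 7, 0, 1, 2, 3, 4, 5], [6, 7, 0, 1, 2, 3, 5, 4], [6, 7, 0, 1, 3, 2, 4, 5], [6, 7, 0, 1, 3, 2, 5, 4],
    [6, 7, 0, 1, 4, 5, 2, 3], [6, 7, 0, 1, 4, 5, 3, 2], [6, 7, 0, 1, 5, 4, 2, 3], [6, 7, 0, 1, 5, 4, 3, 2],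
    [6, 7, 1, 0, 2, 3, 4, 5], [6, 7, 1, 0, 2, 3, 5, 4], [6, 7, 1, 0, 3, 2, 4, 5], [6, 7, 1, 0, 3, 2, 5, 4],
    [6, 7, 1, 0, 4, 5, 2, 3], [6, 7, 1, 0, 4, 5, 3, 2], [6, 7, 1, 0, 5, 4, 2, 3], [6, 7, 1, 0, 5, 4, 3, 2],
    [6, 7, 2, 3, 0, 1, 4, 5], [6, 7, 2, 3, 0, 1, 5, 4], [6, 7, 2, 3, 1, 0, 4, 5], [6, 7, 2, 3, 1, 0, 5, 4],
    [6, 7, 2, 3, 4, 5, 0, 1], [6, 7, 2, 3, 4, 5, 1, 0], [6, 7, 2, 3, 5, 4, 0, 1], [6, 7, 2, 3, 5, 4, 1, 0],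
    [6, 7, 3, 2, 0, 1, 4, 5], [6, 7, 3, 2, 0, 1, 5, 4], [6, 7, 3, 2, 1, 0, 4, 5], [6, 7, 3, 2, 1, 0, 5, 4],
    [6, 7, 3, 2, 4, 5, 0, 1], [6, 7, 3, 2, 4, 5, 1, 0], [6, 7, 3, 2, 5, 4, 0, 1], [6, 7, 3, 2, 5, 4, 1, 0],
    [6, 7, 4, 5, 0, 1, 2, 3], [6, 7, 4, 5, 0, 1, 3, 2], [6, 7, 4, 5, 1, 0, 2, 3], [6, 7, 4, 5, 1, 0, 3, 2],
    [6, 7, 4, 5, 2, 3, 0, 1], [6, 7, 4, 5, 2, 3, 1, 0], [6, 7, 4, 5, 3, 2, 0, 1], [6, 7, 4, 5, 3, 2, 1, 0],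
    [6, 7, 5, 4, 0, 1, 2, 3], [6, 7, 5, 4, 0, 1, 3, 2], [6, 7, 5, 4, 1, 0, 2, 3], [6, 7, 5, 4, 1, 0, 3, 2],
    [6, 7, 5, 4, 2, 3, 0, 1], [6, 7, 5, 4, 2, 3, 1, 0], [6, 7, 5, 4, 3, 2, 0, 1], [6, 7, 5, 4, 3, 2, 1, 0],
    [7, 6, 0, 1, 2, 3, 4, 5], [7, 6, 0, 1, 2, 3, 5, 4], [7, 6, 0, 1, 3, 2, 4, 5], [7, 6, 0, 1, 3, 2, 5, 4],
    [7, 6, 0, 1, 4, 5, 2, 3], [7, 6, 0, 1, 4, 5, 3, 2], [7, 6, 0, 1, 5, 4, 2, 3], [7, 6, 0, 1, 5, 4, 3, 2],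
    [7, 6, 1, 0, 2, 3, 4, 5], [7, 6, 1, 0, 2, 3, 5, 4], [7, 6, 1, 0, 3, 2, 4, 5], [7, 6, 1, 0, 3, 2, 5, 4],
    [7, 6, 1, 0, 4, 5, 2, 3], [7, 6, 1, 0, 4, 5, 3, 2], [7, 6, 1, 0, 5, 4, 2, 3], [7, 6, 1, 0, 5, 4, 3, 2],
    [7, 6, 2, 3, 0, 1, 4, 5], [7, 6, 2, 3, 0, 1, 5, 4], [7, 6, 2, 3, 1, 0, 4, 5], [7, 6, 2, 3, 1, 0, 5, 4],
    [7, 6, 2, 3, 4, 5, 0, 1], [7, 6, 2, 3, 4, 5, 1, 0], [7, 6, 2, 3, 5, 4, 0, 1], [7, 6, 2, 3, 5, 4, 1, 0],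
    [7, 6, 3, 2, 0, 1, 4, 5], [7, 6, 3, 2, 0, 1, 5, 4], [7, 6, 3, 2, 1, 0, 4, 5], [7, 6, 3, 2, 1, 0, 5, 4],
    [7, 6, 3, 2, 4, 5, 0, 1], [7, 6, 3, 2, 4, 5, 1, 0], [7, 6, 3, 2, 5, 4, 0, 1], [7, 6, 3, 2, 5, 4, 1, 0],
    [7, 6, 4, 5, 0, 1, 2, 3], [7, 6, 4, 5, 0, 1, 3, 2], [7, 6, 4, 5, 1, 0, 2, 3], [7, 6, 4, 5, 1, 0, 3, 2],
    [7, 6, 4, 5, 2, 3, 0, 1], [7, 6, 4, 5, 2, 3, 1, 0], [7, 6, 4, 5, 3, 2, 0, 1], [7, 6, 4, 5, 3, 2, 1, 0],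
    [7, 6, 5, 4, 0, 1, 2, 3], [7, 6, 5, 4, 0, 1, 3, 2], [7, 6, 5, 4, 1, 0, 2, 3], [7, 6, 5, 4, 1, 0, 3, 2],
    [7, 6, 5, 4, 2, 3, 0, 1], [7, 6, 5, 4, 2, 3, 1, 0], [7, 6, 5, 4, 3, 2, 0, 1], [7, 6, 5, 4, 3, 2, 1, 0]]

/-- all members -/
def lT : List P8 := rowsT.map toP

/-- all permutations commuting with `sP` -/
def lC : List P8 := rowsC.map toP

/-- membership as a test -/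
def inT (g : P8) : Bool := evenL ((List.finRange 8).map fun i => g i) && eq8 (g * sP) (sP * g)

theorem srch_eq : srch [sP] 8 = rowsC := by decide +kernel

theorem rowsT_eq : rowsC.filter evenL = rowsT := by decide +kernel

theorem sign_table : (rowsC.all fun l => decide (Perm.sign (toP l) = 1) == evenL l) = true := by decide +kernel

theorem rows_toP : (rowsC.all fun l => ((List.finRange 8).map fun i => toP l i) == l) = true := by decide +kernel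

theorem mem_lC {g : P8} (h : g * sP = sP * g) : g ∈ lC := by
  rw [← toP_pref g, lC, ← srch_eq]
  exact List.mem_map_of_mem (pref_mem [sP] g (by simpa using h) 8 le_rfl)

theorem inT_iff {g : P8} : inT g = true ↔ g ∈ T8 := by
  rw [inT, mem_T8, Bool.and_eq_true, eq8_iff]
  refine and_congr_left fun h => ?_
  obtain ⟨l, hl, e⟩ := List.mem_map.1 (mem_lC h)
  have h1 := beq_iff_eq.1 (List.all_eq_true.1 rows_toP l hl)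
  rw [e] at h1
  have h2 := beq_iff_eq.1 (List.all_eq_true.1 sign_table l hl)
  rw [h1, ← h2, e, decide_eq_true_eq]

theorem mem_lT {g : P8} (h : g ∈ T8) : g ∈ lT := by
  obtain ⟨l, hl, e⟩ := List.mem_map.1 (mem_lC (mem_T8.1 h).2)
  refine List.mem_map.2 ⟨l, ?_, e⟩
  rw [← rowsT_eq, List.mem_filter]
  refine ⟨hl, ?_⟩
  rw [← beq_iff_eq.1 (List.all_eq_true.1 sign_table l hl), e, decide_eq_true_eq]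
  exact (mem_T8.1 h).1

theorem lT_table : (lT.all inT) = true := by decide +kernel

theorem of_lT {g : P8} (h : g ∈ lT) : g ∈ T8 := inT_iff.1 (List.all_eq_true.1 lT_table g h)

/-- the action on the four transpositions is in the four-group -/
def inQ (g : P8) : Bool :=
  let p : ℕ → ℕ := fun i => ([g 0, g 2, g 4, g 6].getD i 0).1 / 2
  ((List.range 4).all fun i => p i == i) || ((List.range 4).all fun i => p i != i && p (p i) == i)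

/-- the members over the four-group -/
def lQ : List P8 := lT.filter inQ

theorem lQ_len : lQ.length = 32 := by decide +kernel

theorem lQ_nodup : (lQ.map fun (g : P8) => (List.finRange 8).map fun i => g i).Nodup := by decide +kernel

theorem lQ_closed : ((lQ.all fun x => inQ x⁻¹ && lQ.all fun y => inQ (x * y)) && inQ 1) = true := by decide +kernel

theorem lQ_sq : (lQ.all fun x => eq8 (x * x) 1 || eq8 (x * x) sP) = true := by decide +kernel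

theorem lQ_com : (lQ.all fun x => lQ.all fun y => eq8 (x * y) (y * x) || eq8 (x * y) (sP * (y * x))) = true := by
  decide +kernel

theorem lQ_cen : (lQ.all fun x => eq8 x 1 || eq8 x sP || lQ.any fun y => !eq8 (x * y) (y * x)) = true := by
  decide +kernel

theorem lQ_fpf : (lQ.all fun x => !eq8 (cP * x) (x * cP) || eq8 x 1 || eq8 x sP) = true := by decide +kernel

theorem lQ_norm : (lQ.all fun x => inQ (cP * x * cP⁻¹) && inQ (vP * x * vP⁻¹)) = true := by decide +kernel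

theorem gens_T8 : ([sP, uP, vP, rP, cP].all inT && eq8 (cP * cP * cP) 1 && !eq8 cP 1 &&
    eq8 (vP * cP * vP⁻¹) cP⁻¹ && eq8 (vP * vP) 1 && eq8 (sP * sP) 1 && !eq8 sP 1 &&
    inQ sP && !inQ vP && !inQ cP) = true := by
  decide +kernel

theorem decomp8 : (lT.all fun g => (List.range 3).any fun j => (List.range 2).any fun k =>
    inQ (g * (vP ^ k)⁻¹ * (cP ^ j)⁻¹)) = true := by decide +kernel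

theorem one_invol8 : (lT.all fun v => eq8 v 1 || eq8 v sP || !eq8 (v * v) 1 ||
    lT.all fun w => eq8 w 1 || !eq8 (w * w * w) 1 || !eq8 (v * w) (w * v)) = true := by decide +kernel

/-- the sixteen products of the two four-groups -/
def lA : List P8 :=
  (List.range 16).map fun x => uP ^ (x % 2) * vP ^ (x / 2 % 2) * rP ^ (x / 4 % 2) * (sP * uP) ^ (x / 8 % 2)

theorem gen8 : (lT.all fun g => (List.range 3).any fun i => (List.range 3).any fun j => lA.any fun x =>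
    lA.any fun y => eq8 g (x * cP ^ i * (y * cP ^ j))) = true := by decide +kernel

/-- fixed-point-free, as a test -/
def free8 (g : P8) : Bool := (List.finRange 8).all fun i => g i != i

/-- an involution of the other type -/
def isW (g : P8) : Bool := eq8 (g * g) 1 && !eq8 g 1 && !free8 g

/-- an involution of the central type -/
def isS (g : P8) : Bool := eq8 (g * g) 1 && free8 g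

/-- Automorphisms respecting the two types on the two four-groups are conjugations. -/
theorem aut8 : ((lT.filter isW).all fun p => !isW (sP * p) || (lT.filter isW).all fun q =>
    !(eq8 (p * q) (q * p) && isW (p * q)) || (lT.filter isW).all fun r =>
      !(eq8 (p * r) (r * p) && eq8 (q * r) (r * q) && isW (sP * p * r) && isS (p * r) && isS (q * r)) ||
        lT.all fun c => !(eq8 (c * c * c) 1 && !eq8 c 1 && eq8 (c * q * (c * q)) 1) ||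
          lC.any fun g => eq8 (g * uP) (p * g) && eq8 (g * vP) (q * g) && eq8 (g * rP) (r * g) && eq8 (g * cP) (c * g))
    = true := by decide +kernel

theorem gens_rel : (isW uP && isW vP && isW rP && isW (sP * uP) && isW (uP * vP) && isW (sP * uP * rP) &&
    isS (uP * rP) && isS (vP * rP) && eq8 (cP * vP * (cP * vP)) 1 && eq8 (uP * vP) (vP * uP) &&
    eq8 (uP * rP) (rP * uP) && eq8 (vP * rP) (rP * vP)) = true := by decide +kernel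

/-- the extension to twelve letters -/
def up8 : P8 →* P12 where
  toFun g :=
    ⟨fun i => if h : i.1 < 8 then (g ⟨i.1, h⟩).castLE (by norm_num) else i,
      fun i => if h : i.1 < 8 then (g.symm ⟨i.1, h⟩).castLE (by norm_num) else i,
      fun i => by
        by_cases h : i.1 < 8
        · simp [h]
        · simp [h],
      fun i => by
        by_cases h : i.1 < 8
        · simp [h]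
        · simp [h]⟩
  map_one' := Equiv.ext fun i => by by_cases h : i.1 < 8 <;> simp [h]
  map_mul' g h := Equiv.ext fun i => by by_cases h' : i.1 < 8 <;> simp [h']

theorem up8_table : ((lC.all fun g => inX (up8 g) == inT g) && same (up8 sP) (av 24) && same (up8 uP) (av 8) &&
    same (up8 vP) (av 1) && same (up8 rP) (av 2) && same (up8 (sP * uP)) (av 16)) = true := by decide +kernel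

end CfsgLib.TwelveCent
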