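import Cfsg.Agent.Lib.TwelveCent.Nine.Cross

/-!
An alternating group of degree twelve or thirteen inside, extending the centraliser of the involution.
-/

set_option autoImplicit false
set_option linter.style.haveILetI false
set_option linter.unusedSectionVars false
set_option maxRecDepth 100000

namespace CfsgLib.TwelveCent

open Equiv CfsgLib.AltPres

/-- the generators of the centraliser -/
def gen12 : List P12 := [up8 sP, up8 uP, up8 vP, up8 rP, up8 cP, qBC]

/-- words bringing a letter to the tenth place -/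
def bring10 : List (List ℕ) := [[5, 3, 4, 2], [5, 3, 4, 2, 0], [5, 3, 4], [5, 3, 4, 0], [5, 3], [5, 3, 0], [5], [5, 0], [5, 3, 5], [5, 3, 0, 5], [], [5, 0, 5]]

/-- words fixing the tenth place and bringing a letter to the eighth -/
def bring8 : List (List ℕ) := [[5, 4, 5, 2], [5, 4, 5, 2, 0], [5, 4, 5], [5, 4, 5, 0], [5, 4, 5, 2, 4], [5, 4, 5, 2, 4, 0], [5, 4, 5, 2, 4, 3], [5, 4, 5, 2, 4, 3, 0], [], [5, 4, 2, 1, 4, 5], [], []]

/-- the value of a word -/
def wv (l : List ℕ) : P12 := (l.map fun k => gen12.getD k 1).prod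

theorem bring_table : (∀ i : Fin 12, wv (bring10.getD i.1 []) i = 10) ∧
    (∀ i : Fin 12, i ≠ 10 → i ≠ 11 → wv (bring8.getD i.1 []) i = 8 ∧ wv (bring8.getD i.1 []) 10 = 10) := by
  decide +kernel

theorem up8_apply (g : P8) (i : Fin 8) : up8 g (i.castLE (by norm_num)) = (g i).castLE (by norm_num) :=
  dif_pos i.2

/-- The centraliser is generated by the part in degree eight and the exchange. -/
theorem X12_gen (K : Subgroup P12) (h8 : ∀ g ∈ T8, up8 g ∈ K) (hw : qBC ∈ K) : ∀ x ∈ X12, x ∈ K := by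
  obtain ⟨h10, h8'⟩ := bring_table
  have hg : ∀ g ∈ gen12, g ∈ K ∧ g ∈ X12 := by
    intro g hg
    obtain ⟨s, u, v, r, c⟩ := mem5
    simp only [gen12, List.mem_cons, List.not_mem_nil, or_false] at hg
    rcases hg with rfl | rfl | rfl | rfl | rfl | rfl
    exacts [⟨h8 _ s, up8_mem s⟩, ⟨h8 _ u, up8_mem u⟩, ⟨h8 _ v, up8_mem v⟩, ⟨h8 _ r, up8_mem r⟩, ⟨h8 _ c, up8_mem c⟩,
      ⟨hw, g4P_mem 3⟩]
  have hwv : ∀ l : List ℕ, wv l ∈ K ∧ wv l ∈ X12 := by
    intro l
    induction l with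
    | nil => exact ⟨one_mem _, one_mem _⟩
    | cons k l ih =>
      have hk : gen12.getD k 1 ∈ K ∧ gen12.getD k 1 ∈ X12 := by
        rcases Nat.lt_or_ge k gen12.length with h | h
        · rw [List.getD_eq_getElem _ _ h]; exact hg _ (List.getElem_mem h)
        · rw [List.getD_eq_default _ _ h]; exact ⟨one_mem _, one_mem _⟩
      exact ⟨mul_mem hk.1 ih.1, mul_mem hk.2 ih.2⟩
  intro x hx
  set g := wv (bring10.getD (x 10).1 []) with hgdef
  have e10 : (g * x) 10 = 10 := h10 _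
  have hgX : g * x ∈ X12 := mul_mem (hwv _).2 hx
  have halp : alp (10 : Fin 12) = 11 ∧ alp (8 : Fin 12) = 9 := by decide +kernel
  have comm : ∀ {y : P12}, y ∈ X12 → ∀ j, y (alp j) = alp (y j) := fun hy j => DFunLike.congr_fun (mem_X12.1 hy).2 j
  have e11 : (g * x) 11 = 11 := by rw [← halp.1, comm hgX, e10]
  obtain ⟨hk8, hk10⟩ := h8' ((g * x) 8) (fun h => absurd ((g * x).injective (h.trans e10.symm)) (by decide))
    (fun h => absurd ((g * x).injective (h.trans e11.symm)) (by decide))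
  set k := wv (bring8.getD ((g * x) 8).1 []) with hkdef
  set y := k * (g * x) with hy
  have hyX : y ∈ X12 := mul_mem (hwv _).2 hgX
  have y8 : y 8 = 8 := hk8
  have y10 : y 10 = 10 := by rw [hy, Perm.mul_apply, e10]; exact hk10
  have y9 : y 9 = 9 := by rw [← halp.2, comm hyX, y8]
  have y11 : y 11 = 11 := by rw [← halp.1, comm hyX, y10]
  have hcases : ∀ j : Fin 12, j.1 < 8 ∨ j = 8 ∨ j = 9 ∨ j = 10 ∨ j = 11 := by decide
  have hlow : ∀ i : Fin 12, i.1 < 8 → (y i).1 < 8 := by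
    intro i hi
    rcases hcases (y i) with e' | e' | e' | e' | e'
    · exact e'
    all_goals
      exfalso
      first
        | have := y.injective (e'.trans y8.symm)
        | have := y.injective (e'.trans y9.symm)
        | have := y.injective (e'.trans y10.symm)
        | have := y.injective (e'.trans y11.symm)
      subst this
      simp at hi
  let r : P8 := Equiv.ofBijective (fun i : Fin 8 => (⟨(y (i.castLE (by norm_num))).1, hlow _ i.2⟩ : Fin 8))
    (Finite.injective_iff_bijective.1 fun i j e' => Fin.castLE_injective _ (y.injective (Fin.ext (congrArg Fin.val e' :))))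
  have hup : up8 r = y := by
    refine Equiv.ext fun i => ?_
    show (if h' : i.1 < 8 then _ else _) = _
    split_ifs with hi
    · exact Fin.ext rfl
    · rcases (hcases i).resolve_left hi with rfl | rfl | rfl | rfl
      exacts [y8.symm, y9.symm, y10.symm, y11.symm]
  have hr : r * sP = sP * r := by
    refine Equiv.ext fun i => Fin.castLE_injective (show 8 ≤ 12 by norm_num) ?_
    have hs : ∀ j : Fin 8, ((sP j).castLE (show 8 ≤ 12 by norm_num)) = alp (j.castLE (by norm_num)) := by decide +kernel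
    show ((r (sP i)).castLE _ : Fin 12) = (sP (r i)).castLE _
    rw [hs]
    have e' : ∀ j, ((r j).castLE (show 8 ≤ 12 by norm_num) : Fin 12) = y (j.castLE (by norm_num)) := fun j => Fin.ext rfl
    rw [e', e', hs]
    exact comm hyX _
  have hrT : r ∈ T8 := by
    have ht := up8_table
    simp only [Bool.and_eq_true, List.all_eq_true, beq_iff_eq] at ht
    exact inT_iff.1 ((ht.1.1.1.1.1 r (mem_lC hr)).symm.trans (inX_iff.2 (hup ▸ hyX)))
  have hyK : y ∈ K := hup ▸ h8 r hrT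
  have := K.mul_mem (K.inv_mem (hwv (bring10.getD (x 10).1 [])).1) (K.mul_mem (K.inv_mem (hwv (bring8.getD ((g * x) 8).1 [])).1) hyK)
  rwa [hy, inv_mul_cancel_left, inv_mul_cancel_left] at this

/-- permutations of thirteen letters -/
abbrev P13 : Type := Equiv.Perm (Fin 13)

/-- equality as a test -/
def eq13 (g h : P13) : Bool := (List.finRange 13).all fun i => g i == h i

theorem eq13_iff {g h : P13} : eq13 g h = true ↔ g = h := by
  rw [eq13, List.all_eq_true]
  exact ⟨fun e => Equiv.ext fun i => by simpa using e i (List.mem_finRange i), fun e i _ => by simp [e]⟩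

/-- an extended transposition is a transposition -/
theorem viaEmb_swap {α β : Type*} [DecidableEq α] [DecidableEq β] (ι : α ↪ β) (i j : α) :
    Perm.viaEmbeddingHom ι (swap i j) = swap (ι i) (ι j) := by
  refine Equiv.ext fun x => ?_
  rw [Perm.viaEmbeddingHom_apply]
  by_cases hx : x ∈ Set.range ι
  · obtain ⟨a, rfl⟩ := hx
    rw [Perm.viaEmbedding_apply]
    exact (ι.injective.swap_apply i j a).symm
  · rw [Perm.viaEmbedding_apply_of_notMem _ _ _ hx]
    exact (swap_apply_of_ne_of_ne (fun e => hx ⟨i, e.symm⟩) (fun e => hx ⟨j, e.symm⟩)).symm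

theorem viaEmb_sign {α β : Type*} [DecidableEq α] [Fintype α] [DecidableEq β] [Fintype β] (ι : α ↪ β) (g : Perm α) :
    Perm.sign (Perm.viaEmbeddingHom ι g) = Perm.sign g := by
  induction g using Equiv.Perm.swap_induction_on with
  | one => simp
  | swap_mul f a b hab ih =>
    rw [map_mul, map_mul, map_mul, ih, viaEmb_swap, Perm.sign_swap hab, Perm.sign_swap (ι.injective.ne hab)]

/-- `0, ..., 7` and `12` -/
def emb9 (i : Fin 9) : Fin 13 := if i.1 < 8 then i.castLE (by norm_num) else 12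

theorem emb9_inj : Function.Injective emb9 := by decide +kernel

/-- the extension from nine letters -/
noncomputable def up913 : P9 →* P13 := Perm.viaEmbeddingHom ⟨emb9, emb9_inj⟩

/-- the extension from twelve letters -/
noncomputable def up12 : P12 →* P13 := Perm.viaEmbeddingHom (Fin.castSuccEmb)

theorem up913_inj : Function.Injective up913 := Perm.viaEmbeddingHom_injective _

theorem up12_inj : Function.Injective up12 := Perm.viaEmbeddingHom_injective _

theorem up12_cast (g : P12) (i : Fin 12) : up12 g i.castSucc = (g i).castSucc :=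
  Perm.viaEmbedding_apply g Fin.castSuccEmb i

theorem up12_last (g : P12) : up12 g 12 = 12 :=
  Perm.viaEmbedding_apply_of_notMem g Fin.castSuccEmb 12 (by
    rintro ⟨i, hi⟩
    have := congrArg Fin.val hi
    simp only [Fin.castSuccEmb, Function.Embedding.coeFn_mk, Fin.val_castSucc] at this
    have h12 := i.2
    change i.1 = 12 at this
    omega)

theorem up913_apply (g : P9) (i : Fin 9) : up913 g (emb9 i) = emb9 (g i) :=
  Perm.viaEmbedding_apply g ⟨emb9, emb9_inj⟩ i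

theorem up913_mid (g : P9) {i : Fin 13} (h1 : 8 ≤ i.1) (h2 : i.1 ≤ 11) : up913 g i = i :=
  Perm.viaEmbedding_apply_of_notMem g ⟨emb9, emb9_inj⟩ i (by
    rintro ⟨j, hj⟩
    have key : ∀ j : Fin 9, (emb9 j).1 < 8 ∨ (emb9 j).1 = 12 := by decide +kernel
    have := key j
    rw [show emb9 j = i from hj] at this
    omega)

theorem up_compat (g : P8) : up12 (up8 g) = up913 (up89 g) := by
  refine Equiv.ext fun i => ?_
  have hc : i.1 < 8 ∨ (8 ≤ i.1 ∧ i.1 ≤ 11) ∨ i = 12 := by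
    rcases i with ⟨v, hv⟩
    simp only [Fin.ext_iff]
    show v < 8 ∨ (8 ≤ v ∧ v ≤ 11) ∨ v = 12
    omega
  rcases hc with h | h | h
  · have e1 : i = (Fin.castLE (show 8 ≤ 12 by norm_num) ⟨i.1, h⟩).castSucc := Fin.ext rfl
    have e2 : i = emb9 (Fin.castLE (show 8 ≤ 9 by norm_num) ⟨i.1, h⟩) := by
      rw [emb9, if_pos (show ((Fin.castLE (show 8 ≤ 9 by norm_num) ⟨i.1, h⟩) : Fin 9).1 < 8 from h)]
      exact Fin.ext rfl
    conv_lhs => rw [e1]
    conv_rhs => rw [e2]
    rw [up12_cast, up8_apply, up913_apply, up89_apply, emb9,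
      if_pos (show ((Fin.castLE (show 8 ≤ 9 by norm_num) (g ⟨i.1, h⟩)) : Fin 9).1 < 8 from (g _).2)]
    exact Fin.ext rfl
  · rw [up913_mid _ h.1 h.2]
    have e1 : i = (⟨i.1, by omega⟩ : Fin 12).castSucc := Fin.ext rfl
    conv_lhs => rw [e1, up12_cast]
    show (if h' : i.1 < 8 then _ else _ : Fin 12).castSucc = _
    rw [dif_neg (by omega)]
    exact Fin.ext rfl
  · rw [h, up12_last]
    have := up913_apply (up89 g) 8
    rw [up89_eight] at this
    exact this.symm

/-- the alternating group of degree twelve or thirteen -/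
def M13 (d : Bool) : Subgroup P13 where
  carrier := {g | Perm.sign g = 1 ∧ (d = true ∨ g 12 = 12)}
  one_mem' := ⟨map_one _, .inr rfl⟩
  mul_mem' := by
    rintro g h ⟨hg, hg'⟩ ⟨hh, hh'⟩
    refine ⟨by rw [map_mul, hg, hh, one_mul], ?_⟩
    rcases hg' with e | e
    · exact .inl e
    rcases hh' with e' | e'
    · exact .inl e'
    · exact .inr (by rw [Perm.mul_apply, e', e])
  inv_mem' := by
    rintro g ⟨hg, hg'⟩
    exact ⟨by rw [map_inv, hg, inv_one], hg'.imp id fun e => Perm.inv_eq_iff_eq.2 e.symm⟩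

theorem sign_up12 (g : P12) : Perm.sign (up12 g) = Perm.sign g := viaEmb_sign _ _

theorem sign_up913 (g : P9) : Perm.sign (up913 g) = Perm.sign g := viaEmb_sign _ _

theorem up12_M13 {d : Bool} {g : P12} (hg : Perm.sign g = 1) : up12 g ∈ M13 d :=
  ⟨(sign_up12 g).trans hg, .inr (up12_last g)⟩

theorem up913_M13 {d : Bool} {g : P9} (hg : g ∈ M9 d) : up913 g ∈ M13 d := by
  refine ⟨(sign_up913 g).trans hg.1, hg.2.imp id fun e => ?_⟩
  have := up913_apply g 8
  rw [e] at this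
  exact this

/-- `(0 1 p)` -/
def c13 (p : Fin 13) : P13 := swap 1 0 * swap 0 p

/-- the index of a small letter -/
def sm (p : Fin 13) : Fin 9 := if h : p.1 < 8 then ⟨p.1, by omega⟩ else 8

/-- the effect of the exchange on letters -/
def sig13 (p : Fin 13) : Fin 13 :=
  if 4 ≤ p.1 ∧ p.1 ≤ 7 then ⟨(p.1 + 4) % 13, Nat.mod_lt _ (by norm_num)⟩
  else if 8 ≤ p.1 ∧ p.1 ≤ 11 then ⟨p.1 - 4, by omega⟩ else p

theorem c9_rel : ((List.finRange 9).all fun a => a == 0 || a == 1 || (eq9 (c9 a * c9 a * c9 a) 1 &&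
    (List.finRange 9).all fun b => b == 0 || b == 1 || a == b || eq9 (c9 a * c9 b * (c9 a * c9 b)) 1)) = true := by
  decide +kernel

theorem up913_swap (i j : Fin 9) : up913 (swap i j) = swap (emb9 i) (emb9 j) :=
  viaEmb_swap ⟨emb9, emb9_inj⟩ i j

theorem up913_c9 (p : Fin 9) : up913 (c9 p) = c13 (emb9 p) := by
  rw [c9, map_mul, up913_swap, up913_swap]; rfl

theorem pts_cyc : (∀ i : Fin 11, eq13 ((pts 11).permCongrHom (cyc3 i)) (c13 ⟨i.1 + 2, by omega⟩) = true) ∧
    (∀ i : Fin 10, eq9 1 1 = true → (List.finRange 12).all (fun j => (pts 10).permCongrHom (cyc3 i) j ==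
      (swap (1 : Fin 12) 0 * swap 0 ⟨i.1 + 2, by omega⟩ : P12) j) = true) ∧
    (∀ i : Fin 7, eq9 ((pts 7).permCongrHom (cyc3 i)) (c9 ⟨i.1 + 2, by omega⟩) = true) ∧
    (∀ i : Fin 6, eq9 (up89 ((pts 6).permCongrHom (cyc3 i))) (c9 ⟨i.1 + 2, by omega⟩) = true) := by decide +kernel

theorem up12_swap (i j : Fin 12) : up12 (swap i j) = swap i.castSucc j.castSucc :=
  viaEmb_swap Fin.castSuccEmb i j

/-- the cycles generate -/
theorem M13_equiv (d : Bool) : ∃ (k : ℕ) (η : alternatingGroup (Bool ⊕ Fin k) ≃* M13 d), 5 ≤ k ∧ k ≤ 11 ∧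
    (d = false → k = 10) ∧ (d = true → k = 11) ∧ ∀ i : Fin k, ∃ h : i.1 + 2 < 13, (η (cycA i) : P13) = c13 ⟨i.1 + 2, h⟩ := by
  obtain ⟨h11, h10, -, -⟩ := pts_cyc
  rcases Bool.eq_false_or_eq_true d with rfl | rfl
  · refine ⟨11, MulEquiv.ofBijective (((pts 11).permCongrHom.toMonoidHom.comp (alternatingGroup _).subtype).codRestrict
      (M13 true) fun a => ⟨(Perm.sign_permCongr (pts 11) _).trans (Perm.mem_alternatingGroup.1 a.2), .inl rfl⟩)
      ⟨fun p q e => Subtype.ext ((pts 11).permCongrHom.injective (congrArg Subtype.val e)), fun ⟨y, hy⟩ => ?_⟩,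
      by norm_num, le_rfl, by simp, fun _ => rfl, fun i => ⟨by omega, eq13_iff.1 (h11 i)⟩⟩
    refine ⟨⟨(pts 11).permCongrHom.symm y, Perm.mem_alternatingGroup.2 ?_⟩,
      Subtype.ext ((pts 11).permCongrHom.apply_symm_apply y)⟩
    rw [← Perm.sign_permCongr (pts 11)]
    exact (congrArg Perm.sign ((pts 11).permCongrHom.apply_symm_apply y)).trans hy.1
  · refine ⟨10, MulEquiv.ofBijective ((up12.comp ((pts 10).permCongrHom.toMonoidHom.comp (alternatingGroup _).subtype)).codRestrict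
      (M13 false) fun a => up12_M13 ((Perm.sign_permCongr (pts 10) _).trans (Perm.mem_alternatingGroup.1 a.2)))
      ⟨fun p q e => Subtype.ext ((pts 10).permCongrHom.injective (up12_inj (congrArg Subtype.val e))), fun ⟨y, hy⟩ => ?_⟩,
      by norm_num, by norm_num, fun _ => rfl, by simp, fun i => ⟨by omega, ?_⟩⟩
    · have h12 : y 12 = 12 := hy.2.resolve_left (by decide)
      have hlow : ∀ i : Fin 12, (y i.castSucc).1 < 12 := fun i => by
        by_contra h
        have h' : y i.castSucc = 12 := Fin.ext (by have := (y i.castSucc).2; show _ = 12; omega)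
        have := congrArg Fin.val (y.injective (h'.trans h12.symm))
        have := i.2
        simp at *
        omega
      let r : P12 := Equiv.ofBijective (fun i => (⟨_, hlow i⟩ : Fin 12)) (Finite.injective_iff_bijective.1 fun i j e =>
        Fin.castSucc_injective _ (y.injective (Fin.ext (congrArg Fin.val e :))))
      have hr : up12 r = y := by
        refine Equiv.ext fun i => ?_
        induction i using Fin.lastCases with
        | last => exact (up12_last r).trans h12.symm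
        | cast i => rw [up12_cast]; exact Fin.ext rfl
      refine ⟨⟨(pts 10).permCongrHom.symm r, Perm.mem_alternatingGroup.2 ?_⟩,
        Subtype.ext ((congrArg up12 ((pts 10).permCongrHom.apply_symm_apply r)).trans hr)⟩
      rw [← Perm.sign_permCongr (pts 10)]
      refine (congrArg Perm.sign ((pts 10).permCongrHom.apply_symm_apply r)).trans ?_
      rw [← sign_up12, hr]
      exact hy.1
    · show up12 ((pts 10).permCongrHom (cyc3 i)) = _
      have e : (pts 10).permCongrHom (cyc3 i) = (swap (1 : Fin 12) 0 * swap 0 ⟨i.1 + 2, by omega⟩ : P12) :=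
        Equiv.ext fun j => beq_iff_eq.1 (List.all_eq_true.1 (h10 i (by decide +kernel)) j (List.mem_finRange j))
      rw [e, map_mul, up12_swap, up12_swap]
      rfl

/-- three-cycles through two letters generate the smaller group -/
theorem M9_gen {d : Bool} (K : Subgroup (M9 d)) (h : ∀ p (hp : c9 p ∈ M9 d), p ≠ 0 → p ≠ 1 → (d = true ∨ p ≠ 8) →
    (⟨c9 p, hp⟩ : M9 d) ∈ K) (m : M9 d) : m ∈ K := by
  obtain ⟨-, -, h7, h6⟩ := pts_cyc
  have key : ∀ {k : ℕ} [NeZero k] (η : alternatingGroup (Bool ⊕ Fin k) →* M9 d), Function.Surjective η →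
      (∀ i, η (cycA i) ∈ K) → m ∈ K := by
    intro k _ η hη hi
    obtain ⟨a, rfl⟩ := hη m
    have : (⊤ : Subgroup _) ≤ K.comap η := (closure_cycA (Ω := Fin k)) ▸ (Subgroup.closure_le _).2 (by rintro _ ⟨i, rfl⟩; exact hi i)
    exact this (Subgroup.mem_top a)
  rcases Bool.eq_false_or_eq_true d with rfl | rfl
  · refine key (k := 7) (((pts 7).permCongrHom.toMonoidHom.comp (alternatingGroup _).subtype).codRestrict
      (M9 true) fun a => ⟨(Perm.sign_permCongr (pts 7) _).trans (Perm.mem_alternatingGroup.1 a.2), .inl rfl⟩)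
      (fun ⟨y, hy⟩ => ⟨⟨(pts 7).permCongrHom.symm y, Perm.mem_alternatingGroup.2 ?_⟩,
        Subtype.ext ((pts 7).permCongrHom.apply_symm_apply y)⟩) fun i => ?_
    · rw [← Perm.sign_permCongr (pts 7)]
      exact (congrArg Perm.sign ((pts 7).permCongrHom.apply_symm_apply y)).trans hy.1
    · have e := eq9_iff.1 (h7 i)
      have hm : c9 ⟨i.1 + 2, by omega⟩ ∈ M9 true :=
        e ▸ ⟨(Perm.sign_permCongr (pts 7) _).trans (Perm.mem_alternatingGroup.1 (cyc3_mem i)), .inl rfl⟩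
      have h2 : (⟨i.1 + 2, by omega⟩ : Fin 9) ≠ 0 ∧ (⟨i.1 + 2, by omega⟩ : Fin 9) ≠ 1 := by
        constructor <;> intro e' <;> have := congrArg Fin.val e' <;> simp at this
      convert h _ hm h2.1 h2.2 (.inl rfl) using 1
      exact Subtype.ext e
  · refine key (k := 6) ((up89.comp ((pts 6).permCongrHom.toMonoidHom.comp (alternatingGroup _).subtype)).codRestrict
      (M9 false) fun a => up89_M9 ((Perm.sign_permCongr (pts 6) _).trans (Perm.mem_alternatingGroup.1 a.2)))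
      (fun ⟨y, hy⟩ => ?_) fun i => ?_
    · obtain ⟨r, rfl⟩ := exists_up89 (hy.2.resolve_left (by decide))
      refine ⟨⟨(pts 6).permCongrHom.symm r, Perm.mem_alternatingGroup.2 ?_⟩,
        Subtype.ext (congrArg up89 ((pts 6).permCongrHom.apply_symm_apply r))⟩
      rw [← Perm.sign_permCongr (pts 6)]
      exact (congrArg Perm.sign ((pts 6).permCongrHom.apply_symm_apply r)).trans ((sign_up89 r).symm.trans hy.1)
    · have e := eq9_iff.1 (h6 i)
      have hm : c9 ⟨i.1 + 2, by omega⟩ ∈ M9 false :=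
        e ▸ up89_M9 ((Perm.sign_permCongr (pts 6) _).trans (Perm.mem_alternatingGroup.1 (cyc3_mem i)))
      have h2 : (⟨i.1 + 2, by omega⟩ : Fin 9) ≠ 0 ∧ (⟨i.1 + 2, by omega⟩ : Fin 9) ≠ 1 ∧ (⟨i.1 + 2, by omega⟩ : Fin 9) ≠ 8 := by
        refine ⟨?_, ?_, ?_⟩ <;> intro e' <;> have := congrArg Fin.val e' <;> have := i.2 <;> simp at * <;> omega
      convert h _ hm h2.1 h2.2.1 (.inr h2.2.2) using 1
      exact Subtype.ext e

theorem w_facts : (∀ p : Fin 13, 2 ≤ p.1 → (sig13 p).1 ≥ 2 ∧ (p ≠ 12 → sig13 p ≠ 12) ∧ sig13 (sig13 p) = p ∧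
    (8 ≤ p.1 ∧ p.1 ≤ 11 ∨ p.1 ≤ 7 ∧ emb9 (sm p) = p ∨ p = 12)) ∧
    (∀ p : Fin 12, sig13 p.castSucc = (qBC p).castSucc) ∧ sig13 12 = 12 ∧ sig13 0 = 0 ∧ sig13 1 = 1 ∧
    (qBC 0 = 0 ∧ qBC 1 = 1) ∧
    (sm 12 = 8 ∧ emb9 8 = 12) := by decide +kernel

theorem up12_qBC (p : Fin 13) : up12 qBC p = sig13 p := by
  induction p using Fin.lastCases with
  | last => exact (up12_last qBC).trans w_facts.2.2.1.symm
  | cast i => rw [up12_cast, w_facts.2.1]

theorem sig_tab : ∀ p : Fin 13,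
    (8 ≤ p.1 ∧ p.1 ≤ 11 → ¬ (8 ≤ (sig13 p).1 ∧ (sig13 p).1 ≤ 11) ∧
      sm (sig13 p) = ⟨(p.1 - 4) % 9, Nat.mod_lt _ (by norm_num)⟩) ∧
    (¬ (8 ≤ p.1 ∧ p.1 ≤ 11) → 4 ≤ p.1 ∧ p.1 ≤ 11 → (8 ≤ (sig13 p).1 ∧ (sig13 p).1 ≤ 11) ∧
      sm p = ⟨((sig13 p).1 - 4) % 9, Nat.mod_lt _ (by norm_num)⟩) ∧
    (¬ (4 ≤ p.1 ∧ p.1 ≤ 11) → sig13 p = p) := by decide +kernel

theorem central_table : ((List.range 64).all fun z => z == 0 || [2, 4, 8].any fun p =>
    let c : P12 := swap (1 : Fin 12) 0 * swap 0 (⟨p % 12, Nat.mod_lt _ (by norm_num)⟩ : Fin 12)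
    (List.finRange 12).any fun j => (av z * c) j != (c * av z) j) = true := by decide +kernel

variable {G : Type*} [Group G] {φ : X12 →* G}

namespace Lifted

variable [Finite G] {d : Bool} {ψ : M9 d →* G} (L : Lifted φ d ψ)
include L

/-- **The large alternating subgroup.** -/
theorem exists_big : ∃ Ψ : M13 d →* G, Function.Injective Ψ ∧ (∀ m : M9 d, Ψ ⟨up913 m.1, up913_M13 m.2⟩ = ψ m) ∧
    ∀ x (hx : x ∈ X12), Ψ ⟨up12 x, up12_M13 (mem_X12.1 hx).1⟩ = em φ x := by
  classical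
  set w := em φ qBC with hw
  have hq : w * w = 1 := qBC_sq
  let y : Fin 13 → G := fun p =>
    if 8 ≤ p.1 ∧ p.1 ≤ 11 then w * pe ψ (c9 ⟨(p.1 - 4) % 9, Nat.mod_lt _ (by norm_num)⟩) * w else pe ψ (c9 (sm p))
  obtain ⟨hfacts, -, h12, h0, h1, -, hsm, he8⟩ := w_facts
  have crel := c9_rel
  simp only [List.all_eq_true, List.mem_finRange, true_implies, Bool.or_eq_true, Bool.and_eq_true, beq_iff_eq, eq9_iff] at crel
  -- the index set
  let Ok : Fin 13 → Prop := fun p => 2 ≤ p.1 ∧ (d = true ∨ p ≠ 12)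
  have okS : ∀ {p : Fin 13}, Ok p → ¬ (8 ≤ p.1 ∧ p.1 ≤ 11) → sm p ≠ 0 ∧ sm p ≠ 1 ∧ c9 (sm p) ∈ M9 d := by
    intro p hp hns
    have tab : ∀ p : Fin 13, 2 ≤ p.1 → ¬ (8 ≤ p.1 ∧ p.1 ≤ 11) → sm p ≠ 0 ∧ sm p ≠ 1 ∧ (sm p = 8 → p = 12) := by
      decide +kernel
    obtain ⟨t0, t1, t2⟩ := tab p hp.1 hns
    exact ⟨t0, t1, L.c9_mem t0 t1 (hp.2.imp id fun h e => h (t2 e))⟩
  have okC : ∀ {p : Fin 13}, 8 ≤ p.1 ∧ p.1 ≤ 11 →
      (4 ≤ ((⟨(p.1 - 4) % 9, Nat.mod_lt _ (by norm_num)⟩ : Fin 9)).1 ∧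
        ((⟨(p.1 - 4) % 9, Nat.mod_lt _ (by norm_num)⟩ : Fin 9)).1 ≤ 7) ∧
      c9 ⟨(p.1 - 4) % 9, Nat.mod_lt _ (by norm_num)⟩ ∈ M9 d := by
    intro p hp
    have e : (p.1 - 4) % 9 = p.1 - 4 := Nat.mod_eq_of_lt (by omega)
    refine ⟨⟨?_, ?_⟩, L.c9_mem ?_ ?_ (.inr ?_)⟩
    · show 4 ≤ (p.1 - 4) % 9; omega
    · show (p.1 - 4) % 9 ≤ 7; omega
    all_goals
      intro h
      have := congrArg Fin.val h
      simp only [Fin.val_zero, Fin.val_one, Fin.val_ofNat] at this
      omega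
  have inv2 : ∀ {a b : G}, a * b * (a * b) = 1 → b * a * (b * a) = 1 := fun {a b} e => by
    calc b * a * (b * a) = a⁻¹ * (a * b * (a * b)) * a := by group
      _ = 1 := by rw [e]; group
  have small : ∀ {a b : Fin 9}, a ≠ 0 → a ≠ 1 → b ≠ 0 → b ≠ 1 → c9 a ∈ M9 d → c9 b ∈ M9 d →
      pe ψ (c9 a) * pe ψ (c9 a) * pe ψ (c9 a) = 1 ∧
        (a ≠ b → pe ψ (c9 a) * pe ψ (c9 b) * (pe ψ (c9 a) * pe ψ (c9 b)) = 1) := by
    intro a b a0 a1 b0 b1 ha hb
    obtain ⟨e3, e2⟩ := ((crel a).resolve_left (by simp [a0, a1]))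
    refine ⟨by rw [← L.pe_mul ha ha, ← L.pe_mul (mul_mem ha ha) ha, e3, L.pe_one], fun hne => ?_⟩
    rw [← L.pe_mul ha hb, ← L.pe_mul (mul_mem ha hb) (mul_mem ha hb),
      (e2 b).resolve_left (by simp [b0, b1, hne]), L.pe_one]
  have hwA : ∀ {p : Fin 13}, Ok p → ¬ (4 ≤ p.1 ∧ p.1 ≤ 11) → w * pe ψ (c9 (sm p)) * w = pe ψ (c9 (sm p)) := by
    intro p hp hn
    refine L.w_A ?_
    have tab : ∀ p : Fin 13, 2 ≤ p.1 → ¬ (4 ≤ p.1 ∧ p.1 ≤ 11) → sm p = 2 ∨ sm p = 3 ∨ (p = 12 ∧ sm p = 8) := by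
      decide +kernel
    rcases tab p hp.1 hn with e | e | ⟨e, e'⟩
    · exact .inl (by simp [e])
    · exact .inl (by simp [e])
    · exact .inr ⟨hp.2.resolve_right fun h => h e, by rw [e']⟩
  have cube : ∀ p, Ok p → y p * y p * y p = 1 := by
    intro p hp
    by_cases h : 8 ≤ p.1 ∧ p.1 ≤ 11
    · obtain ⟨⟨h4, -⟩, hm⟩ := okC h
      simp only [y, if_pos h]
      set x := pe ψ (c9 ⟨(p.1 - 4) % 9, Nat.mod_lt _ (by norm_num)⟩)
      have hx := (small (a := ⟨(p.1 - 4) % 9, Nat.mod_lt _ (by norm_num)⟩) (b := ⟨(p.1 - 4) % 9, Nat.mod_lt _ (by norm_num)⟩)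
        (fun e => by rw [e] at h4; simp at h4) (fun e => by rw [e] at h4; simp at h4)
        (fun e => by rw [e] at h4; simp at h4) (fun e => by rw [e] at h4; simp at h4) hm hm).1
      rw [show w * x * w * (w * x * w) * (w * x * w) = w * x * (w * w) * x * (w * w) * x * w by group, hq, mul_one,
        mul_one, show w * x * x * x * w = w * (x * x * x) * w by group, hx, mul_one, hq]
    · obtain ⟨t0, t1, hm⟩ := okS hp h
      simp only [y, if_neg h]
      exact (small t0 t1 t0 t1 hm hm).1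
  have half : ∀ p q, Ok p → Ok q → p ≠ q → ¬ (8 ≤ p.1 ∧ p.1 ≤ 11) → y p * y q * (y p * y q) = 1 := by
    intro p q hp hq' hne hs
    obtain ⟨p0, p1, hpm⟩ := okS hp hs
    by_cases hqc : 8 ≤ q.1 ∧ q.1 ≤ 11
    · obtain ⟨⟨q4, q7⟩, hqm⟩ := okC hqc
      simp only [y, if_neg hs, if_pos hqc]
      by_cases hpa : 4 ≤ p.1 ∧ p.1 ≤ 11
      · have hv : 4 ≤ (sm p).1 ∧ (sm p).1 ≤ 7 := by
          have h8 : p.1 < 8 := by omega
          simp only [sm, dif_pos h8]
          omega
        exact L.cross hv.1 hv.2 q4 q7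
      · have hne' : sm p ≠ ⟨(q.1 - 4) % 9, Nat.mod_lt _ (by norm_num)⟩ := by
          intro e
          have tab : ∀ p : Fin 13, ¬ (4 ≤ p.1 ∧ p.1 ≤ 11) → (sm p).1 < 4 ∨ (sm p).1 = 8 := by decide +kernel
          have := tab p hpa
          rw [e] at this
          simp only at this q4 q7
          omega
        have hb := (small p0 p1 (fun e => by rw [e] at q4; simp at q4) (fun e => by rw [e] at q4; simp at q4) hpm hqm).2 hne'
        set x := pe ψ (c9 (sm p)) with hx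
        set z := pe ψ (c9 ⟨(q.1 - 4) % 9, Nat.mod_lt _ (by norm_num)⟩)
        have hxw : w * x * w = x := hwA hp hpa
        calc x * (w * z * w) * (x * (w * z * w)) = (w * x * w) * (w * z * w) * ((w * x * w) * (w * z * w)) := by rw [hxw]
          _ = w * x * (w * w) * z * (w * w) * x * (w * w) * z * w := by group
          _ = w * (x * z * (x * z)) * w := by rw [hq]; group
          _ = 1 := by rw [hb, mul_one, hq]
    · obtain ⟨q0, q1, hqm⟩ := okS hq' hqc
      simp only [y, if_neg hs, if_neg hqc]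
      refine (small p0 p1 q0 q1 hpm hqm).2 fun e => hne ?_
      have tab : ∀ p q : Fin 13, 2 ≤ p.1 → 2 ≤ q.1 → ¬ (8 ≤ p.1 ∧ p.1 ≤ 11) → ¬ (8 ≤ q.1 ∧ q.1 ≤ 11) → sm p = sm q → p = q := by
        decide +kernel
      exact tab p q hp.1 hq'.1 hs hqc e
  have pair : ∀ p q, Ok p → Ok q → p ≠ q → y p * y q * (y p * y q) = 1 := by
    intro p q hp hq' hne
    by_cases hs : 8 ≤ p.1 ∧ p.1 ≤ 11
    · by_cases hs' : 8 ≤ q.1 ∧ q.1 ≤ 11
      · obtain ⟨⟨p4, -⟩, hpm⟩ := okC hs
        obtain ⟨⟨q4, -⟩, hqm⟩ := okC hs'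
        simp only [y, if_pos hs, if_pos hs']
        have hne' : (⟨(p.1 - 4) % 9, Nat.mod_lt _ (by norm_num)⟩ : Fin 9) ≠ ⟨(q.1 - 4) % 9, Nat.mod_lt _ (by norm_num)⟩ :=
          fun e => hne (Fin.ext (by have := congrArg Fin.val e; simp only at this; omega))
        have hb := (small (fun e => by rw [e] at p4; simp at p4) (fun e => by rw [e] at p4; simp at p4)
          (fun e => by rw [e] at q4; simp at q4) (fun e => by rw [e] at q4; simp at q4) hpm hqm).2 hne'
        set x := pe ψ (c9 ⟨(p.1 - 4) % 9, Nat.mod_lt _ (by norm_num)⟩)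
        set z := pe ψ (c9 ⟨(q.1 - 4) % 9, Nat.mod_lt _ (by norm_num)⟩)
        rw [show w * x * w * (w * z * w) * (w * x * w * (w * z * w)) =
          w * x * (w * w) * z * (w * w) * x * (w * w) * z * w by group, hq, mul_one, mul_one, mul_one,
          show w * x * z * x * z * w = w * (x * z * (x * z)) * w by group, hb, mul_one, hq]
      · exact inv2 (half q p hq' hp (Ne.symm hne) hs')
    · exact half p q hp hq' hne hs
  -- the homomorphism
  obtain ⟨k, η, hk5, hk11, hk10, hk11', hη⟩ := M13_equiv d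
  haveI : NeZero k := ⟨by omega⟩
  let idx : Fin k → Fin 13 := fun i => ⟨i.1 + 2, by omega⟩
  have hidx : ∀ i, Ok (idx i) := fun i => ⟨by show 2 ≤ i.1 + 2; omega, by
    rcases Bool.eq_false_or_eq_true d with e | e
    · exact .inl e
    · refine .inr fun e' => ?_
      have := congrArg Fin.val e'
      have := hk10 e
      have := i.2
      simp only [idx] at *
      change i.1 + 2 = 12 at *
      omega⟩
  obtain ⟨θ, hθ⟩ := exists_alt_hom (fun i => y (idx i)) (fun i => cube _ (hidx i)) fun i j hij =>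
    pair _ _ (hidx i) (hidx j) fun e => hij (Fin.ext (by have := congrArg Fin.val e; simp only [idx] at this; omega))
  let Ψ : M13 d →* G := θ.comp η.symm.toMonoidHom
  have hidx' : ∀ p, Ok p → ∃ i, idx i = p := by
    intro p hp
    have hlt : p.1 - 2 < k := by
      rcases Bool.eq_false_or_eq_true d with e | e
      · have := p.2
        have := hk11' e
        omega
      · have := hk10 e
        have : p ≠ 12 := hp.2.resolve_left (by simp [e])
        have := p.2
        have : p.1 ≠ 12 := fun h => ‹p ≠ 12› (Fin.ext h)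
        omega
    exact ⟨⟨p.1 - 2, hlt⟩, Fin.ext (show p.1 - 2 + 2 = p.1 by have := hp.1; omega)⟩
  have hΨc : ∀ p (hm : c13 p ∈ M13 d), Ok p → Ψ ⟨c13 p, hm⟩ = y p := by
    intro p hm hp
    obtain ⟨i, rfl⟩ := hidx' p hp
    obtain ⟨hi, e⟩ := hη i
    have : η.symm ⟨c13 (idx i), hm⟩ = cycA i := by
      rw [MulEquiv.symm_apply_eq]
      exact Subtype.ext e.symm
    simp [Ψ, this, hθ]
  have hinj : Function.Injective Ψ := by
    haveI : Nontrivial (Fin k) := Fin.nontrivial_iff_two_le.2 (by omega)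
    haveI : IsSimpleGroup (alternatingGroup (Bool ⊕ Fin k)) := alternatingGroup.isSimpleGroup (by simp; omega)
    have hθi : Function.Injective θ := by
      rw [← MonoidHom.ker_eq_bot_iff]
      refine θ.normal_ker.eq_bot_or_eq_top.resolve_right fun h => ?_
      have hz : θ (cycA (0 : Fin k)) = 1 := MonoidHom.mem_ker.1 (h ▸ Subgroup.mem_top _)
      rw [hθ] at hz
      have hidx0 : idx 0 = 2 := Fin.ext (by simp [idx])
      have hy2 : y 2 = pe ψ (c9 2) := by simp [y, sm]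
      have h2 := L.c9_mem (p := 2) (by decide) (by decide) (.inr (by decide))
      rw [hidx0, hy2, ← L.pe_one] at hz
      exact absurd (L.pe_inj h2 (one_mem _) hz) (fun e => absurd (eq9_iff.2 e) (by decide +kernel))
    exact hθi.comp η.symm.injective
  -- on the smaller group
  have hsmall : ∀ m : M9 d, Ψ ⟨up913 m.1, up913_M13 m.2⟩ = ψ m := by
    let f : M9 d →* G := Ψ.comp ((up913.comp (M9 d).subtype).codRestrict (M13 d) fun m => up913_M13 m.2)
    let E : Subgroup (M9 d) := f.eqLocus ψ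
    intro m
    refine M9_gen E (fun p hp p0 p1 p8 => ?_) m
    show Ψ ⟨up913 (c9 p), _⟩ = ψ ⟨c9 p, hp⟩
    have hok : Ok (emb9 p) := by
      have tab : ∀ p : Fin 9, p ≠ 0 → p ≠ 1 → 2 ≤ (emb9 p).1 ∧ (p ≠ 8 → emb9 p ≠ 12) := by decide +kernel
      exact ⟨(tab p p0 p1).1, p8.imp id (tab p p0 p1).2⟩
    have hm13 : c13 (emb9 p) ∈ M13 d := up913_c9 p ▸ up913_M13 hp
    rw [show (⟨up913 (c9 p), up913_M13 hp⟩ : M13 d) = ⟨c13 (emb9 p), hm13⟩ from Subtype.ext (up913_c9 p),
      hΨc _ hm13 hok, ← L.pe_apply hp]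
    have tab : ∀ p : Fin 9, sm (emb9 p) = p ∧ ¬ (8 ≤ (emb9 p).1 ∧ (emb9 p).1 ≤ 11) := by decide +kernel
    simp only [y, if_neg (tab p).2, (tab p).1]
  -- the exchange
  have hWm : up12 qBC ∈ M13 d := up12_M13 (mem_X12.1 (g4P_mem 3)).1
  set W : M13 d := ⟨up12 qBC, hWm⟩
  have hWc : ∀ p, Ok p → ∀ hm : c13 p ∈ M13 d, w * Ψ ⟨c13 p, hm⟩ * w = Ψ (W * ⟨c13 p, hm⟩ * W⁻¹) := by
    intro p hp hm
    obtain ⟨hp2, hp12, hpp, -⟩ := hfacts p hp.1
    have hok' : Ok (sig13 p) := ⟨hp2, hp.2.imp id hp12⟩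
    have e : up12 qBC * c13 p * (up12 qBC)⁻¹ = c13 (sig13 p) := by
      rw [c13, c13, show up12 qBC * (swap 1 0 * swap 0 p) * (up12 qBC)⁻¹ =
        (up12 qBC * swap 1 0 * (up12 qBC)⁻¹) * (up12 qBC * swap 0 p * (up12 qBC)⁻¹) by group,
        ← swap_apply_apply, ← swap_apply_apply, up12_qBC, up12_qBC, up12_qBC, h0, h1]
    have hm' : c13 (sig13 p) ∈ M13 d := e ▸ mul_mem (mul_mem hWm hm) (inv_mem hWm)
    rw [show W * ⟨c13 p, hm⟩ * W⁻¹ = (⟨c13 (sig13 p), hm'⟩ : M13 d) from Subtype.ext e, hΨc _ hm hp, hΨc _ hm' hok']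
    by_cases hc : 8 ≤ p.1 ∧ p.1 ≤ 11
    · have hs : ¬ (8 ≤ (sig13 p).1 ∧ (sig13 p).1 ≤ 11) ∧ sm (sig13 p) = ⟨(p.1 - 4) % 9, Nat.mod_lt _ (by norm_num)⟩ := (sig_tab p).1 hc
      simp only [y, if_pos hc, if_neg hs.1, hs.2]
      rw [show w * (w * pe ψ (c9 ⟨(p.1 - 4) % 9, Nat.mod_lt _ (by norm_num)⟩) * w) * w =
        (w * w) * pe ψ (c9 ⟨(p.1 - 4) % 9, Nat.mod_lt _ (by norm_num)⟩) * (w * w) by group, hq, one_mul, mul_one]
    · by_cases hb : 4 ≤ p.1 ∧ p.1 ≤ 11
      · have hs : (8 ≤ (sig13 p).1 ∧ (sig13 p).1 ≤ 11) ∧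
            sm p = ⟨((sig13 p).1 - 4) % 9, Nat.mod_lt _ (by norm_num)⟩ := (sig_tab p).2.1 hc hb
        simp only [y, if_neg hc, if_pos hs.1, hs.2]
      · have hs : sig13 p = p := (sig_tab p).2.2 hb
        rw [hs]
        simp only [y, if_neg hc]
        exact hwA hp hb
  have hWall : ∀ m : M13 d, w * Ψ m * w = Ψ (W * m * W⁻¹) := by
    have hw1 : w⁻¹ = w := inv_eq_of_mul_eq_one_left hq
    let f1 : M13 d →* G := (MulAut.conj w).toMonoidHom.comp Ψ
    let f2 : M13 d →* G := Ψ.comp (MulAut.conj W).toMonoidHom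
    have : f1 = f2 := by
      refine MonoidHom.eq_of_eqOn_dense (s := Set.range fun i => η (cycA i)) ?_ ?_
      · have hr : (Set.range fun i => η (cycA i)) = η '' Set.range (cycA (Ω := Fin k)) := by rw [← Set.range_comp]; rfl
        have e := MonoidHom.map_closure η.toMonoidHom (Set.range (cycA (Ω := Fin k)))
        rw [closure_cycA, Subgroup.map_top_of_surjective _ η.surjective] at e
        rw [hr]
        exact e.symm
      · rintro _ ⟨i, rfl⟩
        obtain ⟨hi, e⟩ := hη i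
        have hm : c13 (idx i) ∈ M13 d := e ▸ (η (cycA i)).2
        show w * Ψ (η (cycA i)) * w⁻¹ = Ψ (W * η (cycA i) * W⁻¹)
        rw [show η (cycA i) = ⟨c13 (idx i), hm⟩ from Subtype.ext e, hw1]
        exact hWc _ (hidx i) hm
    intro m
    have e := DFunLike.congr_fun this m
    change w * Ψ m * w⁻¹ = Ψ (W * m * W⁻¹) at e
    rwa [hw1] at e
  refine ⟨Ψ, hinj, hsmall, ?_⟩
  let up : ∀ x : X12, M13 d := fun x => ⟨up12 x.1, up12_M13 (mem_X12.1 x.2).1⟩
  have hu8 : ∀ g (hg : g ∈ T8), Ψ (up ⟨up8 g, up8_mem hg⟩) = em φ (up8 g) := by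
    intro g hg
    rw [← L.pe_up hg, L.pe_apply (up89_M9 (mem_T8.1 hg).1), ← hsmall]
    exact congrArg Ψ (Subtype.ext (up_compat g))
  -- the abelian subgroup
  have hA : ∀ z, (hz : z < 64) → Ψ (up ⟨av z, av_mem hz⟩) = a φ z := by
    intro z hz
    have t := List.all_eq_true.1 ab_table z (List.mem_range.2 hz)
    simp only [Bool.and_eq_true, same_iff, List.contains_eq_mem, decide_eq_true_eq] at t
    obtain ⟨⟨⟨⟨hT, hs⟩, -⟩, -⟩, hV⟩ := t
    have hTm := inT_iff.1 hT
    have hV' := lt4 _ hV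
    have hc : Ψ (up ⟨av (z &&& 36), av_mem hV'⟩) = a φ (z &&& 36) := by
      obtain ⟨u, hu, hu0, hpu⟩ : ∃ u, u < 64 ∧ u &&& 36 = 0 ∧ pC u = z &&& 36 := by
        have tab : ∀ v ∈ [0, 4, 32, 36], ∃ u : Fin 64, u.1 &&& 36 = 0 ∧ pC u.1 = v := by decide +kernel
        obtain ⟨u, h1, h2⟩ := tab _ hV
        exact ⟨u.1, u.2, h1, h2⟩
      have tu := List.all_eq_true.1 ab_table u (List.mem_range.2 hu)
      simp only [Bool.and_eq_true, same_iff] at tu
      obtain ⟨⟨⟨⟨huT, hus⟩, -⟩, -⟩, -⟩ := tu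
      rw [hu0, av_zero, mul_one] at hus
      obtain ⟨-, eu⟩ := w_a (φ := φ) hu
      obtain ⟨-, econj⟩ := g4_conj (i := 3) (by norm_num) hu
      rw [hpu, ← hw] at eu
      have hu' : Ψ (up ⟨av u, av_mem hu⟩) = a φ u := by
        have h := hu8 _ (inT_iff.1 huT)
        refine ((congrArg Ψ (show up ⟨av u, av_mem hu⟩ = _ from Subtype.ext (congrArg up12 hus.symm))).trans h).trans ?_
        rw [hus]; rfl
      rw [← eu, ← hu', hWall]
      refine congrArg Ψ (Subtype.ext ?_)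
      show up12 (av (z &&& 36)) = up12 qBC * up12 (av u) * (up12 qBC)⁻¹
      rw [← map_inv, ← map_mul, ← map_mul]
      refine congrArg up12 ?_
      rw [← hpu]
      exact econj.symm
    have e : up ⟨av z, av_mem hz⟩ = up ⟨up8 (ab z), up8_mem hTm⟩ * up ⟨av (z &&& 36), av_mem hV'⟩ :=
      Subtype.ext (by
        show up12 (av z) = up12 (up8 (ab z)) * up12 (av (z &&& 36))
        rw [← map_mul, hs])
    rw [e, map_mul, hu8 _ hTm, hc, a, a, ← em_mul φ (up8_mem hTm) (av_mem hV'), hs]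
  have hwX : qBC ∈ X12 := g4P_mem 3
  have hq' : Ψ (up ⟨qBC, hwX⟩) = w := by
    set c := (Ψ W)⁻¹ * w with hc
    have hcc : ∀ m, c * Ψ m = Ψ m * c := by
      intro m
      have e := hWall m
      rw [map_mul, map_mul, map_inv] at e
      have hcm : c * Ψ m * c⁻¹ = Ψ m := by
        rw [hc, show (Ψ W)⁻¹ * w * Ψ m * ((Ψ W)⁻¹ * w)⁻¹ = (Ψ W)⁻¹ * (w * Ψ m * w⁻¹) * Ψ W by group,
          inv_eq_of_mul_eq_one_left hq, e]
        group
      exact mul_inv_eq_iff_eq_mul.1 hcm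
    obtain ⟨z, hz, ez⟩ := L.nine.std.cent_E64 (g := c) fun x hx => by rw [← hA x hx]; exact hcc _
    have hz0 : z = 0 := by
      by_contra hne
      have t := List.all_eq_true.1 central_table z (List.mem_range.2 hz)
      rw [Bool.or_eq_true, beq_iff_eq, or_iff_right hne, List.any_eq_true] at t
      obtain ⟨p, hp, t⟩ := t
      obtain ⟨j, -, hj⟩ := List.any_eq_true.1 t
      rw [bne_iff_ne] at hj
      set q : Fin 12 := ⟨p % 12, Nat.mod_lt _ (by norm_num)⟩ with hqdef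
      have hq2 : 2 ≤ q.1 ∧ q.1 < 12 := by
        simp only [List.mem_cons, List.not_mem_nil, or_false] at hp
        rcases hp with rfl | rfl | rfl <;> exact ⟨by decide, by decide⟩
      have hqs : Perm.sign (swap (1 : Fin 12) 0 * swap 0 q) = 1 := by
        rw [map_mul, Perm.sign_swap (by decide), Perm.sign_swap (fun e => by rw [← e] at hq2; simp at hq2)]
        rfl
      have hok : Ok q.castSucc := ⟨hq2.1, .inr (fun e => by
        have := congrArg Fin.val e
        simp only [Fin.val_castSucc] at this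
        change q.1 = 12 at this
        omega)⟩
      have hcm : (⟨up12 (swap 1 0 * swap 0 q), up12_M13 hqs⟩ : M13 d) * up ⟨av z, av_mem hz⟩ =
          up ⟨av z, av_mem hz⟩ * ⟨up12 (swap 1 0 * swap 0 q), up12_M13 hqs⟩ := hinj (by
        rw [map_mul Ψ, map_mul Ψ, hA z hz, ez]
        exact (hcc _).symm)
      have h2 := congrArg Subtype.val hcm
      change up12 (swap 1 0 * swap 0 q) * up12 (av z) = up12 (av z) * up12 (swap 1 0 * swap 0 q) at h2
      rw [← map_mul, ← map_mul] at h2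
      exact hj (DFunLike.congr_fun (up12_inj h2) j).symm
    rw [hz0, a_zero, hc] at ez
    exact (inv_mul_eq_one.1 ez.symm)
  intro x hx
  let K : Subgroup P12 :=
    { carrier := {x | ∃ hx : x ∈ X12, Ψ (up ⟨x, hx⟩) = em φ x}
      one_mem' := ⟨one_mem _, by
        rw [show up ⟨1, one_mem _⟩ = 1 from Subtype.ext (map_one up12), map_one, em_one]⟩
      mul_mem' := fun {p q} ⟨hp, ep⟩ ⟨hq, eq⟩ => ⟨mul_mem hp hq, by
        rw [show up ⟨p * q, mul_mem hp hq⟩ = up ⟨p, hp⟩ * up ⟨q, hq⟩ from Subtype.ext (map_mul up12 _ _), map_mul, ep, eq,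
          em_mul φ hp hq]⟩
      inv_mem' := fun {p} ⟨hp, ep⟩ => ⟨inv_mem hp, by
        rw [show up ⟨p⁻¹, inv_mem hp⟩ = (up ⟨p, hp⟩)⁻¹ from Subtype.ext (map_inv up12 _), map_inv, ep, em_inv φ hp]⟩ }
  exact (X12_gen K (fun g hg => ⟨up8_mem hg, hu8 g hg⟩) ⟨hwX, hq'⟩ x hx).2

end Lifted

end CfsgLib.TwelveCent
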