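import Cfsg.Agent.Lib.TwelveCent.Nine.Quot

/-!
The quotient is alternating of degree eight or nine.
-/

set_option autoImplicit false
set_option linter.style.haveILetI false
set_option linter.unusedSectionVars false
set_option maxRecDepth 100000

namespace CfsgLib.TwelveCent

open Equiv CfsgLib.TwoFourSThree

/-- the subgroup of order 32 -/
def Q8 : Subgroup T8 where
  carrier := {g | inQ g.1 = true}
  one_mem' := by
    have h := lQ_closed
    rw [Bool.and_eq_true] at h
    exact h.2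
  mul_mem' := by
    intro g h hg hh
    have t := lQ_closed
    simp only [Bool.and_eq_true, List.all_eq_true] at t
    exact (t.1 g.1 (List.mem_filter.2 ⟨mem_lT g.2, hg⟩)).2 h.1 (List.mem_filter.2 ⟨mem_lT h.2, hh⟩)
  inv_mem' := by
    intro g hg
    have t := lQ_closed
    simp only [Bool.and_eq_true, List.all_eq_true] at t
    exact (t.1 g.1 (List.mem_filter.2 ⟨mem_lT g.2, hg⟩)).1

theorem mem_lQ {g : T8} (h : g ∈ Q8) : g.1 ∈ lQ := List.mem_filter.2 ⟨mem_lT g.2, h⟩

theorem card_Q8 : Nat.card Q8 = 32 := by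
  classical
  have hn : lQ.Nodup := List.Nodup.of_map _ lQ_nodup
  let e : Q8 ≃ {g // g ∈ lQ} :=
    { toFun := fun g => ⟨g.1.1, mem_lQ g.2⟩
      invFun := fun g => ⟨⟨g.1, of_lT (List.mem_filter.1 g.2).1⟩, (List.mem_filter.1 g.2).2⟩
      left_inv := fun _ => rfl
      right_inv := fun _ => rfl }
  rw [Nat.card_congr e, Nat.card_eq_fintype_card, ← lQ_len, ← List.toFinset_card_of_nodup hn]
  exact Fintype.card_of_subtype _ fun x => List.mem_toFinset

/-- the span of some elements in the model -/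
def spanM (l : List ℕ) : List ℕ := l.foldr (fun i s => s ++ s.map fun x => CfsgLib.TwoFourSThree.lm true x i) [0]

theorem no_sixteen : (((List.range 192).filter fun i => lm true i i == 0).all fun i =>
    (spanM [6]).contains i || (((List.range 192).filter fun i => lm true i i == 0).filter fun j =>
      lm true i j == lm true j i).all fun j =>
        (spanM [i, 6]).contains j || (((List.range 192).filter fun i => lm true i i == 0).filter fun k =>
          lm true i k == lm true k i && lm true j k == lm true k j).all fun k => (spanM [j, i, 6]).contains k) = true := by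
  decide +kernel

/-- the span of some elements -/
def spanP (l : List P8) : List P8 := l.foldr (fun i s => s ++ s.map fun x => x * i) [1]

theorem indep8 : (((spanP [sP]).all fun x => !eq8 x uP) && ((spanP [uP, sP]).all fun x => !eq8 x vP) &&
    ((spanP [vP, uP, sP]).all fun x => !eq8 x rP)) = true := by decide +kernel

theorem rels8 : (eq8 (uP * uP) 1 && eq8 (vP * vP) 1 && eq8 (rP * rP) 1 && eq8 (uP * vP) (vP * uP) &&
    eq8 (uP * rP) (rP * uP) && eq8 (vP * rP) (rP * vP)) = true := by decide +kernel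

variable {G : Type*} [Group G] {φ : X12 →* G}

theorem nine_mem : ∀ x ∈ [24, 10, 26, 17, 3, 19, 25, 11, 27], x < 64 ∧ x ^^^ 24 ∉ [4, 32, 36] ∧
    ∀ y ∈ [24, 10, 26, 17, 3, 19, 25, 11, 27], x ^^^ y ∈ [0, 4, 32, 36] → x = y := by decide

namespace Nine

variable [Finite G] (Y : Nine φ)
include Y

theorem exists_pre : ∃ (a t : Kc φ ⧸ Vc φ) (Q : Subgroup (Kc φ ⧸ Vc φ)), Pre (sb φ) a t Q ∧
    ∃ g, g * sb φ * g⁻¹ ∈ Q ∧ g * sb φ * g⁻¹ ≠ sb φ := by
  have hg := gens_T8
  simp only [Bool.and_eq_true, List.all_cons, List.all_nil, and_true, and_assoc, eq8_iff, Bool.not_eq_true',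
    ← Bool.not_eq_true] at hg
  obtain ⟨-, -, -, -, -, hc3, hc1, hvc, hv2, hs2, hs1, hsQ, hvQ, hcQ⟩ := hg
  have hi := Y.nu_inj
  set s := sb φ
  set ν := nu φ
  have hs : s = ν ⟨sP, mem5.1⟩ := (nu_sP φ).symm
  let c' : T8 := ⟨cP, mem5.2.2.2.2⟩
  let v' : T8 := ⟨vP, mem5.2.2.1⟩
  have hcs : ∀ g : T8, ν g * s = s * ν g := fun g => by
    rw [hs, ← map_mul, ← map_mul]
    exact congrArg ν (Subtype.ext (mem_T8.1 g.2).2)
  have memQ : ∀ {g : T8}, ν g ∈ Q8.map ν ↔ inQ g.1 = true := fun {g} => Subgroup.mem_map_iff_mem hi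
  refine ⟨ν c', ν v', Q8.map ν, ⟨?_, ?_, ?_, ?_, ?_, ?_, ?_, hcs _, hcs _, ?_, ?_, ?_, ?_, ?_, ?_, ?_, ?_, ?_⟩, ?_⟩
  · refine two_of ?_ fun h => ?_
    · rw [hs, ← map_mul, show (⟨sP, mem5.1⟩ : T8) * ⟨sP, mem5.1⟩ = 1 from Subtype.ext hs2, map_one]
    · rw [hs, ← map_one ν] at h
      exact hs1 (congrArg Subtype.val (hi h))
  · rw [hs]; exact memQ.2 hsQ
  · rw [Subgroup.card_map_of_injective hi, card_Q8]
  · rintro _ ⟨x, hx, rfl⟩ hy
    have t := lQ_cen
    simp only [List.all_eq_true, Bool.or_eq_true, List.any_eq_true, eq8_iff, Bool.not_eq_true', ← Bool.not_eq_true] at t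
    rcases t x.1 (mem_lQ hx) with (e | e) | ⟨y, hy', hne⟩
    · left; rw [show x = 1 from Subtype.ext e, map_one]
    · right; rw [hs, show x = ⟨sP, mem5.1⟩ from Subtype.ext e]
    · obtain ⟨hyT, hyQ⟩ := List.mem_filter.1 hy'
      have h := hy (ν ⟨y, of_lT hyT⟩) (memQ.2 hyQ)
      rw [← map_mul, ← map_mul] at h
      exact absurd (congrArg Subtype.val (hi h)) hne
  · rintro _ ⟨x, hx, rfl⟩
    have t := lQ_sq
    simp only [List.all_eq_true, Bool.or_eq_true, eq8_iff] at t
    rcases t x.1 (mem_lQ hx) with e | e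
    · left; rw [← map_mul, show x * x = 1 from Subtype.ext e, map_one]
    · right; rw [hs, ← map_mul]; exact congrArg ν (Subtype.ext e)
  · rintro _ ⟨x, hx, rfl⟩ _ ⟨y, hy, rfl⟩
    have t := lQ_com
    simp only [List.all_eq_true, Bool.or_eq_true, eq8_iff] at t
    rw [hs, ← map_mul, ← map_mul, ← map_mul]
    rcases t x.1 (mem_lQ hx) y.1 (mem_lQ hy) with e | e
    · exact .inl (congrArg ν (Subtype.ext e))
    · exact .inr (congrArg ν (Subtype.ext e))
  · rintro _ ⟨x, -, rfl⟩; exact hcs x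
  · rw [← map_mul, ← map_mul, show c' * c' * c' = 1 from Subtype.ext hc3, map_one]
  · rintro _ ⟨x, hx, rfl⟩
    rw [← map_inv, ← map_mul, ← map_mul, memQ]
    have t := lQ_norm
    simp only [List.all_eq_true, Bool.and_eq_true] at t
    exact (t x.1 (mem_lQ hx)).1
  · rintro _ ⟨x, hx, rfl⟩
    rw [← map_inv, ← map_mul, ← map_mul, memQ]
    have t := lQ_norm
    simp only [List.all_eq_true, Bool.and_eq_true] at t
    exact (t x.1 (mem_lQ hx)).2
  · rintro _ ⟨x, hx, rfl⟩ h
    rw [← map_mul, ← map_mul] at h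
    have t := lQ_fpf
    simp only [List.all_eq_true, Bool.or_eq_true, eq8_iff, Bool.not_eq_true', ← Bool.not_eq_true] at t
    rcases t x.1 (mem_lQ hx) with (e | e) | e
    · exact absurd (congrArg Subtype.val (hi h)) e
    · left; rw [show x = 1 from Subtype.ext e, map_one]
    · right; rw [hs, show x = ⟨sP, mem5.1⟩ from Subtype.ext e]
  · left; rw [← map_mul, show v' * v' = 1 from Subtype.ext hv2, map_one]
  · rw [← map_inv, ← map_mul, ← map_mul, ← map_inv]
    exact congrArg ν (Subtype.ext hvc)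
  · exact fun h => hcQ (memQ.1 h)
  · exact fun h => hvQ (memQ.1 h)
  · intro q hq
    obtain ⟨g, rfl⟩ := Y.cent_nu hq
    have t := decomp8
    simp only [List.all_eq_true, List.any_eq_true, List.mem_range] at t
    obtain ⟨j, hj, k, hk, e⟩ := t g.1 (mem_lT g.2)
    refine ⟨ν (g * (v' ^ k)⁻¹ * (c' ^ j)⁻¹), memQ.2 (by simpa [c', v'] using e), j, hj, k, hk, ?_⟩
    simp only [← map_pow, ← map_mul]
    exact congrArg ν (by group)
  · obtain ⟨q, hq⟩ := Y.conj_nine (x := 3) (by simp)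
    have e3 : qt φ ⟨a φ 3, a_Kc φ (by norm_num)⟩ = ν (⟨vP, mem5.2.2.1⟩ * ⟨rP, mem5.2.2.2.1⟩) := by
      refine congrArg (qt φ) (Subtype.ext ?_)
      show a φ 3 = em φ (up8 (vP * rP))
      have h := up8_table
      simp only [Bool.and_eq_true, same_iff] at h
      rw [map_mul, h.1.1.2, h.1.2, av_mul (by norm_num) (by norm_num)]
      rfl
    refine ⟨q, ?_, ?_⟩ <;> rw [hq, e3]
    · exact memQ.2 (show inQ (vP * rP) = true by decide +kernel)
    · rw [hs]
      exact fun h => absurd (congrArg Subtype.val (hi h)) (fun e : vP * rP = sP =>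
        absurd (eq8_iff.2 e) (by decide +kernel))

/-- the quotient is alternating -/
theorem exists_iso : Nonempty (Kc φ ⧸ Vc φ ≃* alternatingGroup (Fin 8)) ∨
    Nonempty (Kc φ ⧸ Vc φ ≃* alternatingGroup (Fin 9)) := by
  classical
  obtain ⟨a', t, Q, H, hnwc⟩ := Y.exists_pre
  obtain ⟨p₀, r₀, c, F₀⟩ := H.exists_frame₀
  obtain ⟨p, r, F⟩ := (F₀.frame hnwc).exists_std hnwc
  have hcf : c = false := by
    by_contra hc
    rw [Bool.not_eq_false] at hc
    subst hc
    set ν := nu φ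
    have M := F.toFrame
    have hi := Y.nu_inj
    obtain ⟨-, hu, hv, hr, -⟩ := mem5
    have hcs : ∀ g : T8, ν g * sb φ = sb φ * ν g := fun g => by
      rw [← nu_sP, ← map_mul, ← map_mul]
      exact congrArg ν (Subtype.ext (mem_T8.1 g.2).2)
    obtain ⟨i, hil, ei⟩ := M.lf_surj (hcs ⟨uP, hu⟩)
    obtain ⟨j, hjl, ej⟩ := M.lf_surj (hcs ⟨vP, hv⟩)
    obtain ⟨k, hkl, ek⟩ := M.lf_surj (hcs ⟨rP, hr⟩)
    let R : ℕ → P8 → Prop := fun x g => x < 192 ∧ ∃ h : g ∈ T8, lf (sb φ) a' t p r x = ν ⟨g, h⟩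
    have hR6 : R 6 sP := ⟨by norm_num, mem5.1, by rw [M.lf_six, ← nu_sP]⟩
    have hspan : ∀ (l : List ℕ) (l' : List P8), List.Forall₂ R l l' → List.Forall₂ R (spanM l) (spanP l') := by
      intro l l' h
      induction h with
      | nil => exact .cons ⟨by norm_num, T8.one_mem, by rw [M.lf_zero]; exact (map_one ν).symm⟩ .nil
      | @cons x g l l' hxg _ ih =>
        refine List.rel_append ih ?_
        rw [List.forall₂_map_left_iff, List.forall₂_map_right_iff]
        refine ih.imp fun y g' hy => ?_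
        obtain ⟨hx', hg, e1⟩ := hxg
        obtain ⟨hy', hg', e2⟩ := hy
        exact ⟨lm_lt _ hy' hx', T8.mul_mem hg' hg, by rw [M.lf_mul hy' hx', e1, e2, ← map_mul]; rfl⟩
    have hnot : ∀ (l : List ℕ) (l' : List P8), List.Forall₂ R l l' → ∀ {x : ℕ} {g : P8}, R x g →
        ((spanP l').all fun y => !eq8 y g) = true → (spanM l).contains x = false := by
      intro l l' h x g hxg hno
      rw [← Bool.not_eq_true, List.contains_eq_mem, decide_eq_true_eq]
      intro hx
      obtain ⟨n, hn, rfl⟩ := List.getElem_of_mem hx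
      have hs := hspan l l' h
      have hn' : n < (spanP l').length := hs.length_eq ▸ hn
      obtain ⟨-, hy, e⟩ := List.Forall₂.get hs hn hn'
      obtain ⟨-, hg, e'⟩ := hxg
      simp only [List.get_eq_getElem] at e hy
      have h2 := congrArg Subtype.val (hi (e.symm.trans e'))
      have h3 := List.all_eq_true.1 hno _ (List.getElem_mem hn')
      rw [Bool.not_eq_true', ← Bool.not_eq_true, eq8_iff] at h3
      exact h3 h2
    have hI := indep8
    simp only [Bool.and_eq_true] at hI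
    have hrel := rels8
    simp only [Bool.and_eq_true, eq8_iff] at hrel
    obtain ⟨⟨⟨⟨⟨huu, hvv⟩, hrr⟩, huv⟩, hur⟩, hvr⟩ := hrel
    have Ri : R i uP := ⟨hil, hu, ei⟩
    have Rj : R j vP := ⟨hjl, hv, ej⟩
    have Rk : R k rP := ⟨hkl, hr, ek⟩
    have sq : ∀ {x g}, R x g → g * g = 1 → lm true x x = 0 := fun {x g} h e => by
      obtain ⟨hx, hg, e'⟩ := h
      refine M.lf_eq_one (lm_lt _ hx hx) ?_
      rw [M.lf_mul hx hx, e', ← map_mul, show (⟨g, hg⟩ : T8) * ⟨g, hg⟩ = 1 from Subtype.ext e, map_one]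
    have cm : ∀ {x y g g'}, R x g → R y g' → g * g' = g' * g → lm true x y = lm true y x := fun {x y g g'} h h' e => by
      obtain ⟨hx, hg, e1⟩ := h
      obtain ⟨hy, hg', e2⟩ := h'
      refine M.lf_inj (lm_lt _ hx hy) (lm_lt _ hy hx) ?_
      rw [M.lf_mul hx hy, M.lf_mul hy hx, e1, e2, ← map_mul, ← map_mul]
      exact congrArg ν (Subtype.ext e)
    have memI : ∀ {x g}, R x g → g * g = 1 → x ∈ (List.range 192).filter fun i => lm true i i == 0 :=
      fun {x g} h e => List.mem_filter.2 ⟨List.mem_range.2 h.1, beq_iff_eq.2 (sq h e)⟩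
    have t := List.all_eq_true.1 no_sixteen i (memI Ri huu)
    rw [hnot [6] [sP] (.cons hR6 .nil) Ri hI.1.1, Bool.false_or] at t
    have t' := List.all_eq_true.1 t j (List.mem_filter.2 ⟨memI Rj hvv, beq_iff_eq.2 (cm Ri Rj huv)⟩)
    rw [hnot [i, 6] [uP, sP] (.cons Ri (.cons hR6 .nil)) Rj hI.1.2, Bool.false_or] at t'
    have t'' := List.all_eq_true.1 t' k (List.mem_filter.2 ⟨memI Rk hrr, by
      rw [Bool.and_eq_true, beq_iff_eq, beq_iff_eq]; exact ⟨cm Ri Rk hur, cm Rj Rk hvr⟩⟩)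
    rw [hnot [j, i, 6] [vP, uP, sP] (.cons Rj (.cons Ri (.cons hR6 .nil))) Rk hI.2] at t''
    exact Bool.false_ne_true t''
  subst hcf
  rcases F.affine_or_simple with ⟨N, hN, -, -, hcard, -⟩ | ⟨hsimp, -⟩
  · exfalso
    have hne : N ≠ ⊥ := fun e => by rw [e, Subgroup.card_bot] at hcard; omega
    have hsN := F.s_mem_of_normal hN hne
    let z : {x // x ∈ [24, 10, 26, 17, 3, 19, 25, 11, 27]} → N := fun x => ⟨qt φ ⟨a φ x.1, a_Kc φ (nine_mem x.1 x.2).1⟩, by
      obtain ⟨q, hq⟩ := Y.conj_nine x.2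
      exact hq ▸ hN.conj_mem _ hsN q⟩
    have hz : Function.Injective z := by
      rintro ⟨x, hx⟩ ⟨y, hy⟩ e
      obtain ⟨v, hv, e'⟩ := qt_eq.1 (congrArg Subtype.val e)
      obtain ⟨hx', -, huniq⟩ := nine_mem x hx
      have hy' := (nine_mem y hy).1
      change a φ y = a φ x * a φ v at e'
      rw [a_mul hx' (lt4 v hv)] at e'
      have := Y.std.a_inj hy' (xor_lt hx' (lt4 v hv)) e'
      refine Subtype.ext (huniq y hy ?_)
      rw [this, ← Nat.xor_assoc, Nat.xor_self, Nat.zero_xor]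
      exact hv
    have := Nat.card_le_card_of_injective z hz
    rw [hcard, Nat.card_eq_fintype_card] at this
    exact absurd this (by decide +kernel)
  · haveI := hsimp
    exact F.eight_or_nine

end Nine

end CfsgLib.TwelveCent
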