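import Cfsg.Agent.Lib.TwelveCent.Nine.Norm
import Cfsg.Agent.Lib.AltPres.Line

/-!
The centraliser of the last four-group is that group times an alternating group.
-/

set_option autoImplicit false
set_option linter.style.haveILetI false
set_option linter.unusedSectionVars false
set_option maxRecDepth 100000

namespace CfsgLib.TwelveCent

open Equiv CfsgLib.AltPres

/-- a homomorphism out of an alternating group from Carmichael's relations -/
theorem exists_alt_hom {Ω : Type} [Fintype Ω] [DecidableEq Ω] [Nonempty Ω] {G : Type*} [Group G] (y : Ω → G)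
    (h3 : ∀ i, y i * y i * y i = 1) (h2 : ∀ i j, i ≠ j → y i * y j * (y i * y j) = 1) :
    ∃ θ : alternatingGroup (Bool ⊕ Ω) →* G, ∀ i, θ (cycA i) = y i := by
  classical
  let T := alternatingGroup (Bool ⊕ Ω)
  let gen : Ω → T × G := fun i => (cycA i, y i)
  let L := Subgroup.closure (Set.range gen)
  let gen' : Ω → L := fun i => ⟨gen i, Subgroup.subset_closure ⟨i, rfl⟩⟩
  have htop : Subgroup.closure (Set.range gen') = ⊤ := by
    refine Subgroup.map_injective L.subtype_injective ?_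
    rw [MonoidHom.map_closure, ← MonoidHom.range_eq_map, Subgroup.range_subtype, ← Set.range_comp]
    rfl
  obtain ⟨hfin, hle⟩ := card_of_family gen' (fun i => Subtype.ext (Prod.ext (cycA_cube i) (h3 i)))
    (fun i j hij => Subtype.ext (Prod.ext (cycA_pair i j hij) (h2 i j hij))) htop
  let pr : L →* T := (MonoidHom.fst T G).comp L.subtype
  have hsurj : Function.Surjective pr := by
    rw [← MonoidHom.range_eq_top, eq_top_iff, ← closure_cycA, Subgroup.closure_le]
    rintro _ ⟨i, rfl⟩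
    exact ⟨gen' i, rfl⟩
  have hbij : Function.Bijective pr := (Nat.bijective_iff_surjective_and_card _).2
    ⟨hsurj, le_antisymm hle (Nat.card_le_card_of_surjective pr hsurj)⟩
  let e := MulEquiv.ofBijective pr hbij
  refine ⟨(MonoidHom.snd T G).comp (L.subtype.comp e.symm.toMonoidHom), fun i => ?_⟩
  have : e.symm (cycA i) = gen' i := by rw [MulEquiv.symm_apply_eq]; rfl
  simp [this, gen', gen]

/-- Lifting an alternating quotient through a central subgroup of exponent two. -/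
theorem exists_section {K Q : Type*} [Group K] [Group Q] (π : K →* Q) (hπ : Function.Surjective π)
    (hker : ∀ v ∈ π.ker, v * v = 1 ∧ ∀ k, k * v = v * k) {Ω : Type} [Fintype Ω] [DecidableEq Ω] [Nonempty Ω]
    (f : alternatingGroup (Bool ⊕ Ω) ≃* Q) (u : K) (hu : u * u = 1)
    (hf : ∀ i j, i ≠ j → ∃ q, q * π u * q⁻¹ = f (cycA i * cycA j)) :
    ∃ ψ : Q →* K, ∀ q, π (ψ q) = q := by
  classical
  have hlift : ∀ i : Ω, ∃ x : K, π x = f (cycA i) ∧ x * x * x = 1 := by
    intro i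
    obtain ⟨x, hx⟩ := hπ (f (cycA i))
    set v := x * x * x with hv
    have hvk : v ∈ π.ker := by
      rw [MonoidHom.mem_ker, hv, map_mul, map_mul, hx, ← map_mul, ← map_mul, cycA_cube, map_one]
    obtain ⟨h2, hc⟩ := hker v hvk
    refine ⟨x * v, by rw [map_mul, hx, MonoidHom.mem_ker.1 hvk, mul_one], ?_⟩
    have hcx := hc x
    calc x * v * (x * v) * (x * v) = x * (v * x) * v * (x * v) := by group
      _ = x * (x * v) * v * (x * v) := by rw [hcx]
      _ = x * x * (v * v) * (x * v) := by group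
      _ = x * x * (x * v) := by rw [h2, mul_one]
      _ = v * v := by rw [hv]; group
      _ = 1 := h2
  choose x hx hx3 using hlift
  obtain ⟨θ, hθ⟩ := exists_alt_hom x hx3 fun i j hij => by
    obtain ⟨q, hq⟩ := hf i j hij
    obtain ⟨k, rfl⟩ := hπ q
    have hvk : (k * u * k⁻¹)⁻¹ * (x i * x j) ∈ π.ker := by
      rw [MonoidHom.mem_ker, map_mul, map_inv, map_mul, map_mul, map_inv, hq, map_mul, map_mul, hx, hx,
        inv_mul_cancel]
    obtain ⟨h2, hc⟩ := hker _ hvk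
    set v := (k * u * k⁻¹)⁻¹ * (x i * x j) with hv
    have e : x i * x j = k * u * k⁻¹ * v := by rw [hv]; group
    rw [e]
    calc k * u * k⁻¹ * v * (k * u * k⁻¹ * v) = k * u * k⁻¹ * (v * (k * u * k⁻¹)) * v := by group
      _ = k * u * k⁻¹ * (k * u * k⁻¹ * v) * v := by rw [hc (k * u * k⁻¹)]
      _ = k * (u * u) * k⁻¹ * (v * v) := by group
      _ = 1 := by rw [hu, h2]; group
  refine ⟨θ.comp f.symm.toMonoidHom, ?_⟩
  have key : π.comp θ = f.toMonoidHom := by
    refine MonoidHom.eq_of_eqOn_dense closure_cycA ?_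
    rintro _ ⟨i, rfl⟩
    simp [hθ, hx]
  intro q
  have := DFunLike.congr_fun key (f.symm q)
  simpa using this

/-- `inl true, inl false, inr i` as `0, 1, i + 2` -/
def pts (k : ℕ) : Bool ⊕ Fin k ≃ Fin (k + 2) where
  toFun := Sum.elim (fun b => bif b then ⟨0, by omega⟩ else ⟨1, by omega⟩) fun i => ⟨i.1 + 2, by omega⟩
  invFun j := if h : 2 ≤ j.1 then Sum.inr ⟨j.1 - 2, by omega⟩ else Sum.inl (j.1 == 0)
  left_inv := by
    rintro ((_ | _) | i)
    · simp
    · simp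
    · simp
  right_inv j := by
    dsimp only
    split_ifs with h
    · exact Fin.ext (show j.1 - 2 + 2 = j.1 by omega)
    · apply Fin.ext
      have : j.1 = 0 ∨ j.1 = 1 := by omega
      rcases this with e | e <;> simp [e]

/-- candidates for moving a product of two of the three-cycles to `(01)(23)` -/
def cand (i j : Fin 9) : List P9 :=
  [1, swap 0 1].flatMap fun t => [(i, j), (j, i)].flatMap fun p =>
    [t * (swap 3 (swap 2 p.1 p.2) * swap 2 p.1), t * (swap 3 (swap 2 p.1 p.2) * swap 2 p.1) * swap p.1 p.2,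
      t * (swap 1 2 * swap 3 (swap 2 p.1 p.2) * swap 2 p.1), t * (swap 1 3 * swap 3 (swap 2 p.1 p.2) * swap 2 p.1)]

theorem pair_nine : ∀ i j : Fin 7, i ≠ j → ∃ k ∈ cand ⟨i.1 + 2, by omega⟩ ⟨j.1 + 2, by omega⟩, Perm.sign k = 1 ∧
    k * ((pts 7).permCongrHom (cyc3 i) * (pts 7).permCongrHom (cyc3 j)) * k⁻¹ = up89 uP := by decide +kernel

theorem pair_eight : ∀ i j : Fin 6, i ≠ j → ∃ k ∈ cand ⟨i.1 + 2, by omega⟩ ⟨j.1 + 2, by omega⟩,
    (Perm.sign k = 1 ∧ k 8 = 8) ∧
    k * (up89 ((pts 6).permCongrHom (cyc3 i)) * up89 ((pts 6).permCongrHom (cyc3 j))) * k⁻¹ = up89 uP := by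
  decide +kernel

theorem comm_uP : ∃ g : P8, g ∈ T8 ∧ vP * g * vP⁻¹ * g⁻¹ = uP :=
  ⟨swap 0 1 * swap 4 5, inT_iff.1 (by decide +kernel), by decide +kernel⟩

theorem one_cases : ([1, 2, 16].all fun x => [0, 4, 32, 36].all fun v =>
    v == 0 || wt (x ^^^ v) != 1) = true ∧ wt 8 = 1 := by decide +kernel

/-- conjugations carrying `(01)(23)` to the other generators -/
theorem gen_conj : ([vP, rP, sP * uP].all fun g => [swap 1 2, swap 1 2 * swap 4 5, swap 0 4 * swap 1 6 * swap 2 5 * swap 3 7,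
    swap 0 4 * swap 1 5 * swap 2 6 * swap 3 7, swap 0 4 * swap 1 6 * swap 2 5 * swap 3 7 * swap 0 1].any fun k =>
      decide (Perm.sign k = 1) && eq8 (k * uP) (g * k)) = true := by decide +kernel

/-- central factors drop out of a commutator -/
theorem comm_central {G : Type*} [Group G] {A B v w : G} (vB : Commute v B) (wA : Commute w A) (vw : Commute v w) :
    A * v * (B * w) * (A * v)⁻¹ * (B * w)⁻¹ = A * B * A⁻¹ * B⁻¹ := by
  calc A * v * (B * w) * (A * v)⁻¹ * (B * w)⁻¹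
      = A * (v * B) * w * v⁻¹ * A⁻¹ * w⁻¹ * B⁻¹ := by group
    _ = A * B * (v * w) * v⁻¹ * A⁻¹ * w⁻¹ * B⁻¹ := by rw [vB.eq]; group
    _ = A * B * (w * A⁻¹) * w⁻¹ * B⁻¹ := by rw [vw.eq]; group
    _ = A * B * A⁻¹ * B⁻¹ := by rw [wA.inv_right.eq]; group

variable {G : Type*} [Group G] {φ : X12 →* G}

namespace Nine

variable [Finite G] (Y : Nine φ)
include Y

/-- the alternating factor -/
theorem exists_lift : ∃ (d : Bool) (ψ : M9 d →* G), Function.Injective ψ ∧ (∀ m, ψ m ∈ Kc φ) ∧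
    (∀ k ∈ Kc φ, ∃ m, ∃ v ∈ [0, 4, 32, 36], k = ψ m * a φ v) ∧
    (∀ m, ∀ v ∈ [0, 4, 32, 36], ψ m = a φ v → m = 1) ∧
    ∀ g : T8, ψ ⟨up89 g.1, up89_M9 (mem_T8.1 g.2).1⟩ = em φ (up8 g.1) := by
  classical
  obtain ⟨d, f, hf, hr, hT⟩ := Y.exists_quot_hom
  have hker : ∀ v ∈ (qt φ).ker, v * v = 1 ∧ ∀ k, k * v = v * k := by
    intro v hv
    rw [qt, QuotientGroup.ker_mk'] at hv
    refine ⟨?_, Vc_central φ hv⟩
    obtain ⟨x, hx, e⟩ := hv
    exact Subtype.ext (show (v : G) * v = 1 by rw [← e]; exact a_sq (lt4 x hx))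
  have hu2 : (⟨a φ 8, a_Kc φ (by norm_num)⟩ : Kc φ) * ⟨a φ 8, a_Kc φ (by norm_num)⟩ = 1 :=
    Subtype.ext (a_sq (show 8 < 64 by norm_num))
  have hu : f (qt φ ⟨a φ 8, a_Kc φ (by norm_num)⟩) = up89 uP := by
    rw [← hT ⟨uP, mem5.2.1⟩]
    refine congrArg f (congrArg (qt φ) (Subtype.ext ?_))
    have h := up8_table
    simp only [Bool.and_eq_true, same_iff] at h
    show a φ 8 = em φ (up8 uP)
    rw [h.1.1.1.2]; rfl
  let fM : Kc φ ⧸ Vc φ ≃* M9 d := MulEquiv.ofBijective (f.codRestrict (M9 d) fun q => (hr _).1 ⟨q, rfl⟩)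
    ⟨fun p q e => hf (congrArg Subtype.val e), fun ⟨y, hy⟩ => by
      obtain ⟨q, hq⟩ := (hr y).2 hy
      exact ⟨q, Subtype.ext hq⟩⟩
  have sec : ∀ {k : ℕ} [NeZero k] (E : Perm (Bool ⊕ Fin k) →* P9), Function.Injective E →
      (∀ y, y ∈ (alternatingGroup (Bool ⊕ Fin k)).map E ↔ y ∈ M9 d) →
      (∀ i j : Fin k, i ≠ j → ∃ c ∈ M9 d, c * (E (cyc3 i) * E (cyc3 j)) * c⁻¹ = up89 uP) →
      ∃ σ : Kc φ ⧸ Vc φ →* Kc φ, ∀ q, qt φ (σ q) = q := by
    intro k _ E hE hEr hpair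
    let η : alternatingGroup (Bool ⊕ Fin k) ≃* M9 d :=
      MulEquiv.ofBijective ((E.comp (alternatingGroup _).subtype).codRestrict (M9 d) fun a => (hEr _).1 ⟨a, a.2, rfl⟩)
      ⟨fun p q e => Subtype.ext (hE (congrArg Subtype.val e)), fun ⟨y, hy⟩ => by
        obtain ⟨p, hp, e⟩ := (hEr y).2 hy
        exact ⟨⟨p, hp⟩, Subtype.ext e⟩⟩
    refine exists_section (qt φ) (QuotientGroup.mk'_surjective _) hker (η.trans fM.symm) _ hu2 fun i j hij => ?_
    obtain ⟨c, hc, e⟩ := hpair i j hij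
    obtain ⟨q, hq⟩ := (hr c).2 hc
    refine ⟨q⁻¹, hf ?_⟩
    have hsym : ∀ z : M9 d, f (fM.symm z) = z.1 := fun z => congrArg Subtype.val (fM.apply_symm_apply z)
    rw [map_mul f, map_mul f, map_inv, inv_inv, hq, hu]
    show c⁻¹ * up89 uP * c = f (fM.symm (η (cycA i * cycA j)))
    rw [hsym, ← e]
    show c⁻¹ * (c * (E (cyc3 i) * E (cyc3 j)) * c⁻¹) * c = E (cyc3 i * cyc3 j)
    rw [map_mul]
    group
  obtain ⟨σ, hσ⟩ : ∃ σ : Kc φ ⧸ Vc φ →* Kc φ, ∀ q, qt φ (σ q) = q := by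
    rcases Bool.eq_false_or_eq_true d with rfl | rfl
    · refine sec (k := 7) (pts 7).permCongrHom.toMonoidHom (pts 7).permCongrHom.injective (fun y => ?_) ?_
      · constructor
        · rintro ⟨p, hp, rfl⟩
          exact ⟨(Perm.sign_permCongr (pts 7) p).trans (Perm.mem_alternatingGroup.1 hp), .inl rfl⟩
        · intro hy
          refine ⟨(pts 7).permCongrHom.symm y, Perm.mem_alternatingGroup.2 ?_, (pts 7).permCongrHom.apply_symm_apply y⟩
          have h := Perm.sign_permCongr (pts 7) ((pts 7).permCongrHom.symm y)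
          rw [← h]
          show Perm.sign ((pts 7).permCongrHom ((pts 7).permCongrHom.symm y)) = 1
          rw [MulEquiv.apply_symm_apply]
          exact hy.1
      · intro i j hij
        obtain ⟨c, -, hc, e⟩ := pair_nine i j hij
        exact ⟨c, ⟨hc, .inl rfl⟩, e⟩
    · refine sec (k := 6) (up89.comp (pts 6).permCongrHom.toMonoidHom)
        (up89_inj.comp (pts 6).permCongrHom.injective) (fun y => ?_) ?_
      · constructor
        · rintro ⟨p, hp, rfl⟩
          exact up89_M9 ((Perm.sign_permCongr (pts 6) p).trans (Perm.mem_alternatingGroup.1 hp))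
        · intro hy
          obtain ⟨r, rfl⟩ := exists_up89 (hy.2.resolve_left (by decide))
          refine ⟨(pts 6).permCongrHom.symm r, Perm.mem_alternatingGroup.2 ?_,
            congrArg up89 ((pts 6).permCongrHom.apply_symm_apply r)⟩
          have h := Perm.sign_permCongr (pts 6) ((pts 6).permCongrHom.symm r)
          rw [← h]
          show Perm.sign ((pts 6).permCongrHom ((pts 6).permCongrHom.symm r)) = 1
          rw [MulEquiv.apply_symm_apply, ← sign_up89]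
          exact hy.1
      · intro i j hij
        obtain ⟨c, -, hc, e⟩ := pair_eight i j hij
        exact ⟨c, ⟨hc.1, .inr hc.2⟩, e⟩
  let ψ : M9 d →* G := (Kc φ).subtype.comp (σ.comp fM.symm.toMonoidHom)
  have hψq : ∀ m, qt φ ⟨ψ m, (σ (fM.symm m)).2⟩ = fM.symm m := fun m => hσ _
  have hinj : Function.Injective ψ := fun p q e => fM.symm.injective (by
    rw [← hψq p, ← hψq q]
    exact congrArg (qt φ) (Subtype.ext e))
  have hrest : ∀ k (hk : k ∈ Kc φ), ∃ m, ∃ v ∈ [0, 4, 32, 36], k = ψ m * a φ v := by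
    intro k hk
    refine ⟨fM (qt φ ⟨k, hk⟩), ?_⟩
    obtain ⟨v, hv, e⟩ := qt_eq.1 (show qt φ ⟨ψ (fM (qt φ ⟨k, hk⟩)), (σ _).2⟩ = qt φ ⟨k, hk⟩ by
      rw [hψq, MulEquiv.symm_apply_apply])
    exact ⟨v, hv, e⟩
  let up : ∀ g : T8, M9 d := fun g => ⟨up89 g.1, up89_M9 (mem_T8.1 g.2).1⟩
  have hfM : ∀ g : T8, fM.symm (up g) = nu φ g := fun g => by
    rw [MulEquiv.symm_apply_eq]
    exact Subtype.ext (hT g).symm
  have hchi : ∀ g : T8, ∃ v ∈ [0, 4, 32, 36], em φ (up8 g.1) = ψ (up g) * a φ v := fun g =>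
    qt_eq.1 ((hψq (up g)).trans (hfM g))
  have hone : ∀ {g : T8} {x : ℕ}, x ∈ [1, 2, 16] → av x = up8 g.1 → ∀ k : P8, Perm.sign k = 1 → k * uP = g.1 * k →
      ψ (up ⟨uP, mem5.2.1⟩) = a φ 8 → ψ (up g) = em φ (up8 g.1) := by
    intro g x hx e k hk hkg h8
    obtain ⟨v, hv, ev⟩ := hchi g
    have hx' : x < 64 := (by decide : ∀ y ∈ [1, 2, 16], y < 64) x hx
    let km : M9 d := ⟨up89 k, up89_M9 hk⟩
    have eg : up g = km * up ⟨uP, mem5.2.1⟩ * km⁻¹ := Subtype.ext (by
      show up89 g.1 = up89 k * up89 uP * (up89 k)⁻¹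
      rw [← map_inv, ← map_mul, ← map_mul, hkg, mul_inv_cancel_right])
    have hc : IsConj (a φ 8) (ψ (up g)) := isConj_iff.2 ⟨ψ km, by rw [eg, map_mul, map_mul, map_inv, h8]⟩
    have e' : ψ (up g) = a φ (x ^^^ v) := by
      rw [← a_mul hx' (lt4 v hv), a, e, ev, mul_assoc, a_sq (lt4 v hv), mul_one]
    rw [e'] at hc
    have hw := Y.wt_of_isConj (by norm_num) (xor_lt hx' (lt4 v hv)) hc
    have t := List.all_eq_true.1 (List.all_eq_true.1 one_cases.1 x hx) v hv
    rw [Bool.or_eq_true, beq_iff_eq, bne_iff_ne] at t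
    rw [t.resolve_right (fun h => h (hw.symm.trans one_cases.2)), a_zero, mul_one] at ev
    exact ev.symm
  have hup : ∀ g h : T8, up (g * h) = up g * up h := fun g h => Subtype.ext (map_mul up89 _ _)
  have hE : ∀ (g : T8) (v : ℕ), v ∈ [0, 4, 32, 36] → em φ (up8 g.1) * a φ v = a φ v * em φ (up8 g.1) :=
    fun g v hv => Kc_comm φ (up8_Kc φ g.2) hv
  -- the commutator
  have h8 : ψ (up ⟨uP, mem5.2.1⟩) = a φ 8 := by
    obtain ⟨g, hg, hcomm⟩ := comm_uP
    let vg : T8 := ⟨vP, mem5.2.2.1⟩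
    let gg : T8 := ⟨g, hg⟩
    have he : (⟨uP, mem5.2.1⟩ : T8) = vg * gg * vg⁻¹ * gg⁻¹ := Subtype.ext hcomm.symm
    have upm : ∀ x : T8, up x⁻¹ = (up x)⁻¹ := fun x => Subtype.ext (map_inv up89 _)
    rw [he, hup, hup, hup, upm, upm, map_mul, map_mul, map_mul, map_inv, map_inv]
    obtain ⟨v, hv, e1⟩ := hchi vg
    obtain ⟨w, hw, e2⟩ := hchi gg
    have ev : a φ 8 = em φ (up8 vP) * em φ (up8 g) * (em φ (up8 vP))⁻¹ * (em φ (up8 g))⁻¹ := by
      rw [← em_conj φ (up8_mem mem5.2.2.1) (up8_mem hg), ← em_inv φ (up8_mem hg),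
        ← em_mul φ (mul_mem (mul_mem (up8_mem mem5.2.2.1) (up8_mem hg)) (inv_mem (up8_mem mem5.2.2.1))) (inv_mem (up8_mem hg)),
        ← map_inv, ← map_inv, ← map_mul, ← map_mul, ← map_mul, hcomm]
      have h := up8_table
      simp only [Bool.and_eq_true, same_iff] at h
      rw [h.1.1.1.2]; rfl
    change _ = _ at e1 e2
    have hv2 := a_sq (φ := φ) (lt4 v hv)
    have hw2 := a_sq (φ := φ) (lt4 w hw)
    have cv : ∀ m, ψ m * a φ v = a φ v * ψ m := fun m => Kc_comm φ (σ _).2 hv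
    have cw : ∀ m, ψ m * a φ w = a φ w * ψ m := fun m => Kc_comm φ (σ _).2 hw
    rw [ev, show em φ (up8 vP) = ψ (up vg) * a φ v from e1, show em φ (up8 g) = ψ (up gg) * a φ w from e2]
    exact (comm_central (cv _).symm (cw _).symm (a_comm (lt4 v hv) (lt4 w hw))).symm
  have ht := up8_table
  simp only [Bool.and_eq_true, same_iff] at ht
  obtain ⟨⟨⟨⟨⟨-, es⟩, eu⟩, ev⟩, er⟩, esu⟩ := ht
  have hgc := gen_conj
  simp only [List.all_eq_true, List.any_eq_true, Bool.and_eq_true, decide_eq_true_eq, eq8_iff] at hgc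
  let K : Subgroup T8 :=
    { carrier := {g | ψ (up g) = em φ (up8 g.1)}
      one_mem' := by
        show ψ (up 1) = _
        rw [show up 1 = 1 from Subtype.ext (map_one up89), map_one]
        simp only [OneMemClass.coe_one, map_one, em_one]
      mul_mem' := fun {p q} hp hq => by
        show ψ (up (p * q)) = _
        rw [hup, map_mul, show ψ (up p) = _ from hp, show ψ (up q) = _ from hq, Subgroup.coe_mul, map_mul,
          em_mul φ (up8_mem p.2) (up8_mem q.2)]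
      inv_mem' := fun {p} hp => by
        show ψ (up p⁻¹) = _
        rw [show up p⁻¹ = (up p)⁻¹ from Subtype.ext (map_inv up89 _), map_inv, show ψ (up p) = _ from hp,
          Subgroup.coe_inv, map_inv, em_inv φ (up8_mem p.2)] }
  refine ⟨d, ψ, hinj, fun m => (σ _).2, hrest, fun m v hv e => ?_, fun g => ?_⟩
  · refine fM.symm.injective ((hψq m).symm.trans ?_)
    rw [map_one fM.symm, ← map_one (qt φ)]
    exact qt_eq.2 ⟨v, hv, show (1 : G) = ψ m * a φ v by rw [e, a_sq (lt4 v hv)]⟩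
  have ku : (⟨uP, mem5.2.1⟩ : T8) ∈ K := h8.trans (by rw [a, ← eu])
  obtain ⟨k1, -, hk1, hk1'⟩ := hgc vP (by simp)
  obtain ⟨k2, -, hk2, hk2'⟩ := hgc rP (by simp)
  obtain ⟨k3, -, hk3, hk3'⟩ := hgc (sP * uP) (by simp)
  have kv : (⟨vP, mem5.2.2.1⟩ : T8) ∈ K := hone (x := 1) (by simp) ev.symm k1 hk1 hk1' h8
  have kr : (⟨rP, mem5.2.2.2.1⟩ : T8) ∈ K := hone (x := 2) (by simp) er.symm k2 hk2 hk2' h8
  have ksu : (⟨sP, mem5.1⟩ : T8) * ⟨uP, mem5.2.1⟩ ∈ K := hone (x := 16) (by simp) esu.symm k3 hk3 hk3' h8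
  have ks : (⟨sP, mem5.1⟩ : T8) ∈ K := by
    have h := K.mul_mem ksu (K.inv_mem ku)
    rwa [mul_inv_cancel_right] at h
  have kc : (⟨cP, mem5.2.2.2.2⟩ : T8) ∈ K := by
    set c : T8 := ⟨cP, mem5.2.2.2.2⟩
    have hc3 : c * c * c = 1 := by
      have h := gens_T8
      simp only [Bool.and_eq_true, List.all_cons, List.all_nil, and_true, and_assoc, eq8_iff] at h
      exact Subtype.ext h.2.2.2.2.2.1
    obtain ⟨v, hv, e⟩ := hchi c
    show ψ (up c) = _
    have e1 : ψ (up c) * ψ (up c) * ψ (up c) = 1 := by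
      rw [← map_mul, ← map_mul, ← hup, ← hup, hc3, show up 1 = 1 from Subtype.ext (map_one up89), map_one]
    have e2 : em φ (up8 c.1) * em φ (up8 c.1) * em φ (up8 c.1) = 1 := by
      rw [← em_mul φ (up8_mem c.2) (up8_mem c.2), ← em_mul φ (mul_mem (up8_mem c.2) (up8_mem c.2)) (up8_mem c.2),
        ← map_mul, ← map_mul, show c.1 * c.1 * c.1 = 1 from congrArg Subtype.val hc3, map_one, em_one]
    have C : Commute (ψ (up c)) (a φ v) := Kc_comm φ (σ _).2 hv
    rw [e] at e2 ⊢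
    have h3 : (a φ v) ^ 3 = 1 := by
      rw [← pow_three' , C.mul_pow, pow_three' (ψ (up c)), e1, one_mul] at e2
      exact e2
    rw [pow_three', a_sq (lt4 v hv), one_mul] at h3
    rw [h3, mul_one]
  exact T8_gen K ks ku kv kr kc g

end Nine

end CfsgLib.TwelveCent
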