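import Cfsg.Agent.Lib.TwelveCent.Nine.Hom
import Cfsg.Agent.Lib.TwoFourSThree.AltEmb

/-!
Involutions of the alternating groups of degree twelve and thirteen, by the number of letters moved.
-/

set_option autoImplicit false
set_option linter.unusedSectionVars false
set_option linter.style.haveILetI false
set_option maxRecDepth 100000

namespace CfsgLib.TwelveCent

open Equiv

/-- the number of letters moved -/
def mv {n : ℕ} (g : Perm (Fin n)) : ℕ := (List.finRange n).countP fun i => g i != i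

theorem mv_card {n : ℕ} (g : Perm (Fin n)) : mv g = g.support.card := by
  have hnd : ((List.finRange n).filter fun i => g i != i).Nodup := (List.nodup_finRange n).filter _
  rw [mv, List.countP_eq_length_filter, ← List.toFinset_card_of_nodup hnd]
  congr 1
  ext i
  simp [Perm.mem_support]

theorem mv_conj {n : ℕ} (g h : Perm (Fin n)) : mv (h * g * h⁻¹) = mv g := by
  rw [mv_card, mv_card, Perm.card_support_conj]

theorem mv_up12 (g : P12) : mv (up12 g) = mv g := by
  rw [mv, List.finRange_succ_last, List.countP_append, List.countP_map, mv]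
  rw [show List.countP (fun i => up12 g i != i) [Fin.last 12] = 0 by
    rw [List.countP_eq_zero]
    intro i hi
    rw [List.mem_singleton] at hi
    subst hi
    simp only [bne_iff_ne, ne_eq, Decidable.not_not]
    exact up12_last g, add_zero]
  refine List.countP_congr fun i _ => ?_
  simp only [Function.comp_apply, bne_iff_ne, ne_eq]
  rw [up12_cast, Fin.castSucc_inj]

/-- two involutions moving equally many letters are conjugate by an even permutation -/
theorem exists_even_conj {n : ℕ} {r : Perm (Fin n)} (hs : Perm.sign r = 1) (h2 : r * r = 1) (h1 : r ≠ 1)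
    {L : List (Perm (Fin n))} (hL : L.all (fun s => decide (Perm.sign s = 1) && (List.finRange n).all fun i => s (s i) == i) = true)
    (cover : ∀ k, 2 ≤ k → Even k → 2 * k ≤ n → ∃ s ∈ L, mv s = 2 * k) :
    ∃ π : Perm (Fin n), Perm.sign π = 1 ∧ π * r * π⁻¹ ∈ L := by
  haveI := Fact.mk Nat.prime_two
  have shape : ∀ s : Perm (Fin n), s * s = 1 →
      s.cycleType = Multiset.replicate s.cycleType.card 2 ∧ mv s = 2 * s.cycleType.card := by
    intro s hs
    have h := Perm.cycleType_of_pow_prime_eq_one (p := 2) (σ := s) (by rw [pow_two]; exact hs)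
    refine ⟨h, ?_⟩
    conv_lhs => rw [mv_card, ← Perm.sum_cycleType, h, Multiset.sum_replicate, smul_eq_mul, mul_comm]
  obtain ⟨hr, hm⟩ := shape r h2
  set k := r.cycleType.card
  have hk0 : k ≠ 0 := fun e => h1 (Perm.cycleType_eq_zero.1 (by rw [hr, e]; rfl))
  have hev : Even k := by
    have := Perm.sign_of_cycleType r
    rw [hs, hr, Multiset.sum_replicate, Multiset.card_replicate, smul_eq_mul] at this
    rcases Nat.even_or_odd k with he | ho
    · exact he
    · exfalso
      rw [pow_add, ho.neg_one_pow, Even.neg_one_pow ⟨k, by omega⟩] at this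
      exact absurd this (by decide)
  have hn : 2 * k ≤ n := by
    rw [← hm, mv_card]
    exact (Finset.card_le_univ _).trans (by simp)
  obtain ⟨s, hsL, hsm⟩ := cover k (by obtain ⟨j, hj⟩ := hev; omega) hev hn
  have hsall := List.all_eq_true.1 hL s hsL
  simp only [Bool.and_eq_true, decide_eq_true_eq, List.all_eq_true, beq_iff_eq] at hsall
  have hs2 : s * s = 1 := Equiv.ext fun i => hsall.2 i (List.mem_finRange i)
  obtain ⟨hsr, hsm'⟩ := shape s hs2
  have hty : r.cycleType = s.cycleType := by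
    rw [hr, hsr, show s.cycleType.card = k by omega]
  obtain ⟨π, hπ⟩ := isConj_iff.1 (TwoFourSThree.alt_isConj_of_type (a := ⟨r, Perm.mem_alternatingGroup.2 hs⟩)
    (b := ⟨s, Perm.mem_alternatingGroup.2 hsall.1⟩) (Subtype.ext h2) (fun e => h1 (congrArg Subtype.val e)) hty)
  exact ⟨π.1, Perm.mem_alternatingGroup.1 π.2, by rw [show π.1 * r * π.1⁻¹ = s from congrArg Subtype.val hπ]; exact hsL⟩

theorem av_mv : ((List.range 64).all fun x => mv (av x) == 4 * wt x) = true := by decide +kernel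

theorem mv_av {x : ℕ} (hx : x < 64) : mv (av x) = 4 * wt x :=
  beq_iff_eq.1 (List.all_eq_true.1 av_mv x (List.mem_range.2 hx))

theorem cover12 : ∀ k ∈ [2, 4, 6], [av 8, av 24, av 56].any (fun s => mv s == 2 * k) = true := by decide +kernel

theorem list12_ok : ([av 8, av 24, av 56].all fun s => decide (Perm.sign s = 1) &&
    (List.finRange 12).all fun i => s (s i) == i) = true := by decide +kernel

theorem list8_ok : ([uP, sP].all fun s => decide (Perm.sign s = 1) && (List.finRange 8).all fun i => s (s i) == i) = true ∧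
    (∀ k ∈ [2, 4], [uP, sP].any (fun s => mv s == 2 * k) = true) ∧
    ([up89 uP, up89 sP].all fun s => decide (Perm.sign s = 1) && (List.finRange 9).all fun i => s (s i) == i) = true ∧
    (∀ k ∈ [2, 4], [up89 uP, up89 sP].any (fun s => mv s == 2 * k) = true) ∧
    eq8 (ab 8) uP = true ∧ eq8 (ab 24) sP = true := by decide +kernel

theorem exists_up12 {y : P13} (h12 : y 12 = 12) : ∃ r : P12, up12 r = y := by
  have hlow : ∀ i : Fin 12, (y i.castSucc).1 < 12 := fun i => by
    by_contra h
    have h' : y i.castSucc = 12 := Fin.ext (by have := (y i.castSucc).2; show _ = 12; omega)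
    have := congrArg Fin.val (y.injective (h'.trans h12.symm))
    have := i.2
    simp at *
    omega
  refine ⟨Equiv.ofBijective (fun i => (⟨_, hlow i⟩ : Fin 12)) (Finite.injective_iff_bijective.1 fun i j e =>
    Fin.castSucc_injective _ (y.injective (Fin.ext (congrArg Fin.val e :)))), Equiv.ext fun i => ?_⟩
  induction i using Fin.lastCases with
  | last => exact (up12_last _).trans h12.symm
  | cast i => rw [up12_cast]; exact Fin.ext rfl

/-- involutions of the group of degree twelve or thirteen -/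
theorem M13_invol {d : Bool} {m : P13} (hm : m ∈ M13 d) (h2 : m * m = 1) (h1 : m ≠ 1) :
    ∃ π ∈ M13 d, ∃ x ∈ [8, 24, 56], π * m * π⁻¹ = up12 (av x) := by
  have e13 : ∀ k, 2 ≤ k → Even k → 2 * k ≤ 13 → k ∈ [2, 4, 6] := fun k h₁ h₂ h₃ => by
    obtain ⟨j, rfl⟩ := h₂
    have : j = 1 ∨ j = 2 ∨ j = 3 := by omega
    rcases this with rfl | rfl | rfl <;> simp
  rcases Bool.eq_false_or_eq_true d with rfl | rfl
  · obtain ⟨π, hπ, hl⟩ := exists_even_conj hm.1 h2 h1 (L := [up12 (av 8), up12 (av 24), up12 (av 56)]) (by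
      have h := list12_ok
      simp only [List.all_cons, List.all_nil, Bool.and_true, Bool.and_eq_true, decide_eq_true_eq, List.all_eq_true,
        beq_iff_eq] at h ⊢
      have lift : ∀ {g : P12}, (∀ i ∈ List.finRange 12, g (g i) = i) → ∀ i ∈ List.finRange 13, up12 g (up12 g i) = i := by
        intro g hg i _
        induction i using Fin.lastCases with
        | last => rw [show up12 g (Fin.last 12) = Fin.last 12 from up12_last g, show up12 g (Fin.last 12) = Fin.last 12 from up12_last g]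
        | cast j => rw [up12_cast, up12_cast, hg j (List.mem_finRange j)]
      exact ⟨⟨(sign_up12 _).trans h.1.1, lift h.1.2⟩, ⟨(sign_up12 _).trans h.2.1.1, lift h.2.1.2⟩,
        (sign_up12 _).trans h.2.2.1, lift h.2.2.2⟩) (fun k h₁ h₂ h₃ => by
      obtain ⟨s, hs, e⟩ := List.any_eq_true.1 (cover12 k (e13 k h₁ h₂ h₃))
      refine ⟨up12 s, ?_, by rw [mv_up12]; exact beq_iff_eq.1 e⟩
      exact List.mem_map.2 ⟨s, hs, rfl⟩)
    refine ⟨π, ⟨hπ, .inl rfl⟩, ?_⟩
    simp only [List.mem_cons, List.not_mem_nil, or_false] at hl ⊢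
    rcases hl with e | e | e <;> [exact ⟨8, by simp, e⟩; exact ⟨24, by simp, e⟩; exact ⟨56, by simp, e⟩]
  · have h12 : m 12 = 12 := hm.2.resolve_left (by decide)
    obtain ⟨r, rfl⟩ := exists_up12 h12
    rw [← map_mul, ← map_one up12] at h2
    obtain ⟨π, hπ, hl⟩ := exists_even_conj ((sign_up12 r).symm.trans hm.1) (up12_inj h2)
      (fun e => h1 (by rw [e, map_one])) (L := [av 8, av 24, av 56]) list12_ok (fun k h₁ h₂ h₃ => by
      obtain ⟨s, hs, e⟩ := List.any_eq_true.1 (cover12 k (e13 k h₁ h₂ (by omega)))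
      exact ⟨s, hs, beq_iff_eq.1 e⟩)
    refine ⟨up12 π, up12_M13 hπ, ?_⟩
    rw [← map_inv, ← map_mul, ← map_mul]
    simp only [List.mem_cons, List.not_mem_nil, or_false] at hl ⊢
    rcases hl with e | e | e <;>
      [exact ⟨8, by simp, by rw [e]⟩; exact ⟨24, by simp, by rw [e]⟩; exact ⟨56, by simp, by rw [e]⟩]

/-- involutions of the group of degree eight or nine -/
theorem M9_invol {d : Bool} {m : P9} (hm : m ∈ M9 d) (h2 : m * m = 1) (h1 : m ≠ 1) :
    ∃ π ∈ M9 d, ∃ x ∈ [8, 24], π * m * π⁻¹ = up89 (ab x) := by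
  obtain ⟨o8, c8', o9, c9', e8, e24⟩ := list8_ok
  rw [eq8_iff] at e8 e24
  have e9 : ∀ k, 2 ≤ k → Even k → 2 * k ≤ 9 → k ∈ [2, 4] := fun k h₁ h₂ h₃ => by
    obtain ⟨j, rfl⟩ := h₂
    have : j = 1 ∨ j = 2 := by omega
    rcases this with rfl | rfl <;> simp
  rcases Bool.eq_false_or_eq_true d with rfl | rfl
  · obtain ⟨π, hπ, hl⟩ := exists_even_conj hm.1 h2 h1 (L := [up89 uP, up89 sP]) o9 (fun k h₁ h₂ h₃ => by
      obtain ⟨s, hs, e⟩ := List.any_eq_true.1 (c9' k (e9 k h₁ h₂ h₃))
      exact ⟨s, hs, beq_iff_eq.1 e⟩)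
    refine ⟨π, ⟨hπ, .inl rfl⟩, ?_⟩
    simp only [List.mem_cons, List.not_mem_nil, or_false] at hl ⊢
    rcases hl with e | e <;> [exact ⟨8, .inl rfl, by rw [e, e8]⟩; exact ⟨24, .inr rfl, by rw [e, e24]⟩]
  · have h8 : m 8 = 8 := hm.2.resolve_left (by decide)
    obtain ⟨r, rfl⟩ := exists_up89 h8
    rw [← map_mul, ← map_one up89] at h2
    obtain ⟨π, hπ, hl⟩ := exists_even_conj ((sign_up89 r).symm.trans hm.1) (up89_inj h2)
      (fun e => h1 (by rw [e, map_one])) (L := [uP, sP]) o8 (fun k h₁ h₂ h₃ => by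
      obtain ⟨s, hs, e⟩ := List.any_eq_true.1 (c8' k (e9 k h₁ h₂ (by omega)))
      exact ⟨s, hs, beq_iff_eq.1 e⟩)
    refine ⟨up89 π, up89_M9 hπ, ?_⟩
    rw [← map_inv, ← map_mul, ← map_mul]
    simp only [List.mem_cons, List.not_mem_nil, or_false] at hl ⊢
    rcases hl with e | e <;> [exact ⟨8, .inl rfl, by rw [e, e8]⟩; exact ⟨24, .inr rfl, by rw [e, e24]⟩]

/-- a product of two pairs of the central involution -/
def flip2 (i j : Fin 12) : P12 := swap i (alp i) * swap j (alp j)

/-- the test on one product of two pairs -/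
def chkC (g u : P12) : Bool :=
  !(same (g * u) (u * g) && mv (g * (alp * u)) == 8) ||
    !((mv (u * g) == 12 && mv (u * g * (alp * u)) == 8) || (mv (u * g) == 4 && mv (u * g * (alp * u)) == 12))

/-- the test on one element -/
def chkCs (g : P12) : Bool :=
  !(mv g == 8 && same (g * g) 1) || (List.range 6).all fun i => (List.range 6).all fun j =>
    !(Nat.blt i j) || chkC g (flip2 ⟨(2 * i) % 12, Nat.mod_lt _ (by norm_num)⟩ ⟨(2 * j) % 12, Nat.mod_lt _ (by norm_num)⟩)

theorem flip2_norm : ∀ i j : Fin 12, j ≠ i → j ≠ alp i →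
    i.1 / 2 ≠ j.1 / 2 ∧ same (flip2 i j) (flip2 ⟨(2 * min (i.1 / 2) (j.1 / 2)) % 12, Nat.mod_lt _ (by norm_num)⟩
      ⟨(2 * max (i.1 / 2) (j.1 / 2)) % 12, Nat.mod_lt _ (by norm_num)⟩) = true := by decide +kernel

theorem tabC : ((List.range 64).all fun x => (List.range 8).all fun k => chkCs (av x * kv k)) = true := by
  decide +kernel

theorem tabU : ((List.range 64).all fun t => t == 0 || t == 8 || wt t == 3 || wt (t ^^^ 8) == 3 ||
    !(wt (t ^^^ 1) == 1 && wt (t ^^^ 9) == 1 || wt (t ^^^ 1) == 3 && wt (t ^^^ 9) == 3)) = true := by decide +kernel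

theorem tabQ : ((List.range 64).all fun y => !(mv (av y) == 4) || (List.range 64).all fun z => !(mv (av z) == 4) ||
    !(mv (av y * av z) == 4) || (List.finRange 12).all fun i => (av y i == i) == (av z i == i)) = true := by
  decide +kernel

theorem flips8 : (same (av 8) (swap 0 1 * swap 2 3) && same eA (swap 0 1 * swap 4 5) &&
    same (av 1) (swap 0 2 * swap 1 3) && same (alp * av 8) (av 48)) = true := by decide +kernel

/-- a pair in the first quad of thirteen letters -/
def u13 : P13 := swap 0 1 * swap 2 3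

/-- the translation of the first quad -/
def i13 : P13 := swap 0 2 * swap 1 3

theorem up12_u13 : up12 (av 8) = u13 ∧ up12 (av 1) = i13 ∧ up12 eA = swap 0 1 * swap 4 5 := by
  have h := flips8
  simp only [Bool.and_eq_true, same_iff] at h
  refine ⟨?_, ?_, ?_⟩
  · rw [h.1.1.1, map_mul, up12_swap, up12_swap]; rfl
  · rw [h.1.2, map_mul, up12_swap, up12_swap]; rfl
  · rw [h.1.1.2, map_mul, up12_swap, up12_swap]; rfl

theorem fix4 : (∀ p : Fin 13, 4 ≤ p.1 → u13 p = p ∧ i13 p = p) ∧ (∀ p : Fin 13, u13 p ≠ p → p.1 < 4) ∧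
    ∀ p : Fin 13, p.1 < 4 → u13 p ≠ p ∧ (u13 p).1 < 4 ∧ (i13 p).1 < 4 := by decide +kernel

theorem quad_pres {v : P13} (h : v * u13 = u13 * v) :
    (∀ p : Fin 13, p.1 < 4 → (v p).1 < 4) ∧ ∀ p : Fin 13, 4 ≤ p.1 → 4 ≤ (v p).1 := by
  obtain ⟨f4, g4', l4⟩ := fix4
  have e : ∀ p, v (u13 p) = u13 (v p) := fun p => DFunLike.congr_fun h p
  refine ⟨fun p hp => g4' _ fun hf => (l4 p hp).1 (v.injective ((e p).trans hf)), fun p hp => ?_⟩
  by_contra hlt
  exact (l4 _ (Nat.lt_of_not_le hlt)).1 (by rw [← e, (f4 p hp).1])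

theorem mv_split (g : P13) : mv g = ((List.finRange 13).filter fun i => i.1 < 4).countP (fun i => g i != i) +
    ((List.finRange 13).filter fun i => 4 ≤ i.1).countP (fun i => g i != i) := by
  have e : ((List.finRange 13).filter fun i => decide (4 ≤ i.1)) = (List.finRange 13).filter fun i => !decide (i.1 < 4) :=
    List.filter_congr fun i _ => by rw [← decide_not]; exact decide_eq_decide.2 (by omega)
  rw [mv, e]
  exact List.countP_eq_countP_filter_add _ _ _

/-- the action on the first quad, as a map on four letters -/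
theorem quad4 : ∀ a b c e : Fin 4,
    let f : Fin 4 → Fin 4 := fun i => [a, b, c, e].getD i.1 0
    let u : Fin 4 → Fin 4 := fun i => [1, 0, 3, 2].getD i.1 0
    let t : Fin 4 → Fin 4 := fun i => [2, 3, 0, 1].getD i.1 0
    (∀ i, f (f i) = i) → (∀ i, f (u i) = u (f i)) →
      ((∀ i, f i ≠ i) → (∀ i, f (u i) ≠ i) → ∀ i, f (t i) = t (f i)) ∧
      ((List.finRange 4).countP (fun i => f i != i) = (List.finRange 4).countP (fun i => f (u i) != i) →
        ¬ (∀ i, f (t i) = t (f i)) → (List.finRange 4).countP (fun i => f i != i) = 2 ∧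
          (f 0 = 1 ∨ f 2 = 3)) := by decide +kernel

/-- the restriction to the first quad -/
theorem quad_restrict {v : P13} (hv : v * v = 1) (h : v * u13 = u13 * v) :
    ∃ f : Fin 4 → Fin 4, (∀ i : Fin 4, (v (i.castLE (by norm_num))) = (f i).castLE (by norm_num)) ∧
      (∀ i, f (f i) = i) ∧ (∀ i, f ([1, 0, 3, 2].getD i.1 0) = [1, 0, 3, 2].getD (f i).1 0) ∧
      f = fun i => [f 0, f 1, f 2, f 3].getD i.1 0 := by
  refine ⟨fun i => ⟨(v (i.castLE (by norm_num))).1, (quad_pres h).1 _ i.2⟩, fun i => Fin.ext rfl, fun i => ?_, fun i => ?_,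
    funext fun i => by fin_cases i <;> rfl⟩
  · exact Fin.ext (congrArg Fin.val (DFunLike.congr_fun hv (i.castLE (show 4 ≤ 13 by norm_num))) :)
  · have key : ∀ i : Fin 4, ((([1, 0, 3, 2] : List (Fin 4)).getD i.1 0).castLE (show 4 ≤ 13 by norm_num)) =
        u13 (i.castLE (by norm_num)) := by decide +kernel
    refine Fin.castLE_injective (show 4 ≤ 13 by norm_num) ?_
    rw [key]
    refine Eq.trans (Fin.ext rfl) ((congrArg v (key i)).trans ((DFunLike.congr_fun h _).trans ?_))
    exact congrArg u13 (Fin.ext rfl)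

theorem low_count (g : P13) (f : Fin 4 → Fin 4) (h : ∀ i : Fin 4, g (i.castLE (by norm_num)) = (f i).castLE (by norm_num)) :
    ((List.finRange 13).filter fun i => i.1 < 4).countP (fun i => g i != i) =
      (List.finRange 4).countP (fun i => f i != i) := by
  have e : ((List.finRange 13).filter fun i => decide (i.1 < 4)) =
      (List.finRange 4).map (Fin.castLE (show 4 ≤ 13 by norm_num)) := by decide +kernel
  rw [e, List.countP_map]
  refine List.countP_congr fun i _ => ?_
  simp [h, Fin.ext_iff]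

/-- an involution moving twelve letters, also after multiplication by the pair, respects the quad's translation -/
theorem six_comm {v : P13} (hv : v * v = 1) (h : v * u13 = u13 * v) (h6 : mv v = 12) (h6' : mv (v * u13) = 12) :
    v * i13 = i13 * v := by
  obtain ⟨f4, -, l4⟩ := fix4
  obtain ⟨f, hf, hff, hfu, hf4⟩ := quad_restrict hv h
  have huniq : ∀ {g : P13}, mv g = 12 → ∀ p q, g p = p → g q = q → p = q := by
    intro g hg p q hp hq
    by_contra hne
    rw [mv_card] at hg
    have : g.support ⊆ Finset.univ \ {p, q} := fun x hx => by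
      rw [Perm.mem_support] at hx
      simp only [Finset.mem_sdiff, Finset.mem_univ, true_and, Finset.mem_insert, Finset.mem_singleton]
      rintro (rfl | rfl) <;> contradiction
    have := Finset.card_le_card this
    rw [Finset.card_sdiff, Finset.inter_univ, Finset.card_pair hne, hg] at this
    simp at this
  have key : ∀ i : Fin 4, ((([1, 0, 3, 2] : List (Fin 4)).getD i.1 0).castLE (show 4 ≤ 13 by norm_num)) =
      u13 (i.castLE (by norm_num)) := by decide +kernel
  have hn : ∀ i, f i ≠ i := fun i e => by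
    have hp : v (i.castLE (show 4 ≤ 13 by norm_num)) = i.castLE (by norm_num) := by rw [hf, e]
    exact (l4 _ i.2).1 (huniq h6 _ _ (by rw [show v (u13 _) = u13 (v _) from DFunLike.congr_fun h _, hp]) hp)
  have hn' : ∀ i, f ([1, 0, 3, 2].getD i.1 0) ≠ i := fun i e => by
    have hp : (v * u13) (i.castLE (show 4 ≤ 13 by norm_num)) = i.castLE (by norm_num) := by
      rw [Perm.mul_apply, ← key, hf, e]
    exact (l4 _ i.2).1 (huniq h6' _ _ (by
      rw [← Perm.mul_apply (v * u13) u13, show v * u13 * u13 = u13 * (v * u13) by rw [← mul_assoc, h],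
        Perm.mul_apply, hp]) hp)
  have ht := (quad4 (f 0) (f 1) (f 2) (f 3))
  simp only [← congrFun hf4] at ht
  have h4 := (ht hff hfu).1 hn hn'
  refine Equiv.ext fun p => ?_
  rcases Nat.lt_or_ge p.1 4 with hp | hp
  · obtain ⟨i, rfl⟩ : ∃ i : Fin 4, i.castLE (show 4 ≤ 13 by norm_num) = p := ⟨⟨p.1, hp⟩, Fin.ext rfl⟩
    have keyt : ∀ i : Fin 4, ((([2, 3, 0, 1] : List (Fin 4)).getD i.1 0).castLE (show 4 ≤ 13 by norm_num)) =
        i13 (i.castLE (by norm_num)) := by decide +kernel
    rw [Perm.mul_apply, Perm.mul_apply, ← keyt, hf, h4, hf, ← keyt]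
  · rw [Perm.mul_apply, Perm.mul_apply, (f4 p hp).2, (f4 _ ((quad_pres h).2 p hp)).2]

/-- the pairs of involutions moving four letters which are not in one quad -/
theorem pair_form {d : Bool} {v : P13} (hv : v ∈ M13 d) (h2 : v * v = 1) (h : v * u13 = u13 * v) (h4 : mv v = 4)
    (h4' : mv (v * u13) = 4) (hi : v * i13 ≠ i13 * v) :
    ∃ σ ∈ M13 d, σ * u13 = u13 * σ ∧ σ * v * σ⁻¹ = swap 0 1 * swap 4 5 := by
  obtain ⟨f4, -, l4⟩ := fix4
  obtain ⟨f, hf, hff, hfu, hf4⟩ := quad_restrict h2 h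
  have key : ∀ i : Fin 4, ((([1, 0, 3, 2] : List (Fin 4)).getD i.1 0).castLE (show 4 ≤ 13 by norm_num)) =
      u13 (i.castLE (by norm_num)) := by decide +kernel
  have keyt : ∀ i : Fin 4, ((([2, 3, 0, 1] : List (Fin 4)).getD i.1 0).castLE (show 4 ≤ 13 by norm_num)) =
      i13 (i.castLE (by norm_num)) := by decide +kernel
  have hsame : (List.finRange 4).countP (fun i => f i != i) =
      (List.finRange 4).countP (fun i => f ([1, 0, 3, 2].getD i.1 0) != i) := by
    have e1 := mv_split v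
    have e2 := mv_split (v * u13)
    rw [low_count v f hf] at e1
    rw [low_count (v * u13) (fun i => f ([1, 0, 3, 2].getD i.1 0)) (fun i => by rw [Perm.mul_apply, ← key, hf])] at e2
    have e3 : ((List.finRange 13).filter fun i => 4 ≤ i.1).countP (fun i => (v * u13) i != i) =
        ((List.finRange 13).filter fun i => 4 ≤ i.1).countP (fun i => v i != i) := by
      refine List.countP_congr fun i hi' => ?_
      rw [List.mem_filter, decide_eq_true_eq] at hi'
      rw [Perm.mul_apply, (f4 i hi'.2).1]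
    omega
  have hni : ¬ ∀ i, f ([2, 3, 0, 1].getD i.1 0) = [2, 3, 0, 1].getD (f i).1 0 := fun hall => hi (by
    refine Equiv.ext fun p => ?_
    rcases Nat.lt_or_ge p.1 4 with hp | hp
    · obtain ⟨i, rfl⟩ : ∃ i : Fin 4, i.castLE (show 4 ≤ 13 by norm_num) = p := ⟨⟨p.1, hp⟩, Fin.ext rfl⟩
      rw [Perm.mul_apply, Perm.mul_apply, ← keyt, hf, hall, hf, ← keyt]
    · rw [Perm.mul_apply, Perm.mul_apply, (f4 p hp).2, (f4 _ ((quad_pres h).2 p hp)).2])
  have ht := (quad4 (f 0) (f 1) (f 2) (f 3))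
  simp only [← congrFun hf4] at ht
  obtain ⟨-, hf'⟩ := (ht hff hfu).2 hsame hni
  -- bring the moved pair of the quad to `0 1`
  obtain ⟨π, hπM, hπu, hπ12, hv01⟩ : ∃ π : P13, π ∈ M13 d ∧ π * u13 = u13 * π ∧ π 12 = 12 ∧
      (π * v * π⁻¹) 0 = 1 := by
    rcases hf' with e | e
    · exact ⟨1, one_mem _, by rw [one_mul, mul_one], rfl, by
        rw [one_mul, inv_one, mul_one, show (0 : Fin 13) = (0 : Fin 4).castLE (by norm_num) from rfl, hf, e]; rfl⟩
    · have t : Perm.sign i13 = 1 ∧ i13 * u13 = u13 * i13 ∧ i13 12 = 12 ∧ i13⁻¹ 0 = (2 : Fin 4).castLE (by norm_num) ∧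
          i13 ((3 : Fin 4).castLE (by norm_num)) = 1 := by decide +kernel
      exact ⟨i13, ⟨t.1, .inr t.2.2.1⟩, t.2.1, t.2.2.1, by rw [Perm.mul_apply, Perm.mul_apply, t.2.2.2.1, hf, e, t.2.2.2.2]⟩
  obtain ⟨w, hw⟩ : ∃ w, w = π * v * π⁻¹ := ⟨_, rfl⟩
  rw [← hw] at hv01
  have hwM : w ∈ M13 d := hw ▸ mul_mem (mul_mem hπM hv) (inv_mem hπM)
  have hw2 : w * w = 1 := hw ▸ conj_sq h2 π
  have hwu : w * u13 = u13 * w := by
    have hp : π⁻¹ * u13 = u13 * π⁻¹ := by
      calc π⁻¹ * u13 = π⁻¹ * (u13 * π) * π⁻¹ := by group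
        _ = u13 * π⁻¹ := by rw [← hπu]; group
    rw [hw, mul_assoc (π * v), hp, ← mul_assoc, mul_assoc π, h, ← mul_assoc, hπu]
    group
  have hw4 : mv w = 4 := hw ▸ (mv_conj v π).trans h4
  have hsupp : w.support.card = 4 := by rw [← mv_card]; exact hw4
  have ww : ∀ p, w (w p) = p := fun p => DFunLike.congr_fun hw2 p
  have w1 : w 1 = 0 := by rw [← hv01, ww]
  obtain ⟨a, ha, ha4⟩ : ∃ a : Fin 13, w a ≠ a ∧ a ∉ ({0, 1} : Finset (Fin 13)) := by
    obtain ⟨a, ha, ha'⟩ := Finset.exists_mem_notMem_of_card_lt_card (s := ({0, 1} : Finset (Fin 13))) (t := w.support)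
      (by rw [hsupp]; decide)
    exact ⟨a, Perm.mem_support.1 ha, ha'⟩
  set b := w a with hb
  have hwb : w b = a := ww a
  simp only [Finset.mem_insert, Finset.mem_singleton, not_or] at ha4
  have hb01 : b ≠ 0 ∧ b ≠ 1 := by
    constructor <;> intro e
    · exact ha4.2 (by rw [← hwb, e, hv01])
    · exact ha4.1 (by rw [← hwb, e, w1])
  have hsub : ({0, 1, a, b} : Finset (Fin 13)) = w.support := by
    refine Finset.eq_of_subset_of_card_le (fun x hx => ?_) ?_
    · simp only [Finset.mem_insert, Finset.mem_singleton] at hx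
      rw [Perm.mem_support]
      rcases hx with rfl | rfl | rfl | rfl
      · rw [hv01]; decide
      · rw [w1]; decide
      · exact ha
      · rw [hwb]; exact Ne.symm ha
    · rw [hsupp, Finset.card_insert_of_notMem, Finset.card_insert_of_notMem, Finset.card_pair (Ne.symm ha)]
      · simp [Ne.symm ha4.2, Ne.symm hb01.2]
      · simp [Ne.symm ha4.1, Ne.symm hb01.1]
  have hab4 : 4 ≤ a.1 ∧ 4 ≤ b.1 := by
    have hq : ∀ x, w x ≠ x → x ≠ 0 → x ≠ 1 → 4 ≤ x.1 := fun x hx h0 h1 => by
      by_contra hlt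
      have hux : w (u13 x) ≠ u13 x := by
        rw [show w (u13 x) = u13 (w x) from DFunLike.congr_fun hwu x]
        exact fun e => hx (u13.injective e)
      have hin : ∀ y, w y ≠ y → y ∈ ({0, 1, a, b} : Finset (Fin 13)) := fun y hy => hsub ▸ Perm.mem_support.2 hy
      have hwu4 : mv (w * u13) = 4 := by
        rw [show w * u13 = π * (v * u13) * π⁻¹ by
          rw [hw, mul_assoc, show π⁻¹ * u13 = π⁻¹ * (u13 * π) * π⁻¹ by group, ← hπu]; group, mv_conj, h4']
      have htab : ∀ x : Fin 13, x.1 < 4 → x ≠ 0 → x ≠ 1 → (x = 2 ∧ u13 x = 3) ∨ (x = 3 ∧ u13 x = 2) := by decide +kernel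
      have h23 : w 2 ≠ 2 ∧ w 3 ≠ 3 := by
        rcases htab x (Nat.lt_of_not_le hlt) h0 h1 with ⟨e, e'⟩ | ⟨e, e'⟩
        · exact ⟨e ▸ hx, e' ▸ hux⟩
        · exact ⟨e' ▸ hux, e ▸ hx⟩
      have hall : w = u13 := by
        have h2' := hin 2 h23.1
        have h3' := hin 3 h23.2
        simp only [Finset.mem_insert, Finset.mem_singleton, show ((2 : Fin 13) = 0) = False by decide,
          show ((2 : Fin 13) = 1) = False by decide, show ((3 : Fin 13) = 0) = False by decide,
          show ((3 : Fin 13) = 1) = False by decide, false_or] at h2' h3'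
        have hab : (a = 2 ∧ b = 3) ∨ (a = 3 ∧ b = 2) := by
          rcases h2' with e | e <;> rcases h3' with e' | e'
          · exact absurd (e.trans e'.symm) (by decide)
          · exact .inl ⟨e.symm, e'.symm⟩
          · exact .inr ⟨e'.symm, e.symm⟩
          · exact absurd (e.trans e'.symm) (by decide)
        have uv : u13 0 = 1 ∧ u13 1 = 0 ∧ u13 2 = 3 ∧ u13 3 = 2 := by decide +kernel
        refine Equiv.ext fun y => ?_
        by_cases hy : y ∈ ({0, 1, a, b} : Finset (Fin 13))
        · simp only [Finset.mem_insert, Finset.mem_singleton] at hy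
          rcases hab with ⟨ea, eb⟩ | ⟨ea, eb⟩ <;> rcases hy with rfl | rfl | rfl | rfl
          all_goals first
            | exact hv01.trans uv.1.symm
            | exact w1.trans uv.2.1.symm
            | (rw [← hb, ea, eb]; simp [uv.2.2.1, uv.2.2.2])
            | (rw [hwb, ea, eb]; simp [uv.2.2.1, uv.2.2.2])
        · rw [Perm.notMem_support.1 (hsub ▸ hy)]
          have hy4 : 4 ≤ y.1 := by
            by_contra hlt'
            simp only [Finset.mem_insert, Finset.mem_singleton, not_or] at hy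
            have : y = 2 ∨ y = 3 := by
              rcases htab y (Nat.lt_of_not_le hlt') hy.1 hy.2.1 with ⟨e, -⟩ | ⟨e, -⟩ <;> simp [e]
            rcases hab with ⟨ea, eb⟩ | ⟨ea, eb⟩ <;> rcases this with e | e <;> simp [ea, eb, e] at hy
          exact (f4 y hy4).1.symm
      rw [hall, show u13 * u13 = 1 by decide +kernel] at hwu4
      simp [mv] at hwu4
    exact ⟨hq a ha ha4.1 ha4.2, hq b (by rw [hwb]; exact Ne.symm ha) hb01.1 hb01.2⟩
  have hab12 : d = false → a ≠ 12 ∧ b ≠ 12 := fun e => by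
    subst e
    have w12 : w 12 = 12 := hwM.2.resolve_left (by decide)
    exact ⟨fun ea => ha (by rw [hb, ea, w12]), fun eb => ha (eb.trans (w12.symm.trans ((congrArg w eb.symm).trans hwb)))⟩
  have hwform : w = swap 0 1 * swap a b := by
    refine Equiv.ext fun y => ?_
    by_cases hy : y ∈ ({0, 1, a, b} : Finset (Fin 13))
    · simp only [Finset.mem_insert, Finset.mem_singleton] at hy
      rcases hy with rfl | rfl | rfl | rfl
      · rw [Perm.mul_apply, swap_apply_of_ne_of_ne (Ne.symm ha4.1) (Ne.symm hb01.1), swap_apply_left, hv01]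
      · rw [Perm.mul_apply, swap_apply_of_ne_of_ne (Ne.symm ha4.2) (Ne.symm hb01.2), swap_apply_right, w1]
      · rw [Perm.mul_apply, swap_apply_left, swap_apply_of_ne_of_ne hb01.1 hb01.2]
      · rw [Perm.mul_apply, swap_apply_right, swap_apply_of_ne_of_ne ha4.1 ha4.2, hwb]
    · rw [Perm.notMem_support.1 (hsub ▸ hy)]
      simp only [Finset.mem_insert, Finset.mem_singleton, not_or] at hy
      rw [Perm.mul_apply, swap_apply_of_ne_of_ne hy.2.2.1 hy.2.2.2, swap_apply_of_ne_of_ne hy.1 hy.2.1]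
  -- move it to `4 5`
  obtain ⟨r, hrfix, hr12, hra, hrb⟩ : ∃ r : P13, (∀ y : Fin 13, y.1 < 4 → r y = y) ∧ (d = true ∨ r 12 = 12) ∧
      r a = 4 ∧ r b = 5 := by
    have hlow : ∀ {x y : Fin 13}, 4 ≤ x.1 → 4 ≤ y.1 → ∀ z : Fin 13, z.1 < 4 → swap x y z = z := fun hx hy z hz =>
      swap_apply_of_ne_of_ne (fun e => by rw [e] at hz; omega) (fun e => by rw [e] at hz; omega)
    have hb' : 4 ≤ (swap a 4 b).1 := by
      rcases eq_or_ne b 4 with e | e
      · rw [e, swap_apply_right]; exact hab4.1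
      · rw [swap_apply_of_ne_of_ne ha e]; exact hab4.2
    have hne : swap a 4 b ≠ 4 := fun e => ha (by
      have := (swap a 4).injective (e.trans (swap_apply_left a 4).symm)
      exact this)
    refine ⟨swap (swap a 4 b) 5 * swap a 4, fun y hy => ?_, ?_, ?_, ?_⟩
    · rw [Perm.mul_apply, hlow hab4.1 (by decide) y hy, hlow hb' (by decide) y hy]
    · rcases Bool.eq_false_or_eq_true d with e | e
      · exact .inl e
      · obtain ⟨ea, eb⟩ := hab12 e
        refine .inr ?_
        have e12 : swap a 4 (12 : Fin 13) = 12 := swap_apply_of_ne_of_ne (Ne.symm ea) (by decide)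
        rw [Perm.mul_apply, e12, swap_apply_of_ne_of_ne ?_ (by decide)]
        exact fun e' => eb ((swap a 4).injective (e'.symm.trans e12.symm))
    · rw [Perm.mul_apply, swap_apply_left, swap_apply_of_ne_of_ne (Ne.symm hne) (by decide)]
    · rw [Perm.mul_apply, swap_apply_left]
  have hconj : r * w * r⁻¹ = swap 0 1 * swap 4 5 := by
    rw [hwform, show r * (swap 0 1 * swap a b) * r⁻¹ = (r * swap 0 1 * r⁻¹) * (r * swap a b * r⁻¹) by group,
      ← swap_apply_apply, ← swap_apply_apply, hrfix 0 (by decide), hrfix 1 (by decide), hra, hrb]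
  have hru : r * u13 = u13 * r := by
    have e : r * u13 * r⁻¹ = u13 := by
      rw [show r * u13 * r⁻¹ = (r * swap 0 1 * r⁻¹) * (r * swap 2 3 * r⁻¹) by rw [u13]; group,
        ← swap_apply_apply, ← swap_apply_apply, hrfix 0 (by decide), hrfix 1 (by decide), hrfix 2 (by decide),
        hrfix 3 (by decide)]
      rfl
    exact mul_inv_eq_iff_eq_mul.1 e
  have t45 : swap (4 : Fin 13) 5 * u13 = u13 * swap 4 5 ∧ swap (4 : Fin 13) 5 12 = 12 ∧
      swap (4 : Fin 13) 5 * (swap 0 1 * swap 4 5) * (swap (4 : Fin 13) 5)⁻¹ = swap 0 1 * swap 4 5 ∧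
      Perm.sign (swap (4 : Fin 13) 5) = -1 := by decide +kernel
  obtain ⟨r', hs', h12', hu', hc'⟩ : ∃ r' : P13, Perm.sign r' = 1 ∧ (d = true ∨ r' 12 = 12) ∧ r' * u13 = u13 * r' ∧
      r' * w * r'⁻¹ = swap 0 1 * swap 4 5 := by
    rcases Int.units_eq_one_or (Perm.sign r) with hs | hs
    · exact ⟨r, hs, hr12, hru, hconj⟩
    · refine ⟨swap 4 5 * r, by rw [map_mul, hs, t45.2.2.2]; rfl, hr12.imp id fun e => by rw [Perm.mul_apply, e, t45.2.1],
        by rw [mul_assoc, hru, ← mul_assoc, t45.1, mul_assoc], ?_⟩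
      rw [show swap 4 5 * r * w * (swap 4 5 * r)⁻¹ = swap 4 5 * (r * w * r⁻¹) * (swap (4 : Fin 13) 5)⁻¹ by group, hconj]
      exact t45.2.2.1
  exact ⟨r' * π, mul_mem ⟨hs', h12'⟩ hπM, by rw [mul_assoc, hπu, ← mul_assoc, hu', mul_assoc],
    by rw [← hc', hw]; group⟩

end CfsgLib.TwelveCent
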