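import Cfsg.Agent.Lib.TwelveCent.Nine.Iso

/-!
The isomorphism to an alternating group can be chosen to extend the given one on the centraliser.
-/

set_option autoImplicit false
set_option linter.style.haveILetI false
set_option linter.unusedSectionVars false
set_option maxRecDepth 100000

namespace CfsgLib.TwelveCent

open Equiv CfsgLib.TwoFourSThree

/-- permutations of nine letters -/
abbrev P9 : Type := Equiv.Perm (Fin 9)

/-- the extension to nine letters -/
def up89 : P8 →* P9 where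
  toFun g :=
    ⟨fun i => if h : i.1 < 8 then (g ⟨i.1, h⟩).castLE (by norm_num) else i,
      fun i => if h : i.1 < 8 then (g.symm ⟨i.1, h⟩).castLE (by norm_num) else i,
      fun i => by
        by_cases h : i.1 < 8
        · simp [h]
        · simp [h],
      fun i => by
        by_cases h : i.1 < 8
        · simp [h]
        · simp [h]⟩
  map_one' := Equiv.ext fun i => by by_cases h : i.1 < 8 <;> simp [h]
  map_mul' g h := Equiv.ext fun i => by by_cases h' : i.1 < 8 <;> simp [h']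

theorem up89_apply (g : P8) (i : Fin 8) : up89 g (i.castLE (by norm_num)) = (g i).castLE (by norm_num) :=
  dif_pos i.2

theorem up89_eight (g : P8) : up89 g 8 = 8 := by
  show (if h : (8 : Fin 9).1 < 8 then (g ⟨(8 : Fin 9).1, h⟩).castLE (by norm_num) else (8 : Fin 9)) = _
  rw [dif_neg (by decide)]

theorem up89_inj : Function.Injective up89 := fun g h e => Equiv.ext fun i =>
  Fin.castLE_injective _ ((up89_apply g i).symm.trans ((DFunLike.congr_fun e _).trans (up89_apply h i)))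

theorem exists_up89 {g : P9} (h8 : g 8 = 8) : ∃ r : P8, up89 r = g := by
  have hlow : ∀ i : Fin 8, (g (i.castLE (by norm_num))).1 < 8 := fun i => by
    by_contra h
    have h' : g (i.castLE (by norm_num)) = 8 := Fin.ext (by have := (g (i.castLE (by norm_num))).2; show _ = 8; omega)
    have := congrArg Fin.val (g.injective (h'.trans h8.symm))
    change i.1 = 8 at this
    omega
  refine ⟨Equiv.ofBijective (fun i => (⟨_, hlow i⟩ : Fin 8)) (Finite.injective_iff_bijective.1 fun i j e =>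
    Fin.castLE_injective _ (g.injective (Fin.ext (congrArg Fin.val e :)))), Equiv.ext fun i => ?_⟩
  show (if h : i.1 < 8 then _ else _) = _
  split_ifs with hi
  · exact Fin.ext rfl
  · have : i = 8 := Fin.ext (by have := i.2; show _ = 8; omega)
    rw [this, h8]

theorem up89_swap : ∀ x y : Fin 8, x ≠ y →
    up89 (swap x y) = swap (x.castLE (show 8 ≤ 9 by norm_num)) (y.castLE (show 8 ≤ 9 by norm_num)) := by
  decide +kernel

theorem sign_up89 (g : P8) : Perm.sign (up89 g) = Perm.sign g := by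
  have : ((Perm.sign : P9 →* ℤˣ).comp up89) = Perm.sign := by
    refine MonoidHom.eq_of_eqOn_top (fun x _ => ?_)
    induction x using Equiv.Perm.swap_induction_on with
    | one => simp
    | swap_mul f x y hxy ih =>
      rw [map_mul, map_mul, ih trivial]
      congr 1
      have e := up89_swap x y hxy
      rw [MonoidHom.comp_apply, e, Perm.sign_swap (fun h => hxy (Fin.castLE_injective _ h)), Perm.sign_swap hxy]
  exact DFunLike.congr_fun this g

/-- even permutations of eight or nine letters -/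
def M9 (d : Bool) : Subgroup P9 where
  carrier := {g | Perm.sign g = 1 ∧ (d = true ∨ g 8 = 8)}
  one_mem' := ⟨map_one _, .inr rfl⟩
  mul_mem' := by
    rintro g h ⟨hg, hg'⟩ ⟨hh, hh'⟩
    refine ⟨by rw [map_mul, hg, hh, one_mul], ?_⟩
    rcases hg' with e | e
    · exact .inl e
    rcases hh' with e' | e'
    · exact .inl e'
    · exact .inr (by rw [Perm.mul_apply, e', e])
  inv_mem' := by
    rintro g ⟨hg, hg'⟩
    exact ⟨by rw [map_inv, hg, inv_one], hg'.imp id fun e => Perm.inv_eq_iff_eq.2 e.symm⟩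

theorem mem_M9 {d : Bool} {g : P9} : g ∈ M9 d ↔ Perm.sign g = 1 ∧ (d = true ∨ g 8 = 8) := Iff.rfl

theorem up89_M9 {d : Bool} {g : P8} (hg : Perm.sign g = 1) : up89 g ∈ M9 d :=
  ⟨(sign_up89 g).trans hg, .inr (up89_eight g)⟩

theorem M9_conj {d : Bool} {π g : P9} (hπ : d = true ∨ π 8 = 8) : π * g * π⁻¹ ∈ M9 d ↔ g ∈ M9 d := by
  have hs : Perm.sign (π * g * π⁻¹) = Perm.sign g := by rw [map_mul, map_mul, map_inv, mul_right_comm, mul_inv_cancel, one_mul]
  rw [mem_M9, mem_M9, hs]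
  refine and_congr_right fun _ => ?_
  rcases hπ with e | e
  · simp [e]
  · refine or_congr_right ?_
    rw [Perm.mul_apply, Perm.mul_apply, Perm.inv_eq_iff_eq.2 e.symm]
    exact ⟨fun h => π.injective (h.trans e.symm), fun h => by rw [h, e]⟩

theorem lC_comm : (lC.all fun g => eq8 (g * sP) (sP * g)) = true := by decide +kernel

theorem small_facts : (Perm.sign (up89 uP) = 1 ∧ Perm.sign (up89 sP) = 1 ∧ Perm.sign uP = 1 ∧ Perm.sign sP = 1) ∧
    (up89 uP * up89 uP = 1 ∧ up89 sP * up89 sP = 1 ∧ up89 uP ≠ 1 ∧ up89 sP ≠ 1) ∧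
    (∀ i : Fin 9, up89 sP i = i → i = 8) ∧ (Perm.sign vP = 1 ∧ vP * uP = uP * vP ∧ vP * vP = 1 ∧ vP ≠ 1 ∧ vP ≠ uP) := by
  decide +kernel

/-- `(456)` -/
def c456 : P8 := Equiv.swap 4 5 * Equiv.swap 5 6

theorem c456_facts : Perm.sign c456 = 1 ∧ c456 * c456 * c456 = 1 ∧ c456 ≠ 1 ∧ c456 * uP = uP * c456 ∧
    c456 * vP = vP * c456 := by decide +kernel

/-- involutions of eight letters without fixed points are conjugate to the central one -/
theorem free_conj {g : P8} (hg : Perm.sign g = 1) (h2 : g * g = 1) (hf : free8 g = true) :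
    ∃ k : P8, Perm.sign k = 1 ∧ k * g * k⁻¹ = sP := by
  obtain ⟨⟨-, -, hu, hs⟩, ⟨hu2, hs2, hu1, hs1⟩, -⟩ := small_facts
  let ga : Eight.A8 := ⟨g, Perm.mem_alternatingGroup.2 hg⟩
  let ua : Eight.A8 := ⟨uP, Perm.mem_alternatingGroup.2 hu⟩
  let sa : Eight.A8 := ⟨sP, Perm.mem_alternatingGroup.2 hs⟩
  have hg1 : g ≠ 1 := fun e => by simp [free8, e] at hf
  have fixed : ∀ {x y : Eight.A8}, IsConj x y → free8 x.1 = true → free8 y.1 = true := by
    intro x y h hx
    obtain ⟨k, rfl⟩ := isConj_iff.1 h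
    simp only [free8, List.all_eq_true, bne_iff_ne] at hx ⊢
    intro i _ e
    refine hx ((k.1).symm i) (List.mem_finRange _) ?_
    apply k.1.injective
    rw [Equiv.apply_symm_apply]
    exact e
  have hfs : free8 sP = true ∧ free8 uP ≠ true := by decide +kernel
  have hus : ¬ IsConj ua sa := fun h => hfs.2 (fixed h.symm hfs.1)
  rcases alt_invol_classes (α := Fin 8) (by simp) (a := ga) (b := ua) (c := sa) (Subtype.ext h2) (fun e => hg1 (congrArg Subtype.val e))
    (Subtype.ext (up89_inj (show up89 (uP * uP) = up89 1 by rw [map_mul, map_one]; exact hu2))) (fun e => hu1 (by rw [show uP = 1 from congrArg Subtype.val e, map_one]))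
    (Subtype.ext (up89_inj (show up89 (sP * sP) = up89 1 by rw [map_mul, map_one]; exact hs2))) (fun e => hs1 (by rw [show sP = 1 from congrArg Subtype.val e, map_one])) hus with h | h
  · exact absurd (fixed h hf) hfs.2
  · obtain ⟨k, hk⟩ := isConj_iff.1 h
    exact ⟨k.1, Perm.mem_alternatingGroup.1 k.2, congrArg Subtype.val hk⟩

/-- the other involutions of eight letters are conjugate to `(01)(23)` -/
theorem nfree_conj {g : P8} (hg : Perm.sign g = 1) (h2 : g * g = 1) (hg1 : g ≠ 1) (hf : free8 g = false) :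
    ∃ k : P8, Perm.sign k = 1 ∧ k * g * k⁻¹ = uP := by
  obtain ⟨⟨-, -, hu, hs⟩, ⟨hu2, hs2, hu1, hs1⟩, -⟩ := small_facts
  let ga : Eight.A8 := ⟨g, Perm.mem_alternatingGroup.2 hg⟩
  let ua : Eight.A8 := ⟨uP, Perm.mem_alternatingGroup.2 hu⟩
  let sa : Eight.A8 := ⟨sP, Perm.mem_alternatingGroup.2 hs⟩
  have fixed : ∀ {x y : Eight.A8}, IsConj x y → free8 x.1 = true → free8 y.1 = true := by
    intro x y h hx
    obtain ⟨k, rfl⟩ := isConj_iff.1 h
    simp only [free8, List.all_eq_true, bne_iff_ne] at hx ⊢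
    intro i _ e
    refine hx ((k.1).symm i) (List.mem_finRange _) ?_
    apply k.1.injective
    rw [Equiv.apply_symm_apply]
    exact e
  have hfs : free8 sP = true ∧ free8 uP ≠ true := by decide +kernel
  have hus : ¬ IsConj ua sa := fun h => hfs.2 (fixed h.symm hfs.1)
  rcases alt_invol_classes (α := Fin 8) (by simp) (a := ga) (b := ua) (c := sa) (Subtype.ext h2) (fun e => hg1 (congrArg Subtype.val e))
    (Subtype.ext (up89_inj (show up89 (uP * uP) = up89 1 by rw [map_mul, map_one]; exact hu2))) (fun e => hu1 (by rw [show uP = 1 from congrArg Subtype.val e, map_one]))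
    (Subtype.ext (up89_inj (show up89 (sP * sP) = up89 1 by rw [map_mul, map_one]; exact hs2))) (fun e => hs1 (by rw [show sP = 1 from congrArg Subtype.val e, map_one])) hus with h | h
  · obtain ⟨k, hk⟩ := isConj_iff.1 h
    exact ⟨k.1, Perm.mem_alternatingGroup.1 k.2, congrArg Subtype.val hk⟩
  · have := fixed h.symm hfs.1
    rw [show ga.1 = g from rfl, hf] at this
    exact Bool.false_ne_true this |>.elim

/-- the five elements generate -/
theorem T8_gen (K : Subgroup T8) (ks : ⟨sP, mem5.1⟩ ∈ K) (ku : ⟨uP, mem5.2.1⟩ ∈ K) (kv : ⟨vP, mem5.2.2.1⟩ ∈ K)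
    (kr : ⟨rP, mem5.2.2.2.1⟩ ∈ K) (kc : ⟨cP, mem5.2.2.2.2⟩ ∈ K) (t : T8) : t ∈ K := by
  have h := List.all_eq_true.1 gen8 t.1 (mem_lT t.2)
  simp only [List.any_eq_true, eq8_iff] at h
  obtain ⟨i, -, j, -, x, hx, y, hy, e⟩ := h
  have hA : ∀ x ∈ lA, ∃ k : T8, k ∈ K ∧ k.1 = x := by
    intro x hx
    obtain ⟨n, -, rfl⟩ := List.mem_map.1 hx
    refine ⟨⟨uP, mem5.2.1⟩ ^ (n % 2) * ⟨vP, mem5.2.2.1⟩ ^ (n / 2 % 2) * ⟨rP, mem5.2.2.2.1⟩ ^ (n / 4 % 2) *
      (⟨sP, mem5.1⟩ * ⟨uP, mem5.2.1⟩) ^ (n / 8 % 2), ?_, ?_⟩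
    · exact K.mul_mem (K.mul_mem (K.mul_mem (K.pow_mem ku _) (K.pow_mem kv _)) (K.pow_mem kr _))
        (K.pow_mem (K.mul_mem ks ku) _)
    · simp only [Subgroup.coe_mul, SubmonoidClass.coe_pow]
  obtain ⟨kx, hkx, ex⟩ := hA x hx
  obtain ⟨ky, hky, ey⟩ := hA y hy
  have et : t = kx * ⟨cP, mem5.2.2.2.2⟩ ^ i * (ky * ⟨cP, mem5.2.2.2.2⟩ ^ j) := Subtype.ext (by
    simp only [Subgroup.coe_mul, SubmonoidClass.coe_pow, ex, ey]
    exact e)
  rw [et]
  exact K.mul_mem (K.mul_mem hkx (K.pow_mem kc _)) (K.mul_mem hky (K.pow_mem kc _))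

variable {G : Type*} [Group G] {φ : X12 →* G}

theorem one_coset : ([8, 1, 2, 16, 9, 18].all fun x => Nat.blt x 64 && wt x == 1 &&
    [0, 4, 32, 36].all fun v => wt (24 ^^^ v) != 1) = true := by decide +kernel

namespace Nine

variable [Finite G] (Y : Nine φ)
include Y

theorem not_conj_one {x : ℕ} (hx : x ∈ [8, 1, 2, 16, 9, 18]) (hx' : x < 64) (q : Kc φ ⧸ Vc φ) :
    q * sb φ * q⁻¹ ≠ qt φ ⟨a φ x, a_Kc φ hx'⟩ := by
  intro e
  obtain ⟨k, rfl⟩ := QuotientGroup.mk'_surjective (Vc φ) q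
  change qt φ k * sb φ * (qt φ k)⁻¹ = _ at e
  rw [sb, ← map_inv, ← map_mul, ← map_mul, qt_eq] at e
  obtain ⟨v, hv, e⟩ := e
  change a φ x = (k : G) * a φ 24 * (k : G)⁻¹ * a φ v at e
  have e2 : (k : G) * a φ (24 ^^^ v) * (k : G)⁻¹ = a φ x := by
    rw [e, ← a_mul (by norm_num) (lt4 v hv)]
    have := Kc_comm φ k.2 hv
    calc (k : G) * (a φ 24 * a φ v) * (k : G)⁻¹ = (k : G) * a φ 24 * (k : G)⁻¹ * ((k : G) * a φ v * (k : G)⁻¹) := by group
      _ = _ := by rw [this, mul_inv_cancel_right]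
  have hw := Y.wt_of_isConj (xor_lt (by norm_num) (lt4 v hv)) hx' (isConj_iff.2 ⟨_, e2⟩)
  have t := List.all_eq_true.1 one_coset x hx
  simp only [Bool.and_eq_true, List.all_eq_true, beq_iff_eq, bne_iff_ne] at t
  exact t.2 v hv (hw.trans t.1.2)

set_option maxHeartbeats 1000000 in
/-- the normalised isomorphism -/
theorem exists_quot_hom : ∃ (d : Bool) (f : Kc φ ⧸ Vc φ →* P9), Function.Injective f ∧
    (∀ g, g ∈ f.range ↔ g ∈ M9 d) ∧ ∀ g : T8, f (nu φ g) = up89 g.1 := by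
  classical
  obtain ⟨d, f, hf, hr⟩ : ∃ (d : Bool) (f : Kc φ ⧸ Vc φ →* P9), Function.Injective f ∧
      ∀ g, g ∈ f.range ↔ g ∈ M9 d := by
    rcases Y.exists_iso with ⟨⟨e⟩⟩ | ⟨⟨e⟩⟩
    · refine ⟨false, up89.comp ((alternatingGroup (Fin 8)).subtype.comp e.toMonoidHom),
        up89_inj.comp (Subtype.val_injective.comp e.injective), fun g => ⟨?_, fun hg => ?_⟩⟩
      · rintro ⟨q, rfl⟩
        exact up89_M9 (Perm.mem_alternatingGroup.1 (e q).2)
      · obtain ⟨r, rfl⟩ := exists_up89 (hg.2.resolve_left (by decide))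
        refine ⟨e.symm ⟨r, Perm.mem_alternatingGroup.2 ((sign_up89 r).symm.trans hg.1)⟩, ?_⟩
        simp
    · refine ⟨true, (alternatingGroup (Fin 9)).subtype.comp e.toMonoidHom,
        Subtype.val_injective.comp e.injective, fun g => ⟨?_, fun hg => ?_⟩⟩
      · rintro ⟨q, rfl⟩
        exact ⟨Perm.mem_alternatingGroup.1 (e q).2, .inl rfl⟩
      · refine ⟨e.symm ⟨g, Perm.mem_alternatingGroup.2 hg.1⟩, ?_⟩
        simp
  set ν := nu φ
  have hcent : ∀ y ∈ M9 d, y * f (sb φ) = f (sb φ) * y → ∃ g : T8, f (ν g) = y := by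
    intro y hy hc
    obtain ⟨q, rfl⟩ := (hr y).2 hy
    rw [← map_mul, ← map_mul] at hc
    obtain ⟨g, rfl⟩ := Y.cent_nu (hf hc)
    exact ⟨g, rfl⟩
  obtain ⟨⟨hu, hs, hu', hs'⟩, ⟨hu2, hs2, hu1, hs1⟩, hsfix, hv, hvu, hv2, hv1, hvu'⟩ := small_facts
  -- the central element goes to the type without fixed points
  obtain ⟨hsb, -⟩ := (hr (f (sb φ))).1 ⟨_, rfl⟩
  let x : alternatingGroup (Fin 9) := ⟨f (sb φ), Perm.mem_alternatingGroup.2 hsb⟩
  let b : alternatingGroup (Fin 9) := ⟨up89 uP, Perm.mem_alternatingGroup.2 hu⟩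
  let c : alternatingGroup (Fin 9) := ⟨up89 sP, Perm.mem_alternatingGroup.2 hs⟩
  have hss : sb φ * sb φ = 1 ∧ sb φ ≠ 1 := by
    have h := gens_T8
    simp only [Bool.and_eq_true, List.all_cons, List.all_nil, and_true, and_assoc, eq8_iff, Bool.not_eq_true',
      ← Bool.not_eq_true] at h
    rw [← nu_sP φ, ← map_mul, ← map_one ν]
    exact ⟨congrArg ν (Subtype.ext h.2.2.2.2.2.2.2.2.2.1),
      fun e => h.2.2.2.2.2.2.2.2.2.2.1 (congrArg Subtype.val (Y.nu_inj e))⟩
  have hbc : ¬ IsConj b c := fun h => by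
    obtain ⟨k, hk⟩ := isConj_iff.1 h
    have hk' : (k : P9) * up89 uP * (k : P9)⁻¹ = up89 sP := congrArg Subtype.val hk
    have h4 : up89 uP 4 = 4 ∧ up89 uP 5 = 5 := by decide +kernel
    have e : ∀ i, up89 uP i = i → (k : P9) i = 8 := fun i hi => hsfix _ (by
      rw [← hk', Perm.mul_apply, Perm.mul_apply, show (k : P9)⁻¹ ((k : P9) i) = i from (k : P9).symm_apply_apply i, hi])
    exact absurd ((k : P9).injective ((e 4 h4.1).trans (e 5 h4.2).symm)) (by decide)
  have conj : ∀ (t : P9), t 8 = 8 → (∃ k : P9, k * f (sb φ) * k⁻¹ = t) →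
      ∃ π : P9, (d = true ∨ π 8 = 8) ∧ π * f (sb φ) * π⁻¹ = t := by
    intro t ht ⟨k, hk⟩
    by_cases hd : d = true
    · exact ⟨k, .inl hd, hk⟩
    have h8 : f (sb φ) 8 = 8 := ((hr _).1 ⟨_, rfl⟩).2.resolve_left hd
    set j := k⁻¹ 8 with hj
    have hj' : f (sb φ) j = j := by
      apply k.injective
      rw [← hk, Perm.mul_apply, Perm.mul_apply, ← hj] at ht
      rw [ht, hj]
      exact (k.apply_symm_apply 8).symm
    refine ⟨k * swap 8 j, .inr (by rw [Perm.mul_apply, swap_apply_left, hj]; exact k.apply_symm_apply 8), ?_⟩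
    rw [← hk, mul_inv_rev, swap_inv]
    have hc : swap 8 j * f (sb φ) * swap 8 j = f (sb φ) := by
      rw [mul_assoc, Equiv.mul_swap_eq_swap_mul, h8, hj', ← mul_assoc, swap_mul_self, one_mul]
    calc k * swap 8 j * f (sb φ) * (swap 8 j * k⁻¹) = k * (swap 8 j * f (sb φ) * swap 8 j) * k⁻¹ := by group
      _ = _ := by rw [hc]
  have hx2 : x * x = 1 := Subtype.ext (show f (sb φ) * f (sb φ) = 1 by rw [← map_mul, hss.1, map_one])
  have hx1 : x ≠ 1 := fun e => hss.2 (hf ((congrArg Subtype.val e).trans (map_one f).symm))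
  obtain ⟨π, hπ, hπs⟩ : ∃ π : P9, (d = true ∨ π 8 = 8) ∧ π * f (sb φ) * π⁻¹ = up89 sP := by
    rcases alt_invol_classes (by simp) hx2 hx1 (b := b) (c := c) (Subtype.ext hu2)
      (fun e => hu1 (congrArg Subtype.val e)) (Subtype.ext hs2) (fun e => hs1 (congrArg Subtype.val e)) hbc
      with h | h <;> obtain ⟨k, hk⟩ := isConj_iff.1 h
    · exfalso
      obtain ⟨π, hπ, e⟩ := conj _ (up89_eight uP) ⟨k.1, congrArg Subtype.val hk⟩
      obtain ⟨hc, hc3, hc1, hcu, hcv⟩ := c456_facts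
      have pre : ∀ g : P8, Perm.sign g = 1 → g * uP = uP * g → ∃ h : T8, f (ν h) = π⁻¹ * up89 g * π := by
        intro g hg hgu
        refine hcent _ ?_ ?_
        · rw [← M9_conj hπ, show π * (π⁻¹ * up89 g * π) * π⁻¹ = up89 g by group]
          exact up89_M9 hg
        · rw [show f (sb φ) = π⁻¹ * up89 uP * π by rw [← e]; group,
            show π⁻¹ * up89 g * π * (π⁻¹ * up89 uP * π) = π⁻¹ * (up89 g * up89 uP) * π by group,
            ← map_mul, hgu, map_mul]
          group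
      obtain ⟨v, hv'⟩ := pre vP hv hvu
      obtain ⟨w, hw⟩ := pre c456 hc hcu
      have inj : ∀ {g h : T8}, f (ν g) = f (ν h) → g = h := fun e => Y.nu_inj (hf e)
      have hvw : v * w = w * v := inj (by
        simp only [map_mul, hv', hw]
        rw [show π⁻¹ * up89 vP * π * (π⁻¹ * up89 c456 * π) = π⁻¹ * (up89 vP * up89 c456) * π by group,
          ← map_mul, ← hcv, map_mul]
        group)
      have hw3 : w * w * w = 1 := inj (by
        simp only [map_mul, hw, map_one]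
        rw [show π⁻¹ * up89 c456 * π * (π⁻¹ * up89 c456 * π) * (π⁻¹ * up89 c456 * π) =
          π⁻¹ * (up89 c456 * up89 c456 * up89 c456) * π by group, ← map_mul, ← map_mul, hc3, map_one]
        group)
      have hw1 : w ≠ 1 := fun h => hc1 (up89_inj (by
        rw [map_one]
        rw [h, map_one, map_one] at hw
        rw [show up89 c456 = π * (π⁻¹ * up89 c456 * π) * π⁻¹ by group, ← hw]
        group))
      have hv2' : v * v = 1 := inj (by
        simp only [map_mul, hv', map_one]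
        rw [show π⁻¹ * up89 vP * π * (π⁻¹ * up89 vP * π) = π⁻¹ * (up89 vP * up89 vP) * π by group, ← map_mul, hv2, map_one]
        group)
      have t := one_invol8
      simp only [List.all_eq_true, Bool.or_eq_true, eq8_iff, Bool.not_eq_true', ← Bool.not_eq_true] at t
      rcases t v.1 (mem_lT v.2) with ((h | h) | h) | h
      · rw [show v = 1 from Subtype.ext h, map_one, map_one] at hv'
        exact hv1 (up89_inj (by
          rw [map_one, show up89 vP = π * (π⁻¹ * up89 vP * π) * π⁻¹ by group, ← hv']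
          group))
      · rw [show v = ⟨sP, mem5.1⟩ from Subtype.ext h, nu_sP φ] at hv'
        rw [hv', show π * (π⁻¹ * up89 vP * π) * π⁻¹ = up89 vP by group] at e
        exact hvu' (up89_inj e)
      · exact h (congrArg Subtype.val hv2')
      · rcases h w.1 (mem_lT w.2) with (h' | h') | h'
        · exact hw1 (Subtype.ext h')
        · exact h' (congrArg Subtype.val hw3)
        · exact h' (congrArg Subtype.val hvw)
    · exact conj _ (up89_eight sP) ⟨k.1, congrArg Subtype.val hk⟩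
  -- the induced automorphism
  let f' : Kc φ ⧸ Vc φ →* P9 := (MulAut.conj π).toMonoidHom.comp f
  have hf' : Function.Injective f' := (MulAut.conj π).injective.comp hf
  have hr' : ∀ g, g ∈ f'.range ↔ g ∈ M9 d := fun g => by
    have h1 : g ∈ f'.range ↔ π⁻¹ * g * π ∈ f.range := by
      constructor
      · rintro ⟨q, rfl⟩
        exact ⟨q, by simp [f', mul_assoc]⟩
      · rintro ⟨q, e⟩
        exact ⟨q, by simp [f', e, mul_assoc]⟩
    rw [h1, hr, ← M9_conj hπ, show π * (π⁻¹ * g * π) * π⁻¹ = g by group]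
  have hs' : f' (sb φ) = up89 sP := hπs
  have h8 : ∀ g : T8, f' (ν g) 8 = 8 := fun g => hsfix _ (by
    have h : ν g * sb φ = sb φ * ν g := by
      rw [← nu_sP φ, ← map_mul, ← map_mul]
      exact congrArg ν (Subtype.ext (mem_T8.1 g.2).2)
    have := DFunLike.congr_fun (congrArg f' h) 8
    rw [map_mul, map_mul, hs', Perm.mul_apply, Perm.mul_apply, up89_eight] at this
    exact this.symm)
  choose r hrr using fun g : T8 => exists_up89 (h8 g)
  let ρ : T8 →* P8 := MonoidHom.mk' r fun g h => up89_inj (by simp only [map_mul, hrr])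
  have hρ : ∀ g : T8, up89 (ρ g) = f' (ν g) := hrr
  have hρi : Function.Injective ρ := fun g h e => Y.nu_inj (hf' (by rw [← hρ, ← hρ, e]))
  have hρs : ρ ⟨sP, mem5.1⟩ = sP := up89_inj (by rw [hρ, nu_sP φ, hs'])
  have hρT : ∀ g : T8, ρ g ∈ T8 := fun g => mem_T8.2 ⟨by
    rw [← sign_up89, hρ]; exact ((hr' _).1 ⟨_, rfl⟩).1, by
    rw [← hρs, ← map_mul, ← map_mul]
    exact congrArg ρ (Subtype.ext (mem_T8.1 g.2).2)⟩
  -- the two types are respected
  have qv : ∀ {x : ℕ} (hx : x < 64) {g : P8} (hg : g ∈ T8), av x = up8 g →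
      ν ⟨g, hg⟩ = qt φ ⟨a φ x, a_Kc φ hx⟩ := fun {x} hx {g} hg e =>
    congrArg (qt φ) (Subtype.ext (congrArg (em φ) e.symm))
  have two : ∀ {g : T8}, g * g = 1 → ρ g * ρ g = 1 := fun {g} e => by rw [← map_mul, e, map_one]
  have toW : ∀ {x : ℕ} (_ : x ∈ [8, 1, 2, 16, 9, 18]) (_ : x < 64) {g : P8} (hg : g ∈ T8), isW g = true →
      av x = up8 g → isW (ρ ⟨g, hg⟩) = true := by
    intro x hx hx' g hg hW e
    simp only [isW, Bool.and_eq_true, Bool.not_eq_true', ← Bool.not_eq_true, eq8_iff] at hW ⊢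
    obtain ⟨⟨h2, h1⟩, -⟩ := hW
    refine ⟨⟨two (Subtype.ext h2), fun h => h1 (congrArg Subtype.val (hρi (h.trans (map_one ρ).symm)))⟩, fun hfree => ?_⟩
    obtain ⟨k, hk, hk'⟩ := free_conj (mem_T8.1 (hρT ⟨g, hg⟩)).1 (two (Subtype.ext h2)) hfree
    obtain ⟨q, hq⟩ := (hr' _).2 (up89_M9 (d := d) hk)
    refine Y.not_conj_one hx hx' q⁻¹ (hf' ?_)
    rw [← qv hx' hg e, ← hρ, map_mul, map_mul, inv_inv, map_inv, hq, hs', ← hk', ← map_inv, ← map_mul, ← map_mul]
    congr 1
    group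
  have toS : ∀ {x : ℕ} (_ : x ∈ [24, 10, 26, 17, 3, 19, 25, 11, 27]) (hx' : x < 64) {g : P8} (hg : g ∈ T8),
      isS g = true → av x = up8 g → isS (ρ ⟨g, hg⟩) = true := by
    intro x hx hx' g hg hS e
    simp only [isS, Bool.and_eq_true, eq8_iff] at hS ⊢
    refine ⟨two (Subtype.ext hS.1), ?_⟩
    obtain ⟨q, hq⟩ := Y.conj_nine hx
    have e' : up89 (ρ ⟨g, hg⟩) = f' q * up89 sP * (f' q)⁻¹ := by
      rw [hρ, qv hx' hg e, ← hq, map_mul, map_mul, map_inv, hs']
    simp only [free8, List.all_eq_true, bne_iff_ne]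
    intro i _ hi
    have hfix : ∀ j : Fin 9, up89 (ρ ⟨g, hg⟩) j = j → j = f' q 8 := by
      intro j hj
      rw [e', Perm.mul_apply, Perm.mul_apply] at hj
      have := hsfix _ ((f' q).injective (hj.trans ((f' q).apply_symm_apply j).symm))
      exact ((f' q).apply_symm_apply j).symm.trans (congrArg (f' q) this)
    have h1 := hfix (i.castLE (by norm_num)) (by rw [up89_apply, hi])
    rw [← hfix 8 (up89_eight _)] at h1
    have := congrArg Fin.val h1
    change i.1 = 8 at this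
    omega
  obtain ⟨hsT, huT, hvT, hrT, hcT⟩ := mem5
  have ht := up8_table
  simp only [Bool.and_eq_true, same_iff] at ht
  obtain ⟨⟨⟨⟨⟨-, es⟩, eu⟩, ev⟩, er⟩, esu⟩ := ht
  have hG := gens_rel
  simp only [Bool.and_eq_true, eq8_iff] at hG
  obtain ⟨⟨⟨⟨⟨⟨⟨⟨⟨⟨⟨w1, w2⟩, w3⟩, w4⟩, w5⟩, w6⟩, w7⟩, w8⟩, w9⟩, cuv⟩, cur⟩, cvr⟩ := hG
  set p := ρ ⟨uP, huT⟩ with hp
  set q := ρ ⟨vP, hvT⟩ with hq
  set rr := ρ ⟨rP, hrT⟩ with hrr'
  set c := ρ ⟨cP, hcT⟩ with hc
  have c1 : p * q = q * p := by rw [hp, hq, ← map_mul, ← map_mul]; exact congrArg ρ (Subtype.ext cuv)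
  have c2 : p * rr = rr * p := by rw [hp, hrr', ← map_mul, ← map_mul]; exact congrArg ρ (Subtype.ext cur)
  have c3 : q * rr = rr * q := by rw [hq, hrr', ← map_mul, ← map_mul]; exact congrArg ρ (Subtype.ext cvr)
  have m : ∀ {g h : P8} (hg : g ∈ T8) (hh : h ∈ T8), ρ ⟨g, hg⟩ * ρ ⟨h, hh⟩ = ρ ⟨g * h, T8.mul_mem hg hh⟩ :=
    fun _ _ => (map_mul ρ _ _).symm
  have W1 : isW p = true := toW (x := 8) (by simp) (by norm_num) huT w1 eu.symm
  have W2 : isW q = true := toW (x := 1) (by simp) (by norm_num) hvT w2 ev.symm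
  have W3 : isW rr = true := toW (x := 2) (by simp) (by norm_num) hrT w3 er.symm
  have W4 : isW (sP * p) = true := by
    rw [← hρs, hp, m]
    exact toW (x := 16) (by simp) (by norm_num) _ w4 esu.symm
  have W5 : isW (p * q) = true := by
    rw [hp, hq, m]
    exact toW (x := 9) (by simp) (by norm_num) _ w5 (by rw [map_mul, eu, ev, av_mul] <;> first | rfl | norm_num)
  have W6 : isW (sP * p * rr) = true := by
    rw [← hρs, hp, hrr', m, m]
    exact toW (x := 18) (by simp) (by norm_num) _ w6 (by rw [map_mul, esu, er, av_mul] <;> first | rfl | norm_num)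
  have S1 : isS (p * rr) = true := by
    rw [hp, hrr', m]
    exact toS (x := 10) (by simp) (by norm_num) _ w7 (by rw [map_mul, eu, er, av_mul] <;> first | rfl | norm_num)
  have S2 : isS (q * rr) = true := by
    rw [hq, hrr', m]
    exact toS (x := 3) (by simp) (by norm_num) _ w8 (by rw [map_mul, ev, er, av_mul] <;> first | rfl | norm_num)
  have hC := gens_T8
  simp only [Bool.and_eq_true, List.all_cons, List.all_nil, and_true, and_assoc, eq8_iff, Bool.not_eq_true',
    ← Bool.not_eq_true] at hC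
  obtain ⟨-, -, -, -, -, hc3', hc1', -⟩ := hC
  have C1 : c * c * c = 1 := by
    rw [hc, ← map_mul, ← map_mul, ← map_one ρ]; exact congrArg ρ (Subtype.ext hc3')
  have C2 : c ≠ 1 := fun e => hc1' (congrArg Subtype.val (hρi (e.trans (map_one ρ).symm)))
  have C3 : c * q * (c * q) = 1 := by
    rw [hc, hq, ← map_mul, ← map_mul, ← map_one ρ]; exact congrArg ρ (Subtype.ext w9)
  have ha := aut8
  simp only [List.all_eq_true, List.mem_filter, and_imp] at ha
  have h1 := ha p (mem_lT (hρT _)) W1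
  rw [W4, Bool.not_true, Bool.false_or, List.all_eq_true] at h1
  have h2 := h1 q (List.mem_filter.2 ⟨mem_lT (hρT _), W2⟩)
  rw [eq8_iff.2 c1, W5, Bool.and_self, Bool.not_true, Bool.false_or, List.all_eq_true] at h2
  have h3 := h2 rr (List.mem_filter.2 ⟨mem_lT (hρT _), W3⟩)
  rw [eq8_iff.2 c2, eq8_iff.2 c3, W6, S1, S2, Bool.and_self, Bool.and_self, Bool.and_self, Bool.and_self,
    Bool.not_true, Bool.false_or, List.all_eq_true] at h3
  have h4 := h3 c (mem_lT (hρT _))
  have hnc : eq8 c 1 = false := by rw [← Bool.not_eq_true, eq8_iff]; exact C2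
  rw [eq8_iff.2 C1, eq8_iff.2 C3, hnc, Bool.not_false, Bool.and_self, Bool.and_self, Bool.not_true,
    Bool.false_or, List.any_eq_true] at h4
  obtain ⟨g, hgC, hg⟩ := h4
  simp only [Bool.and_eq_true, eq8_iff] at hg
  obtain ⟨⟨⟨gu, gv⟩, gr⟩, gc⟩ := hg
  -- generation
  have gen : ∀ t : T8, g * t.1 * g⁻¹ = ρ t := by
    let K : Subgroup T8 :=
      { carrier := {t | g * t.1 * g⁻¹ = ρ t}
        one_mem' := by simp
        mul_mem' := fun {s t} hs ht => by
          show g * (s.1 * t.1) * g⁻¹ = ρ (s * t)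
          rw [map_mul, ← (show g * s.1 * g⁻¹ = ρ s from hs), ← (show g * t.1 * g⁻¹ = ρ t from ht)]
          group
        inv_mem' := fun {s} hs => by
          show g * (s.1)⁻¹ * g⁻¹ = ρ s⁻¹
          rw [map_inv, ← (show g * s.1 * g⁻¹ = ρ s from hs)]
          group }
    have ku : (⟨uP, huT⟩ : T8) ∈ K := mul_inv_eq_iff_eq_mul.2 gu
    have kv : (⟨vP, hvT⟩ : T8) ∈ K := mul_inv_eq_iff_eq_mul.2 gv
    have kr : (⟨rP, hrT⟩ : T8) ∈ K := mul_inv_eq_iff_eq_mul.2 gr
    have kc : (⟨cP, hcT⟩ : T8) ∈ K := mul_inv_eq_iff_eq_mul.2 gc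
    have ks : (⟨sP, hsT⟩ : T8) ∈ K := by
      show g * sP * g⁻¹ = _
      rw [hρs, eq8_iff.1 (List.all_eq_true.1 lC_comm g hgC), mul_inv_cancel_right]
    exact fun t => T8_gen K ks ku kv kr kc t
  let σ : P9 := up89 g
  have hσ8 : d = true ∨ (σ⁻¹) 8 = 8 := .inr (Perm.inv_eq_iff_eq.2 (up89_eight g).symm)
  refine ⟨d, (MulAut.conj σ⁻¹).toMonoidHom.comp f', (MulAut.conj σ⁻¹).injective.comp hf', fun y => ?_, fun t => ?_⟩
  · have h1 : y ∈ ((MulAut.conj σ⁻¹).toMonoidHom.comp f').range ↔ σ * y * σ⁻¹ ∈ f'.range := by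
      constructor
      · rintro ⟨q, rfl⟩
        exact ⟨q, by simp [mul_assoc]⟩
      · rintro ⟨q, e⟩
        exact ⟨q, by simp [e, mul_assoc]⟩
    rw [h1, hr', ← M9_conj hσ8 (g := σ * y * σ⁻¹), show σ⁻¹ * (σ * y * σ⁻¹) * σ⁻¹⁻¹ = y by group]
  · show σ⁻¹ * f' (ν t) * σ⁻¹⁻¹ = _
    rw [← hρ, ← gen t, map_mul, map_mul, map_inv]
    show σ⁻¹ * (σ * up89 t.1 * σ⁻¹) * σ⁻¹⁻¹ = up89 t.1
    group

end Nine

end CfsgLib.TwelveCent
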