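import Cfsg.Agent.Lib.TwelveCent.Nine.Rot
import Cfsg.Agent.Lib.TwelveCent.Nine.Eight
import Cfsg.Agent.Lib.TwoFourSThree.Main

/-!
The centraliser of the last four-group modulo it is alternating of degree eight or nine.
-/

set_option autoImplicit false
set_option linter.style.haveILetI false
set_option linter.unusedSectionVars false
set_option maxRecDepth 100000

namespace CfsgLib.TwelveCent

open Equiv CfsgLib.TwoFourSThree

variable {G : Type*} [Group G] (φ : X12 →* G)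

/-- the centraliser of the last four-group -/
noncomputable def Kc : Subgroup G := Subgroup.centralizer ({a φ 4, a φ 32} : Set G)

theorem mem_Kc {g : G} : g ∈ Kc φ ↔ g * a φ 4 = a φ 4 * g ∧ g * a φ 32 = a φ 32 * g := by
  rw [Kc, Subgroup.mem_centralizer_iff]
  constructor
  · exact fun h => ⟨(h _ (by simp)).symm, (h _ (by simp)).symm⟩
  · rintro ⟨h1, h2⟩ x hx
    rcases hx with rfl | rfl
    exacts [h1.symm, h2.symm]

theorem lt4 : ∀ x ∈ [0, 4, 32, 36], x < 64 := by decide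

theorem Kc_comm {g : G} (hg : g ∈ Kc φ) {x : ℕ} (hx : x ∈ [0, 4, 32, 36]) : g * a φ x = a φ x * g := by
  obtain ⟨h1, h2⟩ := (mem_Kc φ).1 hg
  rcases List.mem_cons.1 hx with rfl | hx
  · rw [a_zero, mul_one, one_mul]
  rcases List.mem_cons.1 hx with rfl | hx
  · exact h1
  rcases List.mem_cons.1 hx with rfl | hx
  · exact h2
  obtain rfl := List.mem_singleton.1 hx
  have e : a φ 36 = a φ 4 * a φ 32 := by
    rw [a_mul (show 4 < 64 by norm_num) (show 32 < 64 by norm_num), show (4 : ℕ) ^^^ 32 = 36 from rfl]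
  rw [e, ← mul_assoc, h1, mul_assoc, h2, mul_assoc]

theorem a_Kc {x : ℕ} (hx : x < 64) : a φ x ∈ Kc φ :=
  (mem_Kc φ).2 ⟨a_comm hx (by norm_num), a_comm hx (by norm_num)⟩

/-- the last four-group inside it -/
noncomputable def Vc : Subgroup (Kc φ) where
  carrier := {g | ∃ x ∈ [0, 4, 32, 36], a φ x = g}
  one_mem' := ⟨0, by simp, a_zero⟩
  mul_mem' := by
    rintro g h ⟨x, hx, e⟩ ⟨y, hy, e'⟩
    have tab : ∀ x ∈ [0, 4, 32, 36], ∀ y ∈ [0, 4, 32, 36], x < 64 ∧ y < 64 ∧ x ^^^ y ∈ [0, 4, 32, 36] := by decide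
    obtain ⟨hx', hy', h'⟩ := tab x hx y hy
    exact ⟨_, h', by rw [← a_mul hx' hy', e, e']; rfl⟩
  inv_mem' := by
    rintro g ⟨x, hx, e⟩
    have hx' : x < 64 := lt4 x hx
    exact ⟨x, hx, by rw [Subgroup.coe_inv, ← e, inv_eq_of_mul_eq_one_left (a_sq hx')]⟩

theorem mem_Vc {g : Kc φ} : g ∈ Vc φ ↔ ∃ x ∈ [0, 4, 32, 36], a φ x = g := Iff.rfl

theorem Vc_central {v : Kc φ} (hv : v ∈ Vc φ) (g : Kc φ) : g * v = v * g := by
  obtain ⟨x, hx, e⟩ := hv
  refine Subtype.ext ?_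
  show (g : G) * v = v * g
  rw [← e]
  exact Kc_comm φ g.2 hx

instance Vc_normal : (Vc φ).Normal :=
  ⟨fun v hv g => by rw [Vc_central φ hv g, mul_inv_cancel_right]; exact hv⟩

/-- the projection -/
noncomputable def qt : Kc φ →* Kc φ ⧸ Vc φ := QuotientGroup.mk' (Vc φ)

theorem up8_comm_table : (lT.all fun g => same (up8 g * av 4) (av 4 * up8 g) &&
    same (up8 g * av 32) (av 32 * up8 g)) = true := by decide +kernel

theorem up8_mem {g : P8} (hg : g ∈ T8) : up8 g ∈ X12 := by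
  have h := up8_table
  simp only [Bool.and_eq_true, List.all_eq_true, beq_iff_eq] at h
  exact inX_iff.1 ((h.1.1.1.1.1 g (mem_lC (mem_T8.1 hg).2)).trans (inT_iff.2 hg))

theorem up8_Kc {g : P8} (hg : g ∈ T8) : em φ (up8 g) ∈ Kc φ := by
  have h := List.all_eq_true.1 up8_comm_table g (mem_lT hg)
  rw [Bool.and_eq_true, same_iff, same_iff] at h
  refine (mem_Kc φ).2 ⟨?_, ?_⟩ <;> rw [a, ← em_mul φ (up8_mem hg) (av_mem (by norm_num)),
    ← em_mul φ (av_mem (by norm_num)) (up8_mem hg)]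
  exacts [congrArg _ h.1, congrArg _ h.2]

/-- the centraliser in degree eight inside it -/
noncomputable def eight : T8 →* Kc φ where
  toFun g := ⟨em φ (up8 g.1), up8_Kc φ g.2⟩
  map_one' := Subtype.ext (by simp only [OneMemClass.coe_one, map_one, em_one])
  map_mul' g h := Subtype.ext (by
    simp only [Subgroup.coe_mul, map_mul]
    exact em_mul φ (up8_mem g.2) (up8_mem h.2))

/-- its image in the quotient -/
noncomputable def nu : T8 →* Kc φ ⧸ Vc φ := (qt φ).comp (eight φ)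

/-- the five elements -/
theorem mem5 : sP ∈ T8 ∧ uP ∈ T8 ∧ vP ∈ T8 ∧ rP ∈ T8 ∧ cP ∈ T8 := by
  have h := gens_T8
  simp only [Bool.and_eq_true, List.all_cons, List.all_nil, and_true, and_assoc] at h
  obtain ⟨h1, h2, h3, h4, h5, -⟩ := h
  exact ⟨inT_iff.1 h1, inT_iff.1 h2, inT_iff.1 h3, inT_iff.1 h4, inT_iff.1 h5⟩

/-- the image of the central element -/
noncomputable def sb : Kc φ ⧸ Vc φ := qt φ ⟨a φ 24, a_Kc φ (by norm_num)⟩

theorem nu_sP : nu φ ⟨sP, mem5.1⟩ = sb φ := by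
  have h := up8_table
  simp only [Bool.and_eq_true, same_iff] at h
  exact congrArg (qt φ) (Subtype.ext (show em φ (up8 sP) = a φ 24 by rw [h.1.1.1.1.2]; rfl))

variable {φ}

theorem qt_eq {g h : Kc φ} : qt φ g = qt φ h ↔ ∃ x ∈ [0, 4, 32, 36], (h : G) = g * a φ x := by
  rw [qt, QuotientGroup.mk'_eq_mk']
  constructor
  · rintro ⟨z, ⟨x, hx, e⟩, rfl⟩
    exact ⟨x, hx, by rw [e]; rfl⟩
  · rintro ⟨x, hx, e⟩
    refine ⟨⟨a φ x, ?_⟩, ⟨x, hx, rfl⟩, Subtype.ext e.symm⟩
    exact a_Kc φ (lt4 x hx)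

theorem weight_cosets : ([0, 4, 32, 36].all fun v => v == 0 || wt (24 ^^^ v) == 3) = true := by decide +kernel

namespace Nine

variable [Finite G] (Y : Nine φ)
include Y

theorem nu_inj : Function.Injective (nu φ) := by
  refine (injective_iff_map_eq_one _).2 fun g hg => ?_
  rw [nu, MonoidHom.comp_apply, qt, QuotientGroup.mk'_apply, QuotientGroup.eq_one_iff] at hg
  obtain ⟨x, hx, e⟩ := hg
  have hx' : x < 64 := lt4 x hx
  have e' : av x = up8 g.1 := Y.std.em_inj (av_mem hx') (up8_mem g.2) e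
  have h8 : ∀ x ∈ [0, 4, 32, 36], av x 8 = 8 → x = 0 := by decide +kernel
  have hx0 := h8 x hx (by rw [e']; rfl)
  refine Subtype.ext (Equiv.ext fun i => ?_)
  have h := DFunLike.congr_fun e' (i.castLE (by norm_num))
  rw [hx0, av_zero, Perm.one_apply] at h
  have hi : up8 g.1 (i.castLE (by norm_num)) = (g.1 i).castLE (by norm_num) := by
    show (if h : (i.castLE _ : Fin 12).1 < 8 then _ else _) = _
    rw [dif_pos (show (i.castLE _ : Fin 12).1 < 8 from i.2)]
    rfl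
  rw [hi] at h
  exact (Fin.castLE_injective _ h).symm

/-- the centraliser of the central element in the quotient -/
theorem cent_nu {q : Kc φ ⧸ Vc φ} (hq : q * sb φ = sb φ * q) : q ∈ (nu φ).range := by
  obtain ⟨k, rfl⟩ := QuotientGroup.mk'_surjective (Vc φ) q
  change qt φ k * sb φ = sb φ * qt φ k at hq
  rw [sb, ← map_mul, ← map_mul, qt_eq] at hq
  obtain ⟨x, hx, e⟩ := hq
  change a φ 24 * (k : G) = (k : G) * a φ 24 * a φ x at e
  have hx' : x < 64 := lt4 x hx
  have e2 : (k : G) * a φ (24 ^^^ x) * (k : G)⁻¹ = a φ 24 := by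
    rw [← a_mul (by norm_num) hx', mul_inv_eq_iff_eq_mul, ← mul_assoc]
    exact e.symm
  have hw := Y.wt_of_isConj (xor_lt (by norm_num) hx') (by norm_num) (isConj_iff.2 ⟨_, e2⟩)
  have hv := List.all_eq_true.1 weight_cosets x hx
  rw [Bool.or_eq_true, beq_iff_eq, beq_iff_eq] at hv
  have hx0 : x = 0 := by
    refine hv.resolve_right fun h => ?_
    rw [h] at hw
    exact absurd hw (by decide +kernel)
  subst hx0
  rw [a_zero, mul_one] at e
  obtain ⟨hk1, hk2⟩ := (mem_Kc φ).1 k.2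
  obtain ⟨g, hg, hgk⟩ := Y.std.cent k (by
    rw [← a_alp, show (56 : ℕ) = 24 ^^^ 32 from rfl, ← a_mul (by norm_num) (by norm_num), ← mul_assoc, ← e,
      mul_assoc, hk2, mul_assoc])
  have hc : ∀ v : ℕ, v < 64 → (k : G) * a φ v = a φ v * (k : G) → g * av v = av v * g := by
    intro v hv h
    refine Y.std.em_inj (mul_mem hg (av_mem hv)) (mul_mem (av_mem hv) hg) ?_
    rw [em_mul φ hg (av_mem hv), em_mul φ (av_mem hv) hg, hgk]
    exact h
  have h4 := hc 4 (by norm_num) hk1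
  have h32 := hc 32 (by norm_num) hk2
  have hmoved : ∀ i : Fin 12, av 4 i ≠ i → ∃ v ∈ [0, 4, 32, 36], av v i = 8 := by decide +kernel
  obtain ⟨v, hv, hv8⟩ := hmoved (g 8) (fun h => by
    have e := DFunLike.congr_fun h4 8
    simp only [Perm.mul_apply, h] at e
    exact (by decide +kernel : av 4 (8 : Fin 12) ≠ 8) (g.injective e))
  have hv' : v < 64 := lt4 v hv
  set h := av v * g with hh
  have hX : h ∈ X12 := mul_mem (av_mem hv') hg
  have hc4 : ∀ j, h (av 4 j) = av 4 (h j) := fun j => by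
    have e1 := DFunLike.congr_fun h4 j
    have e2 := DFunLike.congr_fun (av_comm hv' (show 4 < 64 by norm_num)) (g j)
    simp only [hh, Perm.mul_apply] at e1 e2 ⊢
    rw [e1, e2]
  have hc32 : ∀ j, h (av 32 j) = av 32 (h j) := fun j => by
    have e1 := DFunLike.congr_fun h32 j
    have e2 := DFunLike.congr_fun (av_comm hv' (show 32 < 64 by norm_num)) (g j)
    simp only [hh, Perm.mul_apply] at e1 e2 ⊢
    rw [e1, e2]
  have h8 : h 8 = 8 := hv8
  have hp : av 4 (8 : Fin 12) = 10 ∧ av 32 (8 : Fin 12) = 9 ∧ av 32 (10 : Fin 12) = 11 := by decide +kernel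
  have h10 : h 10 = 10 := by rw [← hp.1, hc4, h8]
  have h9 : h 9 = 9 := by rw [← hp.2.1, hc32, h8]
  have h11 : h 11 = 11 := by rw [← hp.2.2, hc32, h10]
  have hlow : ∀ i : Fin 12, i.1 < 8 → (h i).1 < 8 := by
    intro i hi
    have hcases : ∀ j : Fin 12, j.1 < 8 ∨ j = 8 ∨ j = 9 ∨ j = 10 ∨ j = 11 := by decide
    rcases hcases (h i) with e' | e' | e' | e' | e'
    · exact e'
    all_goals
      exfalso
      first
        | have := h.injective (e'.trans h8.symm)
        | have := h.injective (e'.trans h9.symm)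
        | have := h.injective (e'.trans h10.symm)
        | have := h.injective (e'.trans h11.symm)
      subst this
      simp at hi
  let r : P8 := Equiv.ofBijective (fun i : Fin 8 => (⟨(h (i.castLE (by norm_num))).1, hlow _ i.2⟩ : Fin 8))
    (Finite.injective_iff_bijective.1 fun i j e' => Fin.castLE_injective _ (h.injective (Fin.ext (congrArg Fin.val e' :))))
  have hup : up8 r = h := by
    refine Equiv.ext fun i => ?_
    show (if h' : i.1 < 8 then _ else _) = _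
    split_ifs with hi
    · exact Fin.ext rfl
    · have hcases : i = 8 ∨ i = 9 ∨ i = 10 ∨ i = 11 := by
        have : ∀ j : Fin 12, j.1 < 8 ∨ j = 8 ∨ j = 9 ∨ j = 10 ∨ j = 11 := by decide
        exact (this i).resolve_left hi
      rcases hcases with rfl | rfl | rfl | rfl
      exacts [h8.symm, h9.symm, h10.symm, h11.symm]
  have hr : r * sP = sP * r := by
    refine Equiv.ext fun i => Fin.castLE_injective (show 8 ≤ 12 by norm_num) ?_
    have hs : ∀ j : Fin 8, ((sP j).castLE (show 8 ≤ 12 by norm_num)) = alp (j.castLE (by norm_num)) := by decide +kernel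
    show ((r (sP i)).castLE _ : Fin 12) = (sP (r i)).castLE _
    rw [hs]
    have e' : ∀ j, ((r j).castLE (show 8 ≤ 12 by norm_num) : Fin 12) = h (j.castLE (by norm_num)) := fun j => Fin.ext rfl
    rw [e', e', hs]
    exact DFunLike.congr_fun (mem_X12.1 hX).2 _
  have hrT : r ∈ T8 := by
    have ht := up8_table
    simp only [Bool.and_eq_true, List.all_eq_true, beq_iff_eq] at ht
    exact inT_iff.1 ((ht.1.1.1.1.1 r (mem_lC hr)).symm.trans (inX_iff.2 (hup ▸ hX)))
  refine ⟨⟨r, hrT⟩, ?_⟩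
  refine qt_eq.2 ⟨v, hv, ?_⟩
  show (k : G) = em φ (up8 r) * a φ v
  rw [hup, hh, em_mul φ (av_mem hv') hg, hgk, mul_assoc, Kc_comm φ k.2 hv, ← mul_assoc]
  show (k : G) = a φ v * a φ v * (k : G)
  rw [a_sq hv', one_mul]

theorem exists_turns : ∃ g₁ g₂ : Kc φ, Acts φ (g₁ : G) rot ∧ Acts φ (g₂ : G) (g4 2 ∘ rot ∘ g4 2) := by
  obtain ⟨h, hh⟩ := Y.exists_rot
  have h2 := ((acts_g4 (φ := φ) (i := 2) (by norm_num)).mul hh).mul (acts_g4 (φ := φ) (i := 2) (by norm_num))
  have mem : ∀ {g : G} {σ : ℕ → ℕ}, Acts φ g σ → σ 4 = 4 → σ 32 = 32 → g ∈ Kc φ := fun {g σ} hg e1 e2 =>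
    (mem_Kc φ).2 ⟨mul_inv_eq_iff_eq_mul.1 (by rw [(hg 4 (by norm_num)).2, e1]),
      mul_inv_eq_iff_eq_mul.1 (by rw [(hg 32 (by norm_num)).2, e2])⟩
  exact ⟨⟨h, mem hh (by decide +kernel) (by decide +kernel)⟩,
    ⟨_, mem h2 (by decide +kernel) (by decide +kernel)⟩, hh, h2⟩

/-- the nine elements over two quads are conjugate in the quotient -/
theorem conj_nine {x : ℕ} (hx : x ∈ [24, 10, 26, 17, 3, 19, 25, 11, 27]) :
    ∃ q, q * sb φ * q⁻¹ = qt φ ⟨a φ x, a_Kc φ (by revert x; decide)⟩ := by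
  obtain ⟨g₁, g₂, h1, h2⟩ := Y.exists_turns
  have tab : ∀ x ∈ [24, 10, 26, 17, 3, 19, 25, 11, 27], ∃ i : Fin 3, ∃ j : Fin 3,
      rot^[i.1] ((g4 2 ∘ rot ∘ g4 2)^[j.1] 24) = x := by decide +kernel
  obtain ⟨i, j, e⟩ := tab x hx
  have pw : ∀ {g : G} {σ : ℕ → ℕ}, Acts φ g σ → ∀ n : ℕ, Acts φ (g ^ n) (σ^[n]) := by
    intro g σ hg n
    induction n with
    | zero => exact fun y hy => ⟨hy, by simp⟩
    | succ n ih => rw [pow_succ', Function.iterate_succ']; exact hg.mul ih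
  refine ⟨qt φ (g₁ ^ i.1 * g₂ ^ j.1), ?_⟩
  rw [sb, ← map_inv, ← map_mul, ← map_mul]
  refine congrArg (qt φ) (Subtype.ext ?_)
  show ((g₁ : G) ^ i.1 * (g₂ : G) ^ j.1) * a φ 24 * ((g₁ : G) ^ i.1 * (g₂ : G) ^ j.1)⁻¹ = a φ x
  rw [(((pw h1 i.1).mul (pw h2 j.1)) 24 (by norm_num)).2]
  exact congrArg (a φ) e

end Nine

end CfsgLib.TwelveCent
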