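import Cfsg.Agent.Lib.TwelveCent.Nine.Amal

/-!
The relations between the cycles on the second and on the third quad.
-/

set_option autoImplicit false
set_option linter.style.haveILetI false
set_option linter.unusedSectionVars false
set_option maxRecDepth 100000

namespace CfsgLib.TwelveCent

open Equiv

/-- the letters outside the second quad -/
def pts5 : List (Fin 9) := [0, 1, 2, 3, 8]

/-- `(01 p)` on eight letters -/
def c8 : P8 := swap 1 0 * swap 0 2

theorem five_unique : (pts5.all fun a => ([1, 2, 3, 8] : List (Fin 9)).all fun b => ([2, 3, 8] : List (Fin 9)).all fun c =>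
    ([3, 8] : List (Fin 9)).all fun e =>
    let m := swap 0 a * swap 1 b * swap 2 c * swap 3 e
    !(eq9 (m * m * m) 1 && !eq9 m 1 && eq9 (c9 2 * m * (c9 2 * m)) 1 && eq9 (c9 3 * m * (c9 3 * m)) 1) ||
      eq9 m (c9 8)) = true := by decide +kernel

theorem nine_facts₂ : (eq9 (c9 3) (up89 uP * c9 2 * up89 uP)⁻¹ && eq9 (c9 8 * up89 rP) (up89 rP * c9 8) &&
    eq9 (c9 8 * up89 (sP * uP)) (up89 (sP * uP) * c9 8) && eq9 (c9 8 * c9 8 * c9 8) 1 && !eq9 (c9 8) 1 &&
    eq9 (c9 2 * c9 8 * (c9 2 * c9 8)) 1 && eq9 (c9 3 * c9 8 * (c9 3 * c9 8)) 1 &&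
    eq9 (d9 * c9 2) (c9 2 * d9) && eq9 (d9 * up89 uP) (up89 uP * d9) &&
    eq9 (up89 qP * d9 * up89 qP) (up89 vP * c9 2 * up89 vP) && eq9 (up89 gP * c9 4 * up89 gP) d9 &&
    eq9 (d9 * (up89 hP * d9 * up89 hP) * (d9 * (up89 hP * d9 * up89 hP))) 1) = true := by decide +kernel

theorem fixed_facts : (∀ i : Fin 9, up89 rP i = i ∧ up89 (sP * uP) i = i → i ∈ pts5) ∧
    (∀ i : Fin 9, i ∈ pts5 ∨ ∃ t ∈ [1, rP, sP * uP, rP * (sP * uP)], up89 t 4 = i) ∧
    ∀ i ∈ pts5, up89 rP i = i ∧ up89 (sP * uP) i = i := by decide +kernel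

theorem one_not_pts5 : (1 : P9) 4 ∉ pts5 := by decide +kernel

theorem trans_cube (t : P8) (ht : t ∈ [1, rP, sP * uP, rP * (sP * uP)]) :
    up89 t (up89 t (up89 t 4)) = up89 t 4 := by
  have h : ([1, rP, sP * uP, rP * (sP * uP)].all fun t => up89 t (up89 t (up89 t 4)) == up89 t 4) = true := by
    decide +kernel
  exact beq_iff_eq.1 (List.all_eq_true.1 h t ht)

/-- a permutation of order three agreeing at a letter with an involution commuting with it fixes the letter -/
theorem fix_of_cube {α : Type*} {m : Equiv.Perm α} {f : α → α} {x : α} (h : m * m * m = 1)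
    (hf : ∀ i, m (f i) = f (m i)) (hx : f x = m x) (h3 : f (f (f x)) = f x) : m x = x := by
  have e : m (m (m x)) = x := DFunLike.congr_fun h x
  rw [← hx, hf, ← hx, hf, hf, ← hx, h3] at e
  rw [← hx, e]

theorem d9_turns : ([d9, d9⁻¹].all fun e => [rP, sP * uP].all fun x =>
    [rP, sP * uP, rP * (sP * uP)].any fun y => eq9 (e * up89 x * e⁻¹) (up89 y)) = true := by decide +kernel

theorem swap_facts : (same (qBC * up8 uP) (up8 uP * qBC) && same (qBC * up8 vP) (up8 vP * qBC) &&
    same (qBC * qAB * qBC) (qAB * qBC * qAB) &&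
    same (up8 gP * qBC * up8 gP) (swap 4 8 * swap 5 9 * (qBC * up8 gP * qBC)) &&
    same (qAB * qBC * qAB * up8 hP * (qAB * qBC * qAB)) (swap 4 8 * swap 5 9) &&
    inX (swap 4 8 * swap 5 9)) = true := by decide +kernel

theorem theta_unique : (lT.all fun t => !(isW t && eq8 ((t * c8) ^ 5) 1 && eq8 ((t * c8 * qP) ^ 15) 1) || eq8 t gP) = true ∧
    (eq8 ((gP * c8) ^ 5) 1 && eq8 ((gP * c8 * qP) ^ 15) 1 && eq8 (gP * gP) 1 && !eq8 gP 1 && isW gP) = true ∧
    eq9 (up89 c8) (c9 2) = true := by decide +kernel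

theorem gP_conj : ∃ k : P8, Perm.sign k = 1 ∧ k * uP = gP * k := by
  have h : ([swap 1 6 * swap 3 7 * swap 2 6, swap 1 6 * swap 3 7 * swap 2 6 * swap 4 5,
      swap 1 6 * swap 2 1 * swap 3 7, swap 1 6 * swap 2 1 * swap 3 7 * swap 4 5,
      swap 2 1 * swap 1 6 * swap 3 7, swap 2 1 * swap 1 6 * swap 3 7 * swap 4 5].any fun k =>
      decide (Perm.sign k = 1) && eq8 (k * uP) (gP * k)) = true := by decide +kernel
  obtain ⟨k, -, hk⟩ := List.any_eq_true.1 h
  rw [Bool.and_eq_true, decide_eq_true_eq, eq8_iff] at hk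
  exact ⟨k, hk.1, hk.2⟩

theorem coset_one : ([0, 4, 32, 36].all fun v => wt (24 ^^^ v) != 1 && (v == 0 || wt (8 ^^^ v) != 1)) = true := by
  decide +kernel

theorem into_third : ([4, 32].all fun v => [2, 16].contains (pC v)) = true ∧
    ([0, 2, 16, 18].all fun v => [0, 4, 32, 36].contains (pC v)) = true ∧ pC 24 = 40 := by decide +kernel

theorem moves_four : ∀ p : Fin 9, 4 ≤ p.1 → p.1 ≤ 7 → ∃ v ∈ [0, 2, 16, 18],
    eq9 (up89 (ab v) * c9 4 * up89 (ab v)) (c9 p) = true := by decide +kernel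

theorem ab_values : (eq8 (ab 8) uP && eq8 (ab 2) rP && eq8 (ab 16) (sP * uP) && eq8 (ab 18) (rP * (sP * uP))) = true := by
  decide +kernel

variable {G : Type*} [Group G] {φ : X12 →* G}

namespace Lifted

variable [Finite G] {d : Bool} {ψ : M9 d →* G} (L : Lifted φ d ψ)
include L

theorem pe_ab {x : ℕ} (hx : x < 64) (h : x &&& 36 = 0) : pe ψ (up89 (ab x)) = a φ x := by
  rw [L.pe_a hx, h, a_zero, mul_one]

theorem ab_mem {x : ℕ} (hx : x < 64) : up89 (ab x) ∈ M9 d := by
  have t := List.all_eq_true.1 ab_table x (List.mem_range.2 hx)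
  simp only [Bool.and_eq_true] at t
  exact up89_M9 (mem_T8.1 (inT_iff.1 t.1.1.1.1)).1

omit L in
theorem w_a {x : ℕ} (hx : x < 64) : pC x < 64 ∧ em φ qBC * a φ x * em φ qBC = a φ (pC x) := by
  obtain ⟨h1, h2⟩ := acts_g4 (φ := φ) (i := 3) (by norm_num) x hx
  refine ⟨h1, ?_⟩
  rw [inv_eq_of_mul_eq_one_left (show em φ (g4P 3) * em φ (g4P 3) = 1 from qBC_sq)] at h2
  exact h2

omit L in
theorem w_conj {x : G} (h : em φ qBC * x = x * em φ qBC) : em φ qBC * x * em φ qBC = x := by
  rw [h, mul_assoc, qBC_sq, mul_one]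

theorem w_up {g : P8} (hg : g ∈ T8) (h : qBC * up8 g = up8 g * qBC) :
    em φ qBC * pe ψ (up89 g) = pe ψ (up89 g) * em φ qBC := by
  rw [L.pe_up hg, ← em_mul φ (show qBC ∈ X12 from g4P_mem 3) (up8_mem hg), h,
    em_mul φ (up8_mem hg) (show qBC ∈ X12 from g4P_mem 3)]

theorem w_c3 : em φ qBC * pe ψ (c9 3) = pe ψ (c9 3) * em φ qBC := by
  have h := nine_facts₂
  simp only [Bool.and_eq_true, eq9_iff, and_assoc] at h
  have hu := swap_facts
  simp only [Bool.and_eq_true, same_iff, and_assoc] at hu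
  have hc := L.c9_mem (p := 2) (by decide) (by decide) (.inr (by decide))
  have hm : up89 uP ∈ M9 d := up89_M9 (mem_T8.1 mem5.2.1).1
  rw [h.1, L.pe_inv (mul_mem (mul_mem hm hc) hm), L.pe_mul (mul_mem hm hc) hm, L.pe_mul hm hc]
  have C1 : Commute (em φ qBC) (pe ψ (up89 uP)) := L.w_up mem5.2.1 hu.1
  exact ((C1.mul_right L.w_c2).mul_right C1).inv_right.eq

theorem mem_Kc_of_w {x : G} (h : ∀ v ∈ [2, 16], x * a φ v = a φ v * x) : em φ qBC * x * em φ qBC ∈ Kc φ := by
  have key : ∀ v ∈ [4, 32], em φ qBC * x * em φ qBC * a φ v = a φ v * (em φ qBC * x * em φ qBC) := by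
    intro v hv
    have hv' : v < 64 := (by decide : ∀ u ∈ [4, 32], u < 64) v hv
    obtain ⟨-, e⟩ := w_a (φ := φ) hv'
    have hm := h (pC v) (by simpa using List.all_eq_true.1 into_third.1 v hv)
    have hq := qBC_sq (φ := φ)
    calc em φ qBC * x * em φ qBC * a φ v
        = em φ qBC * x * (em φ qBC * a φ v * em φ qBC) * em φ qBC := by
          rw [show em φ qBC * x * (em φ qBC * a φ v * em φ qBC) * em φ qBC =
            em φ qBC * x * em φ qBC * a φ v * (em φ qBC * em φ qBC) by group, hq, mul_one]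
      _ = em φ qBC * (a φ (pC v) * x) * em φ qBC := by rw [e, mul_assoc _ x, hm]
      _ = em φ qBC * em φ qBC * a φ v * (em φ qBC * x * em φ qBC) := by rw [← e]; group
      _ = _ := by rw [hq, one_mul]
  exact (mem_Kc φ).2 ⟨key 4 (by simp), key 32 (by simp)⟩

set_option maxHeartbeats 1000000 in
theorem w_c8 (hd : d = true) : em φ qBC * pe ψ (c9 8) = pe ψ (c9 8) * em φ qBC := by
  have h := nine_facts₂
  simp only [Bool.and_eq_true, eq9_iff, and_assoc, Bool.not_eq_true', ← Bool.not_eq_true] at h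
  obtain ⟨-, hr, ht, h3, h1, h28, h38, -⟩ := h
  have hav := ab_values
  simp only [Bool.and_eq_true, eq8_iff] at hav
  have h8 := L.c9_mem (p := 8) (by decide) (by decide) (.inl hd)
  set w := em φ qBC with hw
  have hq : w * w = 1 := qBC_sq
  set x := pe ψ (c9 8) with hxdef
  have hxc : ∀ v ∈ [2, 16], x * a φ v = a φ v * x := by
    intro v hv
    have hvs : v < 64 ∧ v &&& 36 = 0 ∧ (v = 2 ∨ v = 16) := (by decide : ∀ u ∈ [2, 16], u < 64 ∧ u &&& 36 = 0 ∧ (u = 2 ∨ u = 16)) v hv
    obtain ⟨hv', hv0, hv2⟩ := hvs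
    rw [← L.pe_ab hv' hv0]
    refine L.pe_comm h8 (L.ab_mem hv') ?_
    rcases hv2 with rfl | rfl
    · rw [hav.1.1.2]; exact hr
    · rw [hav.1.2]; exact ht
  obtain ⟨⟨m, hm⟩, v, hv, e⟩ := L.decomp _ (L.mem_Kc_of_w hxc)
  have em' : ψ ⟨m, hm⟩ = pe ψ m := (L.pe_apply hm).symm
  rw [em'] at e
  have C := L.pe_Vc hm hv
  have hm3 : m * m * m = 1 := by
    have e1 : (w * x * w) * (w * x * w) * (w * x * w) = 1 := by
      rw [show (w * x * w) * (w * x * w) * (w * x * w) = w * x * (w * w) * x * (w * w) * x * w by group, hq,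
        mul_one, mul_one, show w * x * x * x * w = w * (x * x * x) * w by group,
        ← L.pe_mul h8 h8, ← L.pe_mul (mul_mem h8 h8) h8, h3, L.pe_one, mul_one, hq]
    rw [e] at e1
    have e2 : pe ψ m * pe ψ m * pe ψ m * a φ v = 1 := by
      calc pe ψ m * pe ψ m * pe ψ m * a φ v = pe ψ m * pe ψ m * pe ψ m * (a φ v * a φ v) * a φ v := by
            rw [a_sq (lt4 v hv), mul_one]
        _ = pe ψ m * a φ v * (pe ψ m * a φ v) * (pe ψ m * a φ v) := by
            have c : Commute (pe ψ m) (a φ v) := C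
            simp only [mul_assoc]
            simp only [c.left_comm]
        _ = 1 := e1
    have e3 : ψ ⟨m * m * m, mul_mem (mul_mem hm hm) hm⟩ = a φ v := by
      rw [← L.pe_apply, L.pe_mul (mul_mem hm hm) hm, L.pe_mul hm hm, eq_inv_of_mul_eq_one_left e2,
        inv_eq_of_mul_eq_one_left (a_sq (lt4 v hv))]
    exact congrArg Subtype.val (L.sep _ v hv e3)
  have hv0 : v = 0 := by
    have e1 : (w * x * w) * (w * x * w) * (w * x * w) = 1 := by
      rw [show (w * x * w) * (w * x * w) * (w * x * w) = w * x * (w * w) * x * (w * w) * x * w by group, hq,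
        mul_one, mul_one, show w * x * x * x * w = w * (x * x * x) * w by group,
        ← L.pe_mul h8 h8, ← L.pe_mul (mul_mem h8 h8) h8, h3, L.pe_one, mul_one, hq]
    rw [e] at e1
    have c : Commute (pe ψ m) (a φ v) := C
    rw [← pow_three', c.mul_pow, pow_three', pow_three', ← L.pe_mul hm hm, ← L.pe_mul (mul_mem hm hm) hm, hm3,
      L.pe_one, one_mul, a_sq (lt4 v hv), one_mul] at e1
    exact L.nine.std.a_inj (lt4 v hv) (by norm_num) (e1.trans a_zero.symm)
  rw [hv0, a_zero, mul_one] at e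
  have hm1 : m ≠ 1 := fun hm1 => h1 (L.pe_inj h8 (one_mem _) (by
    rw [L.pe_one, ← hxdef, show x = w * (w * x * w) * w by
      rw [show w * (w * x * w) * w = (w * w) * x * (w * w) by group, hq]; group, e, hm1, L.pe_one, mul_one, hq]))
  -- commutes with the second four-group
  have hc : ∀ v ∈ [2, 16], m * up89 (ab v) = up89 (ab v) * m := by
    intro v hv
    obtain ⟨hv', hv0', h4⟩ := (by decide : ∀ u ∈ [2, 16], u < 64 ∧ u &&& 36 = 0 ∧ pC u ∈ [0, 4, 32, 36]) v hv
    refine L.pe_inj (mul_mem hm (L.ab_mem hv')) (mul_mem (L.ab_mem hv') hm) ?_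
    rw [L.pe_mul hm (L.ab_mem hv'), L.pe_mul (L.ab_mem hv') hm, L.pe_ab hv' hv0', ← e]
    obtain ⟨-, ev⟩ := w_a (φ := φ) hv'
    rw [← hw] at ev
    have hxv := L.pe_Vc h8 h4
    rw [← hxdef] at hxv
    calc w * x * w * a φ v = w * (x * (w * a φ v * w)) * w := by
          rw [show w * (x * (w * a φ v * w)) * w = w * x * w * a φ v * (w * w) by group, hq, mul_one]
      _ = w * ((w * a φ v * w) * x) * w := by rw [ev, hxv]
      _ = a φ v * (w * x * w) := by
          rw [show w * (w * a φ v * w * x) * w = (w * w) * a φ v * (w * x * w) by group, hq, one_mul]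
  have hr' := hc 2 (by simp)
  have ht' := hc 16 (by simp)
  rw [hav.1.1.2] at hr'
  rw [hav.1.2] at ht'
  obtain ⟨hfix, hmove, hpts⟩ := fixed_facts
  have hpres : ∀ i ∈ pts5, m i ∈ pts5 := by
    intro i hi
    refine hfix (m i) ⟨?_, ?_⟩
    · rw [← Perm.mul_apply, ← hr', Perm.mul_apply, (hpts i hi).1]
    · rw [← Perm.mul_apply, ← ht', Perm.mul_apply, (hpts i hi).2]
  have hcomm : ∀ t ∈ [1, rP, sP * uP, rP * (sP * uP)], ∀ i, m (up89 t i) = up89 t (m i) := by
    intro t ht i
    have : m * up89 t = up89 t * m := by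
      simp only [List.mem_cons, List.not_mem_nil, or_false] at ht
      rcases ht with rfl | rfl | rfl | rfl
      · rw [map_one, mul_one, one_mul]
      · exact hr'
      · exact ht'
      · rw [map_mul up89, ← mul_assoc, hr', mul_assoc, ht', mul_assoc]
    exact DFunLike.congr_fun this i
  have hB : ∀ i : Fin 9, i ∉ pts5 → m i = i := by
    have h4 : m 4 = 4 := by
      have h4' : m 4 ∉ pts5 := fun h => one_not_pts5 (by
        have := hpres _ (hpres _ h)
        rwa [← Perm.mul_apply, ← Perm.mul_apply, hm3] at this)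
      obtain ⟨t, ht, et⟩ := (hmove (m 4)).resolve_left h4'
      exact fix_of_cube hm3 (hcomm t ht) et (trans_cube t ht)
    intro i hi
    obtain ⟨t, ht, et⟩ := (hmove i).resolve_left hi
    rw [← et, hcomm t ht, h4]
  -- the list
  obtain ⟨a0, ha0, e0⟩ : ∃ a0 ∈ pts5, m 0 = a0 := ⟨_, hpres 0 (by simp [pts5]), rfl⟩
  have step : ∀ {p : P9}, (∀ i ∈ pts5, p i ∈ pts5) → (∀ i, i ∉ pts5 → p i = i) → ∀ k ∈ pts5,
      (∀ i ∈ pts5, (swap k (p k) * p) i ∈ pts5) ∧ (∀ i, i ∉ pts5 → (swap k (p k) * p) i = i) ∧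
      (swap k (p k) * p) k = k ∧ ∀ j, p j = j → j ≠ k → (swap k (p k) * p) j = j := by
    intro p hp hp' k hk
    refine ⟨fun i hi => ?_, fun i hi => ?_, by rw [Perm.mul_apply, swap_apply_right], fun j hj hne => ?_⟩
    · rw [Perm.mul_apply]
      rcases eq_or_ne (p i) k with e | e
      · rw [e, swap_apply_left]; exact hp k hk
      rcases eq_or_ne (p i) (p k) with e' | e'
      · rw [e', swap_apply_right]; exact hk
      · rw [swap_apply_of_ne_of_ne e e']; exact hp i hi
    · rw [Perm.mul_apply, hp' i hi, swap_apply_of_ne_of_ne (fun e => hi (by rw [e]; exact hk)) (fun e => hi (by rw [e]; exact hp k hk))]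
    · rw [Perm.mul_apply, hj, swap_apply_of_ne_of_ne hne (fun e => hne (p.injective (hj.trans e)))]
  obtain ⟨A1, A2, A3, -⟩ := step hpres hB 0 (by simp [pts5])
  set m1 := swap 0 (m 0) * m with hm1'
  obtain ⟨B1, B2, B3, B4⟩ := step A1 A2 1 (by simp [pts5])
  set m2 := swap 1 (m1 1) * m1 with hm2'
  obtain ⟨C1, C2, C3, C4⟩ := step B1 B2 2 (by simp [pts5])
  set m3 := swap 2 (m2 2) * m2 with hm3'
  obtain ⟨D1, D2, D3, D4⟩ := step C1 C2 3 (by simp [pts5])
  set m4 := swap 3 (m3 3) * m3 with hm4'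
  have f0 : m4 0 = 0 := D4 0 (C4 0 (B4 0 A3 (by decide)) (by decide)) (by decide)
  have f1 : m4 1 = 1 := D4 1 (C4 1 B3 (by decide)) (by decide)
  have f2 : m4 2 = 2 := D4 2 C3 (by decide)
  have f8 : m4 8 = 8 := by
    have h := D1 8 (by simp [pts5])
    simp only [pts5, List.mem_cons, List.not_mem_nil, or_false] at h
    rcases h with h | h | h | h | h
    · exact absurd (m4.injective (h.trans f0.symm)) (by decide)
    · exact absurd (m4.injective (h.trans f1.symm)) (by decide)
    · exact absurd (m4.injective (h.trans f2.symm)) (by decide)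
    · exact absurd (m4.injective (h.trans D3.symm)) (by decide)
    · exact h
  have hm4 : m4 = 1 := Equiv.ext fun i => by
    by_cases hi : i ∈ pts5
    · simp only [pts5, List.mem_cons, List.not_mem_nil, or_false] at hi
      rcases hi with rfl | rfl | rfl | rfl | rfl
      exacts [f0, f1, f2, D3, f8]
    · exact D2 i hi
  have hform : m = swap 0 (m 0) * swap 1 (m1 1) * swap 2 (m2 2) * swap 3 (m3 3) := by
    calc m = swap 0 (m 0) * swap 1 (m1 1) * swap 2 (m2 2) * swap 3 (m3 3) * m4 := by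
          rw [hm4', hm3', hm2', hm1']
          simp only [mul_assoc, swap_mul_self_mul]
      _ = _ := by rw [hm4, mul_one]
  have rel : ∀ c ∈ [c9 2, c9 3], c ∈ M9 d → w * pe ψ c = pe ψ c * w → c * c9 8 * (c * c9 8) = 1 →
      c * m * (c * m) = 1 := by
    intro c _ hcm hcw hc8
    refine L.pe_inj (mul_mem (mul_mem hcm hm) (mul_mem hcm hm)) (one_mem _) ?_
    rw [L.pe_mul (mul_mem hcm hm) (mul_mem hcm hm), L.pe_mul hcm hm, L.pe_one, ← e, ← w_conj hcw, ← hw]
    calc w * pe ψ c * w * (w * x * w) * (w * pe ψ c * w * (w * x * w))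
        = w * (pe ψ c * (w * w) * x * (w * w) * (pe ψ c * (w * w) * x)) * w := by group
      _ = 1 := by
        rw [hq, mul_one, mul_one, hxdef, ← L.pe_mul hcm h8, ← L.pe_mul (mul_mem hcm h8) (mul_mem hcm h8), hc8,
          L.pe_one, mul_one, hq]
  have r2 := rel (c9 2) (by simp) (L.c9_mem (by decide) (by decide) (.inr (by decide))) L.w_c2 h28
  have r3 := rel (c9 3) (by simp) (L.c9_mem (by decide) (by decide) (.inr (by decide))) L.w_c3 h38
  have tab := five_unique
  simp only [List.all_eq_true] at tab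
  have hb : m1 1 ∈ ([1, 2, 3, 8] : List (Fin 9)) := by
    have h := A1 1 (by simp [pts5])
    simp only [pts5, List.mem_cons, List.not_mem_nil, or_false] at h ⊢
    exact h.resolve_left fun e => absurd (m1.injective (e.trans A3.symm)) (by decide)
  have hc2 : m2 2 ∈ ([2, 3, 8] : List (Fin 9)) := by
    have h := B1 2 (by simp [pts5])
    simp only [pts5, List.mem_cons, List.not_mem_nil, or_false] at h ⊢
    exact (h.resolve_left fun e => absurd (m2.injective (e.trans (B4 0 A3 (by decide)).symm)) (by decide)).resolve_left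
      fun e => absurd (m2.injective (e.trans B3.symm)) (by decide)
  have he3 : m3 3 ∈ ([3, 8] : List (Fin 9)) := by
    have h := C1 3 (by simp [pts5])
    simp only [pts5, List.mem_cons, List.not_mem_nil, or_false] at h ⊢
    exact ((h.resolve_left fun e => absurd (m3.injective (e.trans (C4 0 (B4 0 A3 (by decide)) (by decide)).symm)) (by decide)).resolve_left
      fun e => absurd (m3.injective (e.trans (C4 1 B3 (by decide)).symm)) (by decide)).resolve_left
      fun e => absurd (m3.injective (e.trans C3.symm)) (by decide)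
  have hk := tab (m 0) (hpres 0 (by simp [pts5])) (m1 1) hb (m2 2) hc2 (m3 3) he3
  simp only [← hform, Bool.or_eq_true, Bool.and_eq_true, Bool.not_eq_true', ← Bool.not_eq_true, eq9_iff] at hk
  have hfin : m = c9 8 := hk.resolve_left fun h => h ⟨⟨⟨hm3, hm1⟩, r2⟩, r3⟩
  rw [hfin, ← hxdef] at e
  calc w * x = w * x * (w * w) := by rw [hq, mul_one]
    _ = (w * x * w) * w := by group
    _ = x * w := by rw [e]

theorem w_A {g : P9} (h : g ∈ [c9 2, c9 3] ∨ d = true ∧ g = c9 8) :
    em φ qBC * pe ψ g * em φ qBC = pe ψ g := by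
  refine w_conj ?_
  rcases h with h | ⟨hd, rfl⟩
  · simp only [List.mem_cons, List.not_mem_nil, or_false] at h
    rcases h with rfl | rfl
    exacts [L.w_c2, L.w_c3]
  · exact L.w_c8 hd

end Lifted

end CfsgLib.TwelveCent
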