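import Cfsg.Agent.Lib.TwelveCent.Orbits

/-!
The case in which the conjugates of the central involution are the products over all three quads: the
normaliser of the abelian subgroup contains an element turning one quad.
-/

set_option autoImplicit false
set_option linter.unusedSectionVars false
set_option maxRecDepth 100000

namespace CfsgLib.TwelveCent

open Equiv

/-- the number of quads on which an element is non-trivial -/
def wt (x : ℕ) : ℕ := ((List.range 3).filter fun q => (amask x q).1 != 0).length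

/-- the turn of the first quad -/
def rot (x : ℕ) : ℕ := x - x % 2 - 8 * (x / 8 % 2) + ((x % 2 + x / 8 % 2) % 2) + 8 * (x % 2)

/-- the linear map with given images of a basis -/
def lin6 (l : List ℕ) (x : ℕ) : ℕ :=
  (bif x.testBit 0 then l.getD 0 0 else 0) ^^^ (bif x.testBit 1 then l.getD 1 0 else 0) ^^^
  (bif x.testBit 2 then l.getD 2 0 else 0) ^^^ (bif x.testBit 3 then l.getD 3 0 else 0) ^^^
  (bif x.testBit 4 then l.getD 4 0 else 0) ^^^ (bif x.testBit 5 then l.getD 5 0 else 0)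

theorem oset_wt : ((List.range 64).all fun x => (oset 116).testBit x == (wt x == 3)) = true := by decide +kernel

theorem cnt2_wt : ((List.range 64).all fun x =>
    cnt2 (oset 116) x == [27, 18, 12, 8].getD (wt x) 0 && Nat.ble (wt x) 3) = true := by decide +kernel

theorem lin6_basis : ((List.range 64).all fun x => lin6 [1, 2, 4, 8, 16, 32] x == x) = true := by decide +kernel

theorem rot_table : ((List.range 64).all fun x => Nat.blt (rot x) 64 && rot (rot (rot x)) == x) = true := by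
  decide +kernel

/-- the words arranging the three flips -/
def arr : List (List ℕ) := [[], [2], [3], [2, 3], [3, 2], [2, 3, 2]]

theorem arr_table : ((List.range 64).all fun p => !(wt p == 1) || (List.range 64).all fun q => !(wt q == 1) ||
    !(wt (49 ^^^ p ^^^ q) == 1) || arr.any fun w => w.all (Nat.blt · 4) &&
      [8, 16, 32].map (fun x => lin6 [0, 0, 0, p, q, 49 ^^^ p ^^^ q] (appW w x)) == [1, 16, 32] &&
      [8, 16, 32].all fun x => lin6 [0, 0, 0, 8, 16, 32] (appW w x) == appW w x) = true := by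
  decide +kernel

theorem quad_table : ((List.range 64).all fun x =>
    !(wt x == 1 && wt (x ^^^ 1) == 1) || x == 8 || x == 9) = true ∧ ((List.range 64).all fun x =>
    !(wt x == 1 && wt (x ^^^ 16) == 1) || x == 2 || x == 18) = true ∧ ((List.range 64).all fun x =>
    !(wt x == 1 && wt (x ^^^ 32) == 1) || x == 4 || x == 36) = true := by
  refine ⟨?_, ?_, ?_⟩ <;> decide +kernel

theorem turn_table : ([8, 9].all fun p => [2, 18].all fun q => [4, 36].all fun r => (List.range 64).all fun x =>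
    lin6 [p, q, r, 1, 16, 32] (act 1 x) == rot (rot (act 1 (lin6 [p, q, r, 1, 16, 32] x)))) = true := by
  decide +kernel

variable {G : Type*} [Group G] {φ : X12 →* G}

/-- The case in which exactly the elements moving all twelve letters are conjugate to the central one. -/
structure Nine (φ : X12 →* G) : Prop where
  std : Std φ
  cls : Cls φ 116

/-- an element acting on the abelian subgroup by a map of coordinates -/
def Acts (φ : X12 →* G) (n : G) (σ : ℕ → ℕ) : Prop := ∀ x < 64, σ x < 64 ∧ n * a φ x * n⁻¹ = a φ (σ x)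

theorem Acts.mul {m n : G} {μ ν : ℕ → ℕ} (hm : Acts φ m μ) (hn : Acts φ n ν) : Acts φ (m * n) (μ ∘ ν) := by
  intro x hx
  obtain ⟨h1, h2⟩ := hn x hx
  obtain ⟨h3, h4⟩ := hm _ h1
  exact ⟨h3, by rw [Function.comp_apply, ← h4, ← h2]; group⟩

theorem acts_g4 {i : ℕ} (hi : i < 4) : Acts φ (em φ (g4P i)) (g4 i) :=
  fun _ hx => ⟨(g4_conj hi hx).1, a_conj_g4 hi hx⟩

theorem acts_word : ∀ w : List ℕ, w.all (Nat.blt · 4) = true → ∃ g, Acts φ g (appW w)
  | [], _ => ⟨1, fun x hx => ⟨hx, by simp [appW]⟩⟩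
  | i :: w, h => by
    rw [List.all_cons, Bool.and_eq_true, Nat.blt_eq] at h
    obtain ⟨g, hg⟩ := acts_word w h.2
    exact ⟨em φ (g4P i) * g, (acts_g4 h.1).mul hg⟩

theorem Acts.inv_conj {n : G} {σ : ℕ → ℕ} (hn : Acts φ n σ) {x : ℕ} (hx : x < 64) :
    n⁻¹ * a φ (σ x) * n = a φ x := by
  rw [← (hn x hx).2]; group

theorem em_eA_act1 : act 1 = g4 0 ∧ g4P 0 = eA := ⟨rfl, rfl⟩

theorem xor6 : ((List.range 64).all fun x =>
    lin6 [1, 2, 4, 8, 16, 32] x == x && (List.range 64).all fun y => Nat.blt (x ^^^ y) 64) = true := by decide +kernel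

variable [Finite G]

theorem Acts.map_xor (M : Std φ) {n : G} {σ : ℕ → ℕ} (hn : Acts φ n σ) {x y : ℕ} (hx : x < 64) (hy : y < 64) :
    σ (x ^^^ y) = σ x ^^^ σ y := by
  refine M.a_inj (hn _ (xor_lt hx hy)).1 (xor_lt (hn x hx).1 (hn y hy).1) ?_
  rw [← (hn _ (xor_lt hx hy)).2, ← a_mul hx hy, ← a_mul (hn x hx).1 (hn y hy).1, ← (hn x hx).2, ← (hn y hy).2]
  group

theorem Acts.map_zero (M : Std φ) {n : G} {σ : ℕ → ℕ} (hn : Acts φ n σ) : σ 0 = 0 :=
  M.a_inj (hn 0 (by norm_num)).1 (by norm_num) (by rw [← (hn 0 (by norm_num)).2, a_zero]; group)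

theorem Acts.eq_lin6 (M : Std φ) {n : G} {σ : ℕ → ℕ} (hn : Acts φ n σ) {x : ℕ} (hx : x < 64) :
    σ x = lin6 [σ 1, σ 2, σ 4, σ 8, σ 16, σ 32] x := by
  have h0 := hn.map_zero M
  have hb : ∀ (b : Bool) (k : ℕ), k < 64 → (bif b then k else 0) < 64 ∧
      σ (bif b then k else 0) = bif b then σ k else 0 := by
    intro b k hk
    cases b
    · exact ⟨by norm_num, h0⟩
    · exact ⟨hk, rfl⟩
  have h1 := hb (x.testBit 0) 1 (by norm_num)
  have h2 := hb (x.testBit 1) 2 (by norm_num)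
  have h3 := hb (x.testBit 2) 4 (by norm_num)
  have h4 := hb (x.testBit 3) 8 (by norm_num)
  have h5 := hb (x.testBit 4) 16 (by norm_num)
  have h6 := hb (x.testBit 5) 32 (by norm_num)
  have e := beq_iff_eq.1 (List.all_eq_true.1 lin6_basis x (List.mem_range.2 hx))
  conv_lhs => rw [← e]
  simp only [lin6, List.getD_cons_zero, List.getD_cons_succ]
  rw [hn.map_xor M (xor_lt (xor_lt (xor_lt (xor_lt h1.1 h2.1) h3.1) h4.1) h5.1) h6.1,
    hn.map_xor M (xor_lt (xor_lt (xor_lt h1.1 h2.1) h3.1) h4.1) h5.1,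
    hn.map_xor M (xor_lt (xor_lt h1.1 h2.1) h3.1) h4.1, hn.map_xor M (xor_lt h1.1 h2.1) h3.1,
    hn.map_xor M h1.1 h2.1, h1.2, h2.2, h3.2, h4.2, h5.2, h6.2]

theorem Acts.bij (M : Std φ) {n : G} {σ : ℕ → ℕ} (hn : Acts φ n σ) :
    List.Perm ((List.range 64).map σ) (List.range 64) := by
  have hinj : ∀ x < 64, ∀ y < 64, σ x = σ y → x = y := fun x hx y hy e => M.a_inj hx hy (by
    rw [← hn.inv_conj hx, ← hn.inv_conj hy, e])
  have hsurj : ∀ z < 64, ∃ x < 64, σ x = z := fun z hz => by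
    let F : Fin 64 → Fin 64 := fun x => ⟨σ x.1, (hn x.1 x.2).1⟩
    obtain ⟨x, hx⟩ := Finite.surjective_of_injective (f := F)
      (fun p q e => Fin.ext (hinj p.1 p.2 q.1 q.2 (congrArg Fin.val e))) ⟨z, hz⟩
    exact ⟨x.1, x.2, congrArg Fin.val hx⟩
  refine (List.perm_ext_iff_of_nodup (List.Nodup.map_on (fun p hp q hq e =>
    hinj p (List.mem_range.1 hp) q (List.mem_range.1 hq) e) List.nodup_range) List.nodup_range).2 fun z => ?_
  simp only [List.mem_map, List.mem_range]
  exact ⟨fun ⟨w, hw, e⟩ => e ▸ (hn w hw).1, fun hz => hsurj z hz⟩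

namespace Nine

variable (Y : Nine φ)
include Y

theorem conj_alp {x : ℕ} (hx : x < 64) : IsConj (em φ alp) (a φ x) ↔ wt x = 3 := by
  rw [Y.cls x hx, beq_iff_eq.1 (List.all_eq_true.1 oset_wt x (List.mem_range.2 hx)), beq_iff_eq]

/-- maps of the normaliser preserve the number of quads -/
theorem wt_eq {n : G} {σ : ℕ → ℕ} (hn : Acts φ n σ) {x : ℕ} (hx : x < 64) : wt (σ x) = wt x := by
  have hO : ∀ z < 64, (oset 116).testBit (σ z) = (oset 116).testBit z := fun z hz => by
    refine Bool.eq_iff_iff.2 ?_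
    rw [← Y.cls _ (hn z hz).1, ← Y.cls z hz]
    have : IsConj (a φ z) (a φ (σ z)) := isConj_iff.2 ⟨n, (hn z hz).2⟩
    exact ⟨fun h => h.trans this.symm, fun h => h.trans this⟩
  have hc : cnt2 (oset 116) (σ x) = cnt2 (oset 116) x := by
    rw [cnt2, cnt2, ← List.countP_eq_length_filter, ← List.countP_eq_length_filter,
      ← (hn.bij Y.std).countP_eq, List.countP_map]
    refine List.countP_congr fun z hz => ?_
    rw [List.mem_range] at hz
    simp only [Function.comp_apply]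
    rw [← hn.map_xor Y.std hx hz, hO z hz, hO _ (xor_lt hx hz)]
  have h1 := List.all_eq_true.1 cnt2_wt (σ x) (List.mem_range.2 (hn x hx).1)
  have h2 := List.all_eq_true.1 cnt2_wt x (List.mem_range.2 hx)
  simp only [Bool.and_eq_true, beq_iff_eq, Nat.ble_eq] at h1 h2
  have key : ∀ p ≤ 3, ∀ q ≤ 3, [27, 18, 12, 8].getD p 0 = [27, 18, 12, 8].getD q 0 → p = q := by decide
  exact key _ h1.2 _ h2.2 (by rw [← h1.1, ← h2.1, hc])

/-- conjugate elements of the abelian subgroup lie over equally many quads -/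
theorem wt_of_isConj {x y : ℕ} (hx : x < 64) (hy : y < 64) (h : IsConj (a φ x) (a φ y)) : wt x = wt y := by
  obtain ⟨g, hg⟩ := isConj_iff.1 h
  obtain ⟨n, -, hn, hn'⟩ := Y.std.fusion (K := ⊤) le_top hx hy (Subgroup.mem_top g) hg
  obtain ⟨σ, hσ, -⟩ := Y.std.exists_map hn
  rw [← Y.wt_eq hσ hx, Y.std.a_inj (hσ x hx).1 hy ((hσ x hx).2.symm.trans hn')]

/-- an element turning the first quad and fixing the other two -/
theorem exists_rot : ∃ h, Acts φ h rot := by
  have hwt : wt 49 = 3 ∧ wt 8 = 1 ∧ wt 16 = 1 ∧ wt 32 = 1 ∧ wt 1 = 1 ∧ wt 2 = 1 ∧ wt 4 = 1 ∧ wt 9 = 1 ∧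
      wt 18 = 1 ∧ wt 36 = 1 := by decide +kernel
  obtain ⟨g, hg⟩ := isConj_iff.1 ((Y.conj_alp (by norm_num)).2 hwt.1)
  rw [← a_alp] at hg
  obtain ⟨n, -, hn, hn'⟩ := Y.std.fusion (K := ⊤) le_top (by norm_num) (by norm_num) (Subgroup.mem_top g) hg
  obtain ⟨σ, hσ, -⟩ := Y.std.exists_map hn
  replace hσ : Acts φ n σ := hσ
  have h49 : σ 56 = 49 := Y.std.a_inj (hσ 56 (by norm_num)).1 (by norm_num)
    ((hσ 56 (by norm_num)).2.symm.trans hn')
  -- arrange the images of the three flips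
  have hb : ∀ k ∈ [8, 16, 32], σ k < 64 ∧ wt (σ k) = 1 := by
    intro k hk
    have : k < 64 ∧ wt k = 1 := by revert k; decide +kernel
    exact ⟨(hσ k this.1).1, (Y.wt_eq hσ this.1).trans this.2⟩
  obtain ⟨h8, h8'⟩ := hb 8 (by simp)
  obtain ⟨h16, h16'⟩ := hb 16 (by simp)
  obtain ⟨h32, h32'⟩ := hb 32 (by simp)
  have hsum : σ 32 = 49 ^^^ σ 8 ^^^ σ 16 := by
    have e := hσ.map_xor Y.std (show 56 < 64 by norm_num) (show 24 < 64 by norm_num)
    rw [h49, show (56 : ℕ) ^^^ 24 = 32 from rfl,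
      show (24 : ℕ) = 8 ^^^ 16 from rfl, hσ.map_xor Y.std (by norm_num) (by norm_num)] at e
    rw [e, Nat.xor_assoc]
  have ht := List.all_eq_true.1 arr_table (σ 8) (List.mem_range.2 h8)
  rw [h8', beq_self_eq_true, Bool.not_true, Bool.false_or] at ht
  have ht' := List.all_eq_true.1 ht (σ 16) (List.mem_range.2 h16)
  rw [h16', ← hsum, h32', beq_self_eq_true, Bool.not_true, Bool.false_or, Bool.false_or] at ht'
  obtain ⟨w, -, hw⟩ := List.any_eq_true.1 ht'
  simp only [Bool.and_eq_true, beq_iff_eq, List.all_cons, List.all_nil, List.map_cons, List.map_nil,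
    List.cons.injEq] at hw
  obtain ⟨⟨hw4, he1, he2, he3, -⟩, hc1, hc2, hc3, -⟩ := hw
  obtain ⟨p, hp⟩ := acts_word (φ := φ) w hw4
  set τ := σ ∘ appW w with hτdef
  have hτ : Acts φ (n * p) τ := hσ.mul hp
  have key : ∀ z < 64, lin6 [0, 0, 0, 8, 16, 32] z = z → σ z = lin6 [0, 0, 0, σ 8, σ 16, σ 32] z := by
    intro z hz e
    rw [hσ.eq_lin6 Y.std hz]
    have tab : ((List.range 64).all fun z => !(lin6 [0, 0, 0, 8, 16, 32] z == z) || z % 8 == 0) = true := by
      decide +kernel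
    have h := List.all_eq_true.1 tab z (List.mem_range.2 hz)
    rw [e, beq_self_eq_true, Bool.not_true, Bool.false_or, beq_iff_eq] at h
    have hbits : z.testBit 0 = false ∧ z.testBit 1 = false ∧ z.testBit 2 = false := by
      have tab2 : ((List.range 64).all fun z => z % 8 != 0 || (!z.testBit 0 && !z.testBit 1 && !z.testBit 2)) = true := by
        decide +kernel
      have := List.all_eq_true.1 tab2 z (List.mem_range.2 hz)
      simpa [h, and_assoc] using this
    simp [lin6, hbits.1, hbits.2.1, hbits.2.2]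
  have t8 : τ 8 = 1 := by rw [hτdef, Function.comp_apply, key _ (hp 8 (by norm_num)).1 hc1, he1]
  have t16 : τ 16 = 16 := by rw [hτdef, Function.comp_apply, key _ (hp 16 (by norm_num)).1 hc2, he2]
  have t32 : τ 32 = 32 := by rw [hτdef, Function.comp_apply, key _ (hp 32 (by norm_num)).1 hc3, he3]
  -- the other three images
  have hq : ∀ k l : ℕ, k < 64 → l < 64 → wt k = 1 → wt (k ^^^ l) = 1 → τ k < 64 ∧
      (wt (τ k) == 1 && wt (τ k ^^^ τ l) == 1) = true := fun k l hk hl e e' => by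
    refine ⟨(hτ k hk).1, ?_⟩
    rw [← hτ.map_xor Y.std hk hl, Y.wt_eq hτ hk, Y.wt_eq hτ (xor_lt hk hl), e, e']
    rfl
  have pick : ∀ {z l c d : ℕ}, z < 64 → (wt z == 1 && wt (z ^^^ l) == 1) = true →
      ((List.range 64).all fun x => !(wt x == 1 && wt (x ^^^ l) == 1) || x == c || x == d) = true → z ∈ [c, d] := by
    intro z l c d hz h tab
    have := List.all_eq_true.1 tab z (List.mem_range.2 hz)
    rw [h] at this
    simpa using this
  obtain ⟨ha, ha'⟩ := hq 1 8 (by norm_num) (by norm_num) hwt.2.2.2.2.1 hwt.2.2.2.2.2.2.2.1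
  obtain ⟨hbb, hb'⟩ := hq 2 16 (by norm_num) (by norm_num) hwt.2.2.2.2.2.1 hwt.2.2.2.2.2.2.2.2.1
  obtain ⟨hcc, hc'⟩ := hq 4 32 (by norm_num) (by norm_num) hwt.2.2.2.2.2.2.1 hwt.2.2.2.2.2.2.2.2.2
  rw [t8] at ha'
  rw [t16] at hb'
  rw [t32] at hc'
  have hmem := List.all_eq_true.1 (List.all_eq_true.1 (List.all_eq_true.1 turn_table _
    (pick ha ha' quad_table.1)) _ (pick hbb hb' quad_table.2.1)) _ (pick hcc hc' quad_table.2.2)
  have hA : Acts φ (em φ eA) (act 1) := acts_g4 (φ := φ) (i := 0) (by norm_num)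
  set g0 := n * p
  have hA2 : em φ eA * em φ eA = 1 := by
    rw [← em_mul φ (show eA ∈ X12 from g4P_mem 0) (show eA ∈ X12 from g4P_mem 0),
      show eA * eA = 1 from same_iff.1 (by decide +kernel), em_one]
  have hturn : Acts φ (g0 * em φ eA * g0⁻¹ * em φ eA) (rot ∘ rot) := by
    intro x hx
    obtain ⟨h1, h2⟩ := hA x hx
    obtain ⟨z, hz, hz'⟩ : ∃ z < 64, τ z = act 1 x := by
      have := ((hτ.bij Y.std).mem_iff).2 (List.mem_range.2 h1)
      simpa using this
    have e := beq_iff_eq.1 (List.all_eq_true.1 hmem z (List.mem_range.2 hz))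
    have hl : lin6 [τ 1, τ 2, τ 4, τ 8, τ 16, τ 32] = lin6 [τ 1, τ 2, τ 4, 1, 16, 32] := by rw [t8, t16, t32]
    have ez : ∀ y < 64, τ y = lin6 [τ 1, τ 2, τ 4, 1, 16, 32] y := fun y hy => by
      rw [← hl]; exact hτ.eq_lin6 Y.std hy
    rw [← ez _ (hA z hz).1, ← ez z hz, hz'] at e
    have hinv : act 1 (act 1 x) = x := by
      have tab : ((List.range 64).all fun x => act 1 (act 1 x) == x) = true := by decide +kernel
      exact beq_iff_eq.1 (List.all_eq_true.1 tab x (List.mem_range.2 hx))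
    rw [hinv] at e
    rw [Function.comp_apply, ← e]
    refine ⟨(hτ _ (hA z hz).1).1, ?_⟩
    rw [← (hτ _ (hA z hz).1).2, ← (hA z hz).2, ← hτ.inv_conj hz, hz', ← h2,
      inv_eq_of_mul_eq_one_left hA2]
    simp only [mul_inv_rev, inv_inv, inv_eq_of_mul_eq_one_left hA2, mul_assoc]
  refine ⟨(g0 * em φ eA * g0⁻¹ * em φ eA) * (g0 * em φ eA * g0⁻¹ * em φ eA), fun x hx => ?_⟩
  obtain ⟨h1, h2⟩ := (hturn.mul hturn) x hx
  have hr : ∀ x < 64, rot x < 64 ∧ rot (rot (rot x)) = x := fun x hx => by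
    have := List.all_eq_true.1 rot_table x (List.mem_range.2 hx)
    simpa [Nat.blt_eq] using this
  have e : ((rot ∘ rot) ∘ (rot ∘ rot)) x = rot x := (hr _ (hr x hx).1).2
  exact ⟨e ▸ h1, e ▸ h2⟩

end Nine

end CfsgLib.TwelveCent
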